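import Cfsg.Agent.U5F.Defs
import Cfsg.Agent.Fus.EssBridge

/-! The strongly `p`-embedded subgroup at an essential subgroup. -/

set_option autoImplicit false
set_option linter.unusedSectionVars false

namespace Cfsg.Lib.U5F

open Cfsg Cfsg.FusionSystem Subgroup Equiv Cfsg.Lib.Fus Cfsg.Lib.Solv

variable {G : Type*} [Group G] [Finite G] {p : ℕ} [Fact p.Prime] {E : Subgroup G}

theorem sem_of_essential (hG : IsPGroup p G) {F : FusionSystem (⊤ : Subgroup G)}
    (hF : F.IsSaturated p) (hE : F.IsEssential p E) : ∃ M, SEm p E (F.autGroup E) M := by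
  have hS : IsPGroup p (⊤ : Subgroup G) := hG.to_subgroup _
  have hle : closure {α | Extendable F E α} ≤ F.autGroup E := (closure_le _).2 fun _ h => h.mem
  have := finite_autGroup F hE.1.1
  have hT := sat_sylIn hS hF hE.2.1
  have h1 : ∀ g ∈ F.autGroup E, ∀ t ∈ autInducedBy ⊤ E, t ∉ Inn E →
      g * t * g⁻¹ ∈ autInducedBy ⊤ E → g ∈ closure {α | Extendable F E α} :=
    fun g hg t ht ht1 e => subset_closure
      ((extendable_iff_of_isCentric hS hF hE.1 hg).2 ⟨t, ht, ht1, e⟩)
  have h2 : autInducedBy ⊤ E ≤ closure {α | Extendable F E α} := fun t ht => by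
    obtain ⟨u, hu, hu'⟩ := SetLike.not_le_iff_exists.1
      (not_autInducedBy_le_inn hS (isCentric_self hE.1) (lt_of_isEssential hS hF hE))
    exact h1 t (hT.le ht) u hu hu' (mul_mem (mul_mem ht hu) (inv_mem ht))
  refine ⟨_, hT, h2, fun k => closure_extendable_ne_of_isEssential hS hF hE (le_antisymm hle k),
    fun g hg t ht ht1 e => ?_⟩
  have := finite_of_le hle
  obtain ⟨k, hk⟩ := PG.exists_pow_prime_pow_eq_one hT.pgroup ht
  obtain ⟨a, ha, h⟩ := (hT.mono h2 hle).exists_conj (zpowers_le.2 e)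
    (isPGroup_zpowers_of_pow (p := p) (j := k) (by rw [conj_pow, hk]; simp))
  have := h1 (a * g) (mul_mem (hle ha) hg) t ht ht1
    (by simpa [mul_assoc] using h _ (mem_zpowers _))
  exact (mul_mem_cancel_left ha).1 this

end Cfsg.Lib.U5F
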