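import Cfsg.Agent.U5F.Semi

/-! Fusion systems over a Sylow subgroup of `SU₅(q)`: the group induced on `K²`. -/

set_option autoImplicit false
set_option linter.unusedSectionVars false

namespace Cfsg.Lib.U5F

open Cfsg Cfsg.FusionSystem Subgroup Equiv Cfsg.Lib.Fus

universe u v

variable {K : Type u} [Field K] [StarRing K] [Finite K] [UF K]

namespace Lin2

variable {X : Subgroup (Perm (K × K))} (h : Hy2 X)
include h

theorem zero {g : Perm (K × K)} (hg : g ∈ X) : g 0 = 0 := by simpa using h.add g hg 0 0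

theorem move {g : Perm (K × K)} (hg : g ∈ X) (hn : ¬ P2 g) :
    ∃ t : K, ∀ a, ((u2 t * g : Perm (K × K)) (a, 0)).1 = 0 := by
  obtain ⟨v, hv⟩ := h.line g hg
  have h2 : v.2 ≠ 0 := fun e => hn fun a => by
    obtain ⟨c, hc⟩ := hv a
    rw [hc, Prod.smul_snd, e, smul_zero]
  refine ⟨-v.1 / v.2, fun a => ?_⟩
  obtain ⟨c, hc⟩ := hv a
  rw [Perm.mul_apply, hc]
  change c * v.1 + -v.1 / v.2 * (c * v.2) = 0
  field_simp
  ring

omit h in
theorem onto {g : Perm (K × K)} (h1 : ∀ a, (g (a, 0)).1 = 0) :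
    Function.Bijective fun a => (g (a, 0)).2 :=
  Finite.injective_iff_bijective.1 fun a a' e =>
    (Prod.mk.inj (g.injective (Prod.ext ((h1 a).trans (h1 a').symm) e))).1

theorem exists_n : ∃ n ∈ X, (∀ a, (n (a, 0)).1 = 0) ∧ ∀ b, (n (0, b)).2 = 0 := by
  obtain ⟨g, hg, hn⟩ := h.mv
  obtain ⟨t, ht⟩ := move h hg hn
  have m1 := mul_mem (h.u t) hg
  generalize u2 t * g = g1 at ht m1
  obtain ⟨t', ht'⟩ := move h (inv_mem m1) fun e => by
    have e1 : g1⁻¹ (1, 0) = ((g1⁻¹ (1, 0)).1, 0) := Prod.ext rfl (e 1)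
    have e2 := ht (g1⁻¹ (1, 0)).1
    rw [← e1, perm_apply_inv] at e2
    exact one_ne_zero e2
  refine ⟨_, inv_mem (mul_mem (h.u t') (inv_mem m1)), fun a => ?_, fun b => ?_⟩
  · have : (u2 t')⁻¹ (a, 0) = (a, 0) := by
      rw [Perm.inv_eq_iff_eq, u2_apply, mul_zero, add_zero]
    rw [mul_inv_rev, inv_inv, Perm.mul_apply, this, ht]
  · obtain ⟨a, ha⟩ := (onto ht').2 b
    have : (u2 t' * g1⁻¹)⁻¹ (0, b) = (a, 0) :=
      Perm.inv_eq_iff_eq.2 (Prod.ext (ht' a).symm ha.symm)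
    rw [this]

theorem exists_semi : ∃ n ∈ X, ∃ (c c' : K) (σ : K ≃+* K), c ≠ 0 ∧ c' ≠ 0 ∧
    ∀ a b, n (a, b) = (c * σ b, c' * σ a) := by
  obtain ⟨n, hn, h1, h2⟩ := exists_n h
  have e : ∀ a b, n (a, b) = ((n (0, b)).1, (n (a, 0)).2) := fun a b => by
    have := h.add n hn (a, 0) (0, b)
    rw [Prod.mk_add_mk, add_zero, zero_add] at this
    rw [this]
    exact Prod.ext (by rw [Prod.fst_add, h1, zero_add]) (by rw [Prod.snd_add, h2, add_zero])
  have hb := onto h1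
  have z : ∀ x, x ≠ 0 → (n (x, 0)).2 ≠ 0 := fun x hx e' =>
    hx (hb.1 (e'.trans (congrArg Prod.snd (zero h hn)).symm))
  have b1 : (n (0, 1)).1 ≠ 0 := fun e' => one_ne_zero
    (Prod.mk.inj (n.injective ((Prod.ext e' (h2 1)).trans (zero h hn).symm))).2
  obtain ⟨σ, hσ⟩ := semi (β := fun b => (n (0, b)).1) (β' := fun a => (n (a, 0)).2)
    (fun a b => by
      have := h.add n hn (a, 0) (b, 0)
      rw [Prod.mk_add_mk, add_zero] at this
      rw [this, Prod.snd_add]) hb b1 fun x hx => by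
      obtain ⟨v, hv⟩ := h.line _ (mul_mem (mul_mem hn (h.u x)) hn)
      have k : ∀ t, ∃ c : K, (n (0, t)).1 = c * v.1 ∧ (n (x * t, 0)).2 = c * v.2 := fun t => by
        obtain ⟨a, ha⟩ := hb.2 t
        obtain ⟨c, hc⟩ := hv a
        have e1 : n (a, 0) = (0, t) := Prod.ext (h1 a) ha
        rw [Perm.mul_apply, Perm.mul_apply, e1, u2_apply, zero_add, e] at hc
        exact ⟨c, congrArg Prod.fst hc, congrArg Prod.snd hc⟩
      have h3 : v.2 ≠ 0 := fun e' => by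
        obtain ⟨c, -, hc⟩ := k 1
        rw [e', mul_zero, mul_one] at hc
        exact z x hx hc
      refine ⟨v.1 / v.2, fun t => ?_⟩
      obtain ⟨c, c1, c2⟩ := k t
      rw [c1, c2]
      field_simp
  exact ⟨n, hn, _, _, σ, b1, z 1 one_ne_zero, fun a b =>
    (e a b).trans (Prod.ext (hσ b).2 (hσ a).1)⟩

theorem lower (r : K) : ∃ g ∈ X, ∀ a b, g (a, b) = (a, b + r * a) := by
  obtain ⟨n, hn, c, c', σ, c0, c0', e⟩ := exists_semi h
  refine ⟨_, mul_mem (mul_mem hn (h.u (σ.symm (r * c / c')))) (inv_mem hn), fun a b => ?_⟩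
  have : n⁻¹ (a, b) = (σ.symm (b / c'), σ.symm (a / c)) := by
    rw [Perm.inv_eq_iff_eq, e, σ.apply_symm_apply, σ.apply_symm_apply, mul_div_cancel₀ _ c0,
      mul_div_cancel₀ _ c0']
  rw [Perm.mul_apply, Perm.mul_apply, this, u2_apply, e]
  simp only [map_add, map_mul, RingEquiv.apply_symm_apply]
  refine Prod.ext ?_ ?_ <;> simp only <;> field_simp

theorem weyl {r : K} (hr : r ≠ 0) : ∃ g ∈ X, ∀ a b, g (a, b) = (r * b, -r⁻¹ * a) := by
  obtain ⟨g, hg, e⟩ := lower h (-r⁻¹)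
  refine ⟨_, mul_mem (mul_mem (h.u r) hg) (h.u r), fun a b => ?_⟩
  rw [Perm.mul_apply, Perm.mul_apply, u2_apply, e, u2_apply]
  refine Prod.ext ?_ ?_ <;> simp only <;> field_simp <;> ring

end Lin2

theorem lin2 {X : Subgroup (Perm (K × K))} (h : Hy2 X) : n2 ∈ X ∧
    (∀ m : K, m ≠ 0 → ∃ g ∈ X, ∀ a b, g (a, b) = (m * a, m⁻¹ * b)) ∧
    ∀ g ∈ X, P2 g ∨ ∃ t, P2 (n2⁻¹ * u2 t * g) := by
  have h1 : n2 ∈ X := by
    obtain ⟨g, hg, e⟩ := Lin2.weyl h one_ne_zero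
    have : g = n2 := Equiv.ext fun v => by
      rw [show v = (v.1, v.2) from rfl, e, n2_apply]; simp
    exact this ▸ hg
  refine ⟨h1, fun m hm => ?_, fun g hg => ?_⟩
  · obtain ⟨g, hg, e⟩ := Lin2.weyl h hm
    refine ⟨_, mul_mem hg (inv_mem h1), fun a b => ?_⟩
    rw [Perm.mul_apply, show n2⁻¹ (a, b) = (-b, a) from rfl, e, neg_mul_neg]
  · refine or_iff_not_imp_left.2 fun hn => ?_
    obtain ⟨t, ht⟩ := Lin2.move h hg hn
    exact ⟨t, ht⟩

end Cfsg.Lib.U5F
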