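import Cfsg.Agent.U5F.B2
import Cfsg.Agent.U5F.Lin2

/-! The group induced on `Q₂ / A` and the torus of the Levi factor `SL₂(q²)`. -/

set_option autoImplicit false
set_option linter.unusedSectionVars false

namespace Cfsg.Lib.U5F

open Cfsg Cfsg.FusionSystem Subgroup Equiv Cfsg.Lib.Fus

universe u

variable {K : Type u} [Field K] [StarRing K] [Finite K] [UF K] {p : ℕ} [Fact p.Prime] [CharP K p]
variable {F F' : FusionSystem (⊤ : Subgroup (U K))} {f : Perm (U K)}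

namespace H2

theorem pi2_mul {g h : U K} (hg : g ∈ Q2 K) : pi2 (g * h) = pi2 g + pi2 h := by
  have h1 : g.t = 0 := hg
  simp [pi2, h1]

theorem cm_Q2 {g x : U K} (hg : g ∈ Q2 K) (hx : x ∈ Q2 K) :
    (x⁻¹ * (g * x * g⁻¹)).x1 = x.y1 * star g.y1 - g.y1 * star x.y1 ∧
      (x⁻¹ * (g * x * g⁻¹)).s = x.y1 * star g.y2 - g.y1 * star x.y2 := by
  have h1 : g.t = 0 := hg
  have h2 : x.t = 0 := hx
  constructor <;> simp [h1, h2] <;> ring

theorem exists_cm {x z : U K} (hx : x ∈ Q2 K) (h1 : pi2 x = (1, 0)) (hz : z ∈ Z2 K) :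
    ∃ g ∈ Q2 K, x⁻¹ * (g * x * g⁻¹) = z := by
  obtain ⟨y, hy⟩ := exists_im (c := z.x1) (by simpa [hz.2.1] using z.h1)
  obtain ⟨g, hg, e⟩ := exists_Q2 (star y, star z.s)
  have g1 : g.y1 = star y := congrArg Prod.fst e
  have g2 : g.y2 = star z.s := congrArg Prod.snd e
  have x1 : x.y1 = 1 := congrArg Prod.fst h1
  have x2 : x.y2 = 0 := congrArg Prod.snd h1
  have hA := cm_A hg hx
  obtain ⟨c1, c2⟩ := cm_Q2 hg hx
  refine ⟨g, hg, U.ext (hA.1.trans hz.1.symm) (hA.2.1.trans hz.2.1.symm)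
    (hA.2.2.trans hz.2.2.1.symm) ?_ ?_ ?_⟩
  · rw [c1, g1, x1, ← hy]; simp
  · rw [c2, g2, x1, x2]; simp
  · rw [cm_x2, x2, hz.2.2.2]; simp

theorem dep {x x' : U K} (hx : x ∈ Q2 K) (hx' : x' ∈ Q2 K) (h0 : pi2 x ≠ 0)
    (h : ∀ g ∈ Q2 K, ∃ g' ∈ Q2 K, x⁻¹ * (g' * x * g'⁻¹) = x'⁻¹ * (g * x' * g⁻¹)) :
    ∃ c : K, pi2 x' = c • pi2 x := by
  have key : ∀ a b : K, (x.y2 * x'.y1 - x.y1 * x'.y2) * (star a * star x.y2 - star b * star x.y1) =
      star (x.y2 * x'.y1 - x.y1 * x'.y2) * (a * x.y2 - b * x.y1) := by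
    intro a b
    obtain ⟨g, hg, e⟩ := exists_Q2 (a, b)
    have g1 : g.y1 = a := congrArg Prod.fst e
    have g2 : g.y2 = b := congrArg Prod.snd e
    obtain ⟨k, hk, e'⟩ := h g hg
    have e1 := (cm_Q2 hk hx).1.symm.trans ((congrArg U.x1 e').trans (cm_Q2 hg hx').1)
    have e2 := (cm_Q2 hk hx).2.symm.trans ((congrArg U.s e').trans (cm_Q2 hg hx').2)
    have e3 := (cm_x2 k x).symm.trans ((congrArg U.x2 e').trans (cm_x2 g x'))
    have e4 := congrArg star e2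
    rw [g1] at e1
    rw [g1, g2] at e2 e4
    rw [g2] at e3
    simp only [star_sub, star_mul', star_star] at e4 ⊢
    linear_combination -(x.y2 * star x.y2) * e1 + (x.y2 * star x.y1) * e2 -
      (x.y1 * star x.y2) * e4 - (x.y1 * star x.y1) * e3
  have d1 : (x.y2 * x'.y1 - x.y1 * x'.y2) * star x.y2 = 0 := eq_zero_of_real fun t => by
    have := key t 0
    rw [star_mul' _ (star x.y2), star_star]
    rw [star_zero] at this
    linear_combination this
  have d2 : (x.y2 * x'.y1 - x.y1 * x'.y2) * star x.y1 = 0 := eq_zero_of_real fun t => by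
    have := key 0 t
    rw [star_mul' _ (star x.y1), star_star]
    rw [star_zero] at this
    linear_combination -this
  by_cases h1 : x.y1 = 0
  · have h2 : x.y2 ≠ 0 := fun e => h0 (Prod.ext h1 e)
    have d := (mul_eq_zero.1 d1).resolve_right (star_ne_zero.2 h2)
    rw [h1, zero_mul, sub_zero] at d
    refine ⟨x'.y2 / x.y2, Prod.ext ?_ ?_⟩
    · show x'.y1 = x'.y2 / x.y2 * x.y1
      rw [h1, mul_zero]
      exact (mul_eq_zero.1 d).resolve_left h2
    · show x'.y2 = x'.y2 / x.y2 * x.y2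
      field_simp
  · have d := (mul_eq_zero.1 d2).resolve_right (star_ne_zero.2 h1)
    refine ⟨x'.y1 / x.y1, Prod.ext ?_ ?_⟩
    · show x'.y1 = x'.y1 / x.y1 * x.y1
      field_simp
    · show x'.y2 = x'.y1 / x.y1 * x.y2
      field_simp
      linear_combination -d

theorem add {φ : Perm (K × K)} (hφ : φ ∈ X2 F) (v w : K × K) : φ (v + w) = φ v + φ w := by
  obtain ⟨f, hf, e⟩ := hφ
  obtain ⟨g, hg, rfl⟩ := exists_Q2 v
  obtain ⟨k, hk, rfl⟩ := exists_Q2 w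
  rw [← pi2_mul hg, ← e _ (mul_mem hg hk), hf.map_mul hg hk, pi2_mul (hf.maps hg), e g hg, e k hk]

theorem line {φ : Perm (K × K)} (hφ : φ ∈ X2 F) (a : K) : ∃ c : K, φ (a, 0) = c • φ (1, 0) := by
  have h0 : φ 0 = 0 := by simpa using add hφ 0 0
  obtain ⟨f, hf, e⟩ := hφ
  obtain ⟨x, hx, ex⟩ := exists_Q2 ((1, 0) : K × K)
  obtain ⟨x', hx', ex'⟩ := exists_Q2 ((a, 0) : K × K)
  rw [← ex, ← ex', ← e x hx, ← e x' hx']
  have cm : ∀ u ∈ Q2 K, ∀ g ∈ Q2 K, f (u⁻¹ * (g * u * g⁻¹)) = (f u)⁻¹ * (f g * f u * (f g)⁻¹) :=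
    fun u hu g hg => by
      rw [hf.map_mul (inv_mem hu) (mul_mem (mul_mem hg hu) (inv_mem hg)), hf.map_conj hg hu,
        hf.mor.map_inv hu]
  refine dep (hf.maps hx) (hf.maps hx') ?_ fun g hg => ?_
  · rw [e x hx, ex, ← h0]
    exact fun h => one_ne_zero (congrArg Prod.fst (φ.injective h))
  · have hg' := hf.inv_maps hg
    obtain ⟨k, hk, e'⟩ := exists_cm hx ex (cm_Z3_Z2 (f⁻¹ g) (x := x') ⟨hx', congrArg Prod.snd ex'⟩)
    refine ⟨f k, hf.maps hk, ?_⟩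
    rw [← cm x hx k hk, e', cm x' hx' _ hg', perm_apply_inv]

end H2

theorem hy2 (hF : F.IsSaturated p) (hE : F.IsEssential p (Q2 K)) : Hy2 (X2 F) := by
  refine ⟨fun φ hφ => H2.add hφ, fun t => ?_, fun φ hφ => ⟨_, H2.line hφ⟩, ?_⟩
  · exact ⟨Fus.cj (tEl t 0), PIso.cj F le_top (mem_normalizerIn_of_finite (mem_top _)
      fun x hx => Normal.conj_mem inferInstance x hx _), fun g hg => pi2_conj (tEl t 0) hg⟩
  · by_contra hn
    refine closure_extendable_ne_of_isEssential (isP_top p) hF hE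
      (le_antisymm ((closure_le _).2 fun α hα => Extendable.mem hα) fun α hα => subset_closure ?_)
    have hf := piso_pext_of_mem le_top hα
    obtain ⟨φ, hφ, e⟩ := exists_X2 hf
    obtain ⟨k, hk, e'⟩ := ext2 hF hf e (by_contra fun h => hn ⟨φ, hφ, h⟩)
    refine ⟨⊤, k, lt_top_iff_ne_top.2 fun h => ?_, hk.mor, fun x hx => (e' x hx).symm⟩
    exact one_ne_zero (show (tEl (1 : K) 0).t = 0 from (h.ge (mem_top (tEl (1 : K) 0)) :))

theorem tor2 (hF : F.IsSaturated p) (hs : Std F) (hE : F.IsEssential p (Q2 K)) : Tor2 F := by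
  intro m hm
  obtain ⟨φ, ⟨f, hf, e⟩, hφ⟩ := (lin2 (hy2 hF hE)).2.1 m hm
  obtain ⟨k, hk, e'⟩ := ext2 hF hf e fun a => by rw [hφ, mul_zero]
  obtain ⟨u, a, b, σ, hσ, -, -, e''⟩ := hs k hk
  have key : ∀ y1 y2 : K, a * σ y1 + u.t * (b * σ y2) = m * y1 ∧ b * σ y2 = m⁻¹ * y2 := by
    intro y1 y2
    obtain ⟨g, hg, eg⟩ := exists_Q2 (y1, y2)
    have g1 : g.y1 = y1 := congrArg Prod.fst eg
    have g2 : g.y2 = y2 := congrArg Prod.snd eg
    have hg' : gam a b σ hσ g ∈ Q2 K := by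
      have : g.t = 0 := hg
      show _ = _
      simp [this]
    have := e g hg
    rw [e' g hg, e'', pi2_conj u hg', eg, hφ, pi2, u2_apply, gam_y1, gam_y2, g1, g2] at this
    exact Prod.mk.inj this
  have ha : a = m := by simpa using (key 1 0).1
  have hb : b = m⁻¹ := by simpa using (key 0 1).2
  subst ha hb
  have hσ' : ∀ x, σ x = x := fun x => mul_left_cancel₀ hm (by simpa using (key x 0).1)
  refine (hk.mor.conj_comp (mem_top u⁻¹)).congr fun g _ => ?_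
  rw [e'', gam_congr hσ']
  group

end Cfsg.Lib.U5F
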