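import Cfsg.Agent.U5F.H1
import Cfsg.Agent.U5F.H2

/-! Comparison of two fusion systems containing the Weyl elements. -/

set_option autoImplicit false
set_option linter.unusedSectionVars false

namespace Cfsg.Lib.U5F

open Cfsg Cfsg.FusionSystem Subgroup Equiv Cfsg.Lib.Fus U

universe u

variable {K : Type u} [Field K] [StarRing K] [Finite K] [UF K] {p : ℕ} [Fact p.Prime] [CharP K p]
variable {F F' : FusionSystem (⊤ : Subgroup (U K))} {f : Perm (U K)}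

namespace Cmp

theorem of_ext (h : ∀ f, PIso F f ⊤ ⊤ → Mor F' ⊤ f) {Q : Subgroup (U K)} (he : Ext F Q f) :
    Mor F' Q f := by
  obtain ⟨k, hk, e⟩ := he
  exact ((h k hk).restrict le_top).congr fun x hx => (e x hx).symm

theorem back {Q : Subgroup (U K)} {n : Perm (U K)} {k : U K} (hn : PIso F' n Q Q)
    (hm : ∀ x ∈ Q, (n⁻¹ * (cj k * f)) x ∈ Q) (h : Mor F' Q (n⁻¹ * (cj k * f) : Perm (U K))) :
    Mor F' Q f :=
  ((h.pmul hn.mor hm).conj_comp (mem_top k⁻¹)).congr fun x _ => by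
    simp only [Perm.mul_apply, perm_apply_inv, cj_apply]; group

theorem case2 (hF : F.IsSaturated p) (hw : Wey F) (hw' : Wey F')
    (h : ∀ f, PIso F f ⊤ ⊤ → Mor F' ⊤ f) (hE : F.IsEssential p (Q2 K))
    (hf : PIso F f (Q2 K) (Q2 K)) : Mor F' (Q2 K) f := by
  obtain ⟨φ, hφ, e⟩ := exists_X2 hf
  rcases (lin2 (hy2 hF hE)).2.2 φ hφ with h2 | ⟨t, h2⟩
  · exact of_ext h (ext2 hF hf e h2)
  have hf' := (hf.trans (H1.piso_cj F (Q2 K) (tEl t 0))).trans hw.2.symm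
  refine back hw'.2 (fun _ hx => hf'.maps hx) (of_ext h (ext2 hF hf' (fun g hg => ?_) h2))
  rw [Perm.mul_apply, Perm.mul_apply, Perm.mul_apply, Perm.mul_apply, Perm.eq_inv_iff_eq,
    ← pi2_nu2, perm_apply_inv, cj_apply, pi2_conj _ (hf.maps hg), e g hg]
  rfl

theorem case1 (hF : F.IsSaturated p) (hs : Std F) (hw : Wey F) (hw' : Wey F')
    (h : ∀ f, PIso F f ⊤ ⊤ → Mor F' ⊤ f) (hE : F.IsEssential p (Q1 K))
    (hf : PIso F f (Q1 K) (Q1 K)) : Mor F' (Q1 K) f := by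
  obtain ⟨φ, hφ, e⟩ := exists_X3 hf
  rcases (lin3 (hy3 hF hs hE) (bo3 hF hs)).2.2 φ hφ with h2 | ⟨y, x, hx, h2⟩
  · exact of_ext h (ext1 hF hf e h2)
  have hf' := (hf.trans (H1.piso_cj F (Q1 K) (H1.rEl y x hx))).trans hw.1.symm
  refine back hw'.1 (fun _ hx => hf'.maps hx) (of_ext h (ext1 hF hf' (fun g hg => ?_) h2))
  have hn : ∀ z : U K, nu1⁻¹ z = nu1 z := fun z => by rw [Perm.inv_eq_iff_eq, nu1_nu1]
  rw [Perm.mul_apply, Perm.mul_apply, Perm.mul_apply, Perm.mul_apply, hn, pi3_nu1,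
    H1.pi3_rEl hx (hf.maps hg), e g hg]

end Cmp

theorem sub_of_wey (hF : F.IsSaturated p) (hs : Std F) (hw : Wey F) (hw' : Wey F')
    (h : ∀ f, PIso F f ⊤ ⊤ → Mor F' ⊤ f) : F.IsSubsystemOf F' :=
  sub_of_alperin_essential (isP_top p) hF fun Q hQ _ f hf => by
    rcases hQ with rfl | hE
    · exact h f hf
    rcases ess_eq hF hE with rfl | rfl
    · exact Cmp.case1 hF hs hw hw' h hE hf
    · exact Cmp.case2 hF hw hw' h hE hf

end Cfsg.Lib.U5F
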