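import Cfsg.Agent.U5F.Fld

/-! Orders of the standard subgroups of `U K`. -/

set_option autoImplicit false
set_option linter.unusedSectionVars false

namespace Cfsg.Lib.U5F

variable {K : Type*} [Field K] [StarRing K] [Finite K] [UF K]

namespace Card

/-- Admissible pairs. -/
abbrev Ad (K : Type*) [Field K] [StarRing K] := {v : K × K // star v.2 = -v.2 - v.1 * star v.1}

/-- Skew elements. -/
abbrev Sk (K : Type*) [Field K] [StarRing K] := {x : K // star x = -x}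

theorem card_Ad : Nat.card (Ad K) = qq K ^ 3 := by
  have := Fintype.ofFinite K
  rw [Nat.card_congr (Equiv.subtypeProdEquivSigmaSubtype fun y x : K => star x = -x - y * star y),
    Nat.card_sigma]
  simp only [card_adm, Finset.sum_const, Finset.card_univ, smul_eq_mul, ← Nat.card_eq_fintype_card,
    card_K]
  ring

theorem sk {x : K} (h : star x = -x) : star x = -x - 0 * star 0 := by simpa using h

theorem sk' {x y : K} (h : star x = -x - y * star y) (h0 : y = 0) : star x = -x := by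
  simpa [h0] using h

end Card

open Card

theorem card_U : Nat.card (U K) = qq K ^ 10 := by
  rw [Nat.card_congr (β := K × K × Ad K × Ad K)
    ⟨fun g => (g.t, g.s, ⟨(g.y1, g.x1), g.h1⟩, ⟨(g.y2, g.x2), g.h2⟩),
      fun v => ⟨v.1, v.2.2.1.1.1, v.2.2.2.1.1, v.2.2.1.1.2, v.2.1, v.2.2.2.1.2, v.2.2.1.2, v.2.2.2.2⟩,
      fun _ => rfl, fun _ => rfl⟩]
  simp only [Nat.card_prod, card_K, card_Ad]; ring

theorem card_Q2 : Nat.card (Q2 K) = qq K ^ 8 := by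
  rw [Nat.card_congr (β := K × Ad K × Ad K)
    ⟨fun g => (g.1.s, ⟨(g.1.y1, g.1.x1), g.1.h1⟩, ⟨(g.1.y2, g.1.x2), g.1.h2⟩),
      fun v => ⟨⟨0, v.2.1.1.1, v.2.2.1.1, v.2.1.1.2, v.1, v.2.2.1.2, v.2.1.2, v.2.2.2⟩, rfl⟩,
      fun g => Subtype.ext (U.ext (mem_Q2.1 g.2).symm rfl rfl rfl rfl rfl), fun _ => rfl⟩]
  simp only [Nat.card_prod, card_K, card_Ad]; ring

theorem card_R : Nat.card (R K) = qq K ^ 8 := by
  rw [Nat.card_congr (β := K × K × Ad K × Sk K)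
    ⟨fun g => (g.1.t, g.1.s, ⟨(g.1.y1, g.1.x1), g.1.h1⟩, ⟨g.1.x2, sk' g.1.h2 g.2⟩),
      fun v => ⟨⟨v.1, v.2.2.1.1.1, 0, v.2.2.1.1.2, v.2.1, v.2.2.2.1, v.2.2.1.2, sk v.2.2.2.2⟩, rfl⟩,
      fun g => Subtype.ext (U.ext rfl rfl (mem_R.1 g.2).symm rfl rfl rfl), fun _ => rfl⟩]
  simp only [Nat.card_prod, card_K, card_Ad, card_skew]; ring

theorem card_Q1 : Nat.card (Q1 K) = qq K ^ 7 := by
  rw [Nat.card_congr (β := K × K × Ad K)
    ⟨fun g => (g.1.t, g.1.s, ⟨(g.1.y1, g.1.x1), g.1.h1⟩),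
      fun v => ⟨⟨v.1, v.2.2.1.1, 0, v.2.2.1.2, v.2.1, 0, v.2.2.2, by simp⟩, rfl, rfl⟩,
      fun g => Subtype.ext (U.ext rfl rfl g.2.1.symm rfl rfl g.2.2.symm), fun _ => rfl⟩]
  simp only [Nat.card_prod, card_K, card_Ad]; ring

theorem card_Z3 : Nat.card (Z3 K) = qq K ^ 6 := by
  rw [Nat.card_congr (β := K × Ad K × Sk K)
    ⟨fun g => (g.1.s, ⟨(g.1.y1, g.1.x1), g.1.h1⟩, ⟨g.1.x2, sk' g.1.h2 g.2.2⟩),
      fun v => ⟨⟨0, v.2.1.1.1, 0, v.2.1.1.2, v.1, v.2.2.1, v.2.1.2, sk v.2.2.2⟩, rfl, rfl⟩,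
      fun g => Subtype.ext (U.ext g.2.1.symm rfl g.2.2.symm rfl rfl rfl), fun _ => rfl⟩]
  simp only [Nat.card_prod, card_K, card_Ad, card_skew]; ring

theorem card_D1 : Nat.card (D1 K) = qq K ^ 5 := by
  rw [Nat.card_congr (β := K × Ad K)
    ⟨fun g => (g.1.s, ⟨(g.1.y1, g.1.x1), g.1.h1⟩),
      fun v => ⟨⟨0, v.2.1.1, 0, v.2.1.2, v.1, 0, v.2.2, by simp⟩, rfl, rfl, rfl⟩,
      fun g => Subtype.ext (U.ext g.2.1.symm rfl g.2.2.1.symm rfl rfl g.2.2.2.symm), fun _ => rfl⟩]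
  simp only [Nat.card_prod, card_K, card_Ad]; ring

theorem card_A : Nat.card (A K) = qq K ^ 4 := by
  rw [Nat.card_congr (β := K × Sk K × Sk K)
    ⟨fun g => (g.1.s, ⟨g.1.x1, sk' g.1.h1 g.2.2.1⟩, ⟨g.1.x2, sk' g.1.h2 g.2.2.2⟩),
      fun v => ⟨⟨0, 0, 0, v.2.1.1, v.1, v.2.2.1, sk v.2.1.2, sk v.2.2.2⟩, rfl, rfl, rfl⟩,
      fun g => Subtype.ext (U.ext g.2.1.symm g.2.2.1.symm g.2.2.2.symm rfl rfl rfl), fun _ => rfl⟩]
  simp only [Nat.card_prod, card_K, card_skew]; ring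

theorem card_Z2 : Nat.card (Z2 K) = qq K ^ 3 := by
  rw [Nat.card_congr (β := K × Sk K)
    ⟨fun g => (g.1.s, ⟨g.1.x1, sk' g.1.h1 g.2.2.1⟩),
      fun v => ⟨⟨0, 0, 0, v.2.1, v.1, 0, sk v.2.2, by simp⟩, rfl, rfl, rfl, rfl⟩,
      fun g => Subtype.ext (U.ext g.2.1.symm g.2.2.1.symm g.2.2.2.1.symm rfl rfl g.2.2.2.2.symm),
      fun _ => rfl⟩]
  simp only [Nat.card_prod, card_K, card_skew]; ring

theorem card_Z1 : Nat.card (Z1 K) = qq K := by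
  rw [Nat.card_congr (β := Sk K)
    ⟨fun g => ⟨g.1.x1, sk' g.1.h1 g.2.2.1⟩,
      fun v => ⟨⟨0, 0, 0, v.1, 0, 0, sk v.2, by simp⟩, rfl, rfl, rfl, rfl, rfl⟩,
      fun g => Subtype.ext (U.ext g.2.1.symm g.2.2.1.symm g.2.2.2.1.symm rfl g.2.2.2.2.1.symm
        g.2.2.2.2.2.symm), fun _ => rfl⟩, card_skew]

end Cfsg.Lib.U5F
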