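import Cfsg.Agent.U5F.Bas
import Cfsg.Agent.U5F.Card

/-! The centre is moved inside `Q₂`: the module lies in `A`. -/

set_option autoImplicit false
set_option linter.unusedSectionVars false

namespace Cfsg.Lib.U5F

open Subgroup Equiv U

universe u

variable {K : Type u} [Field K] [StarRing K] [Finite K] [UF K] {p : ℕ} [Fact p.Prime] [CharP K p]
  {E W : Subgroup (U K)} {L : Subgroup (Perm (U K))}

namespace IIa

theorem line {w : U K} (hw : w ∈ Q2 K) (hA : w ∉ A K) {X : Subgroup (U K)} (hX : X ≤ Q2 K)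
    (hc : ∀ x ∈ X, x * w = w * x) : Nat.card X ≤ qq K * Nat.card ↥(X ⊓ A K) := by
  have key : ∀ a ∈ X, ∀ b ∈ X, (a⁻¹ * b).t = 0 ∧ (a⁻¹ * b).y1 = b.y1 - a.y1 ∧
      (a⁻¹ * b).y2 = b.y2 - a.y2 ∧ (a⁻¹ * b).y1 * star w.y2 = w.y1 * star (a⁻¹ * b).y2 :=
    fun a ha b hb => by
      have h1 := X.mul_mem (X.inv_mem ha) hb
      refine ⟨hX h1, ?_, ?_, ((comm_Q2 (hX h1) hw).1 (hc _ h1)).2.1⟩
      · simp [mem_Q2.1 (hX ha)]; ring
      · simp; ring
  by_cases h1 : w.y1 = 0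
  · have h2 : w.y2 ≠ 0 := fun e => hA ⟨hw, h1, e⟩
    rw [← card_line h2]
    refine card_le_fib X _ U.y2 {y | w.y2 * star y = y * star w.y2}
      (fun x hx => ((comm_Q2 (hX hx) hw).1 (hc x hx)).2.2.symm) fun a ha b hb e => ?_
    obtain ⟨k1, -, k3, k4⟩ := key a ha b hb
    rw [h1, zero_mul, mul_eq_zero, star_eq_zero] at k4
    exact ⟨k1, k4.resolve_right h2, by rw [k3, e, sub_self]⟩
  · rw [← card_line h1]
    refine card_le_fib X _ U.y1 {y | w.y1 * star y = y * star w.y1}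
      (fun x hx => ((comm_Q2 (hX hx) hw).1 (hc x hx)).1.symm) fun a ha b hb e => ?_
    obtain ⟨k1, k2, -, k4⟩ := key a ha b hb
    rw [e, sub_self] at k2
    rw [k2, zero_mul, eq_comm, mul_eq_zero, star_eq_zero] at k4
    exact ⟨k1, k2, k4.resolve_left h1⟩

theorem Z1_le_gamma (hA : A K ≤ E) {a b : U K} (ha : a ∈ E) (hb : b ∈ E)
    (hr : a.t * star b.t + b.t * star a.t ≠ 0) : Z1 K ≤ ⁅⁅E, E⁆, E⁆ := fun z hz => by
  have h1 : star z.x1 = -z.x1 := by simpa [hz.2.1] using z.h1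
  let c := aEl 0 0 (z.x1 / (a.t * star b.t + b.t * star a.t)) (by simp) (by
    simp only [star_div₀, star_add, star_mul', star_star, h1]
    rw [neg_div]; congr 2; ring)
  have hc : c ∈ A K := aEl_mem ..
  have h2 := cm_Z3_Z2 a (A_le_Z3 hc)
  have h3 := cm_s h2
  have h4 : star (c⁻¹ * (a * c * a⁻¹)).s = -(star a.t * c.x2) := by
    rw [h3]
    simp only [c, aEl, star_zero, mul_zero, zero_mul, sub_zero, star_mul', star_div₀, star_add,
      star_star, h1]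
    rw [neg_div, mul_neg]; congr 3; ring
  refine Z1_ext (cm_Z2_Z1 b h2) hz ?_ ▸ cm_mem_comm (cm_mem_comm (hA hc) ha) hb
  rw [cm_x1_Z2 h2, h4, h3]
  simp only [c, aEl, star_zero, mul_zero, zero_mul, sub_zero]
  field_simp
  ring

end IIa

open IIa

theorem essIIa (h : Loc p E L) (h1 : ¬ Iv L (Z1 K)) (hW : Sec p E L ⊥ (Z1 K) W) (hQ : W ≤ Q2 K) :
    W ≤ A K := by
  have hq := two_le_qq (K := K)
  have cen : ∀ x ∈ E, ∀ w ∈ W, x * w = w * x := fun x hx w hw =>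
    cm_eq_one.1 (mem_bot.1 (hW.cen x hx w hw))
  have hAE : A K ≤ E := climb (isP p) _ fun a ha hn => hW.faith a hn fun w hw =>
    mem_bot.2 (cm_eq_one.2 (comm_A (hQ hw) ha).symm)
  intro w hw
  by_contra hA
  have c1 := line (hQ hw) hA hQ fun x hx => cen x (hW.le' hx) w hw
  have c2 : ∀ B : Subgroup (U K), B ≤ Q2 K → Nat.card ↥(B ⊓ E) ≤ qq K ^ 5 := fun B hB => by
    refine (line (hQ hw) hA (inf_le_left.trans hB) fun x hx => cen x hx.2 w hw).trans ?_
    rw [pow_succ', ← card_A]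
    exact Nat.mul_le_mul_left _ (Fus.card_le_card_of_le inf_le_right)
  have c0 : 0 < Nat.card ↥(W ⊓ A K) := Nat.card_pos
  have key : ∀ B : Subgroup (U K), B ≤ Q2 K → B ≤ normalizer (E : Set (U K)) →
      qq K ^ 6 ≤ Nat.card B → (∀ g ∈ normalizer (E : Set (U K)), ∃ b ∈ B, ∃ e ∈ E, g = b * e) ∧
        Nat.card B ≤ qq K ^ 6 := fun B hB hN hc => by
    have c3 : Nat.card W * Nat.card ↥(B ⊓ E) ≤ qq K ^ 6 * Nat.card ↥(W ⊓ A K) :=
      (Nat.mul_le_mul c1 (c2 B hB)).trans (by ring_nf; rfl)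
    obtain ⟨k1, k2, -⟩ := hW.ff B (W ⊓ A K) hN (fun e => by
        have := c2 B hB
        rw [inf_eq_left.2 e] at this
        exact absurd (hc.trans this) (not_le.2 (Nat.pow_lt_pow_right hq (by norm_num))))
      (fun a ha b hb => hAE (cm_A (hB ha) (hB hb))) (fun a ha => hAE (pow_A p (hB ha))) bot_le
      inf_le_left (fun b hb c hc => mem_bot.2 (cm_eq_one.2 (comm_A (hB hb) hc.2)))
      (c3.trans (Nat.mul_le_mul_right _ hc))
    exact ⟨k1, Nat.le_of_mul_le_mul_right (k2 ▸ c3) c0⟩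
  by_cases hE : E ≤ Q2 K
  · have := (key _ le_rfl (fun g hg => mem_norm fun x hx => hAE (cm_A hg (hE hx)))
      (card_Q2 (K := K) ▸ Nat.pow_le_pow_right (by omega) (by norm_num))).2
    rw [card_Q2] at this
    exact absurd this (not_le.2 (Nat.pow_lt_pow_right hq (by norm_num)))
  obtain ⟨x0, hx0, t0⟩ := SetLike.not_le_iff_exists.1 hE
  rw [mem_Q2] at t0
  have wt : w.t = 0 := hQ hw
  have cw : ∀ x ∈ E, x.t * w.y2 = w.t * x.y2 ∧ w.y2 * star x.y2 = x.y2 * star w.y2 ∧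
      x.t * w.x2 - x.y1 * star w.y2 = w.t * x.x2 - w.y1 * star x.y2 := fun x hx =>
    cm_Z1.1 (mem_bot.1 (hW.cen x hx w hw) ▸ one_mem _)
  have w2 : w.y2 = 0 := by simpa [wt, t0] using (cw x0 hx0).1
  have w1 : w.y1 ≠ 0 := fun e => hA ⟨wt, e, w2⟩
  have hN := (key _ Z3_le_Q2 (fun g hg => mem_norm fun x _ => hAE (Z2_le_A (cm_Z3_Z2' hg x)))
    card_Z3.ge).1
  have hk : ∀ x ∈ E, x.y2 = -star (w.x2 / w.y1) * star x.t := fun x hx => by
    have := (cw x hx).2.2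
    rw [w2, wt, star_zero] at this
    rw [← star_star x.y2, ← star_neg, ← star_mul']
    congr 1
    field_simp
    linear_combination this
  by_cases hl : ∀ x ∈ E, x0.t * star x.t = x.t * star x0.t
  · obtain ⟨d, hd⟩ := UF.nt (K := K)
    obtain ⟨g, g1, -, g2, -⟩ := exists_el (d * x0.t) 0 (-star (w.x2 / w.y1) * d * star x0.t) 0
    obtain ⟨b, hb, e, he, rfl⟩ := hN g (mem_norm fun x hx => hAE ⟨(cm_Z3 g x).1, by
      rw [cm_y1, g1, g2, hk x hx]
      linear_combination (-star (w.x2 / w.y1) * d) * hl x hx, (cm_Z3 g x).2⟩)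
    have := hl e he
    rw [mul_t, hb.1, zero_add] at g1
    rw [g1, star_mul'] at this
    exact hd (mul_left_cancel₀ (mul_ne_zero t0 (star_ne_zero.2 t0)) (by linear_combination this))
  push Not at hl
  obtain ⟨x1, hx1, hl⟩ := hl
  have hZ : Z1 K ≤ ⁅⁅E, E⁆, E⁆ := by
    by_cases h2 : x0.t * star x0.t + x0.t * star x0.t = 0
    · refine Z1_le_gamma hAE hx0 hx1 fun e => hl ?_
      have : (2 : K) = 0 := mul_left_cancel₀ (mul_ne_zero t0 (star_ne_zero.2 t0))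
        (by linear_combination h2)
      linear_combination e - x1.t * star x0.t * this
    · exact Z1_le_gamma hAE hx0 hx0 h2
  refine h1 (le_antisymm (fun a ha => ?_) (le_inf hZ hW.le) ▸
    (h.iv_comm (h.iv_comm h.maps h.maps le_rfl le_rfl) h.maps (commutator_le_self E) le_rfl).inf
      hW.inv)
  have ha2 : a ∈ Z2 K := comm_le_of_cm (fun x hx y _ => cm_Z3_Z2 y
    (comm_le_of_cm (fun x _ y _ => cm_Z3 y x) hx)) ha.1
  refine ⟨ha2.1, ha2.2.1, ha2.2.2.1, by_contra fun hs => hl ?_, ha2.2.2.2⟩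
  have e0 := (comm_Z2 ha2).1 (cen x0 hx0 a ha.2)
  have e1 := (comm_Z2 ha2).1 (cen x1 hx1 a ha.2)
  exact mul_left_cancel₀ hs (by linear_combination x0.t * e1 - x1.t * e0)

end Cfsg.Lib.U5F
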