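import Cfsg.Agent.U5F.Bas
import Cfsg.Agent.U5F.Card

/-! Essential subgroups: the module generated by the centre lies in `Q₂`. -/

set_option autoImplicit false
set_option linter.unusedSectionVars false

namespace Cfsg.Lib.U5F

open Cfsg Cfsg.FusionSystem Subgroup Equiv Cfsg.Lib.Fus

universe u

variable {K : Type u} [Field K] [StarRing K] [Finite K] [UF K] {p : ℕ} [Fact p.Prime] [CharP K p]
variable {E W : Subgroup (U K)} {L : Subgroup (Perm (U K))}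

namespace IIb

theorem ineq (c : ∀ e ∈ E, ∀ w ∈ W, e * w = w * e) :
    Nat.card W * Nat.card ↥(Z2 K ⊓ E) ≤ Nat.card (Z2 K) * Nat.card ↥(W ⊓ Q2 K) := by
  let X : AddSubgroup K :=
    { carrier := {t | ∃ w ∈ W, w.t = t}
      zero_mem' := ⟨1, one_mem _, rfl⟩
      add_mem' := by
        rintro _ _ ⟨a, ha, rfl⟩ ⟨b, hb, rfl⟩
        exact ⟨_, mul_mem ha hb, rfl⟩
      neg_mem' := by
        rintro _ ⟨a, ha, rfl⟩
        exact ⟨_, inv_mem ha, rfl⟩ }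
  have h1 : Nat.card W ≤ Nat.card X * Nat.card ↥(W ⊓ Q2 K) :=
    card_le_fib W (Q2 K) (fun w => w.t) X (fun w hw => ⟨w, hw, rfl⟩) fun a _ b _ e => mem_Q2.2 (by
      have e' : a.t = b.t := e
      simp [e'])
  have h2 : Nat.card ↥(Z2 K ⊓ E) ≤ Nat.card {s : K // ∀ t ∈ X, s * star t = t * star s} *
      Nat.card ↥(Z2 K ⊓ E ⊓ Z1 K) :=
    card_le_fib (Z2 K ⊓ E) (Z1 K) (fun w => w.s) {s | ∀ t ∈ X, s * star t = t * star s}
      (fun b hb => by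
        rintro _ ⟨w, hw, rfl⟩
        exact (comm_Z2 hb.1).1 (c b hb.2 w hw).symm)
      fun a ha b hb e => by
        have e' : a.s = b.s := e
        obtain ⟨a1, a2, a3, a4⟩ := mem_Z2.1 ha.1
        obtain ⟨b1, b2, b3, b4⟩ := mem_Z2.1 hb.1
        exact mem_Z1.2 (by simp [a1, a2, a3, a4, b1, b2, b3, b4, e'])
  have h3 : Nat.card ↥(Z2 K ⊓ E ⊓ Z1 K) ≤ qq K := card_Z1 (K := K) ▸ card_le_of_le inf_le_right
  calc _ ≤ Nat.card X * Nat.card ↥(W ⊓ Q2 K) *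
        (Nat.card {s : K // ∀ t ∈ X, s * star t = t * star s} * qq K) :=
        Nat.mul_le_mul h1 (h2.trans (Nat.mul_le_mul_left _ h3))
    _ = Nat.card X * Nat.card {s : K // ∀ t ∈ X, s * star t = t * star s} * qq K *
        Nat.card ↥(W ⊓ Q2 K) := by ring
    _ ≤ _ := by
        rw [card_Z2, pow_succ]
        exact Nat.mul_le_mul_right _ (Nat.mul_le_mul_right _ (perp_card X))

theorem exists_cm {w c : U K} (hw : w.t ≠ 0) (hc : c ∈ Z1 K) :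
    ∃ b ∈ Z2 K, w⁻¹ * (b * w * b⁻¹) = c := by
  obtain ⟨y, hy⟩ := exists_im (c := c.x1) (by rw [c.h1, hc.2.1, zero_mul, sub_zero])
  obtain ⟨b, hb, e1, e2⟩ := exists_D1 (0 : K) (star (y / w.t))
  have hb2 : b ∈ Z2 K := ⟨hb.1, e1, hb.2.1, hb.2.2⟩
  have hz := cm_Z2_Z1 w⁻¹ hb2
  refine ⟨b, hb2, ?_⟩
  rw [show w⁻¹ * (b * w * b⁻¹) = b * (b⁻¹ * (w⁻¹ * b * w⁻¹⁻¹)) * b⁻¹ by group, comm_Z1 b hz,
    mul_inv_cancel_right]
  refine Z1_ext hz hc ?_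
  rw [cm_x1_Z2 hb2, e2, U.inv_t, star_star, ← star_mul', ← hy, mul_neg, div_mul_cancel₀ _ hw,
    neg_mul, mul_div_cancel₀ _ hw, star_neg]
  ring

end IIb

open IIb in
theorem essIIb (h : Loc p E L) (hW : Sec p E L ⊥ (Z1 K) W) : W ≤ Q2 K := by
  intro w hw
  by_contra wt
  have wt' : w.t ≠ 0 := wt
  have c : ∀ e ∈ E, ∀ w ∈ W, e * w = w * e := fun e he w hw =>
    cm_eq_one.1 (mem_bot.1 (hW.cen e he w hw))
  obtain ⟨hN, -, hR⟩ := hW.ff (Z2 K) (W ⊓ Q2 K) h.Z2_norm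
    (fun e => wt (mem_Q2_iff.2 fun b hb => (c b (e hb) w hw).symm))
    (fun a _ b hb => h.Z1_le (cm_Z2_Z1 a hb)) (fun a ha => by
      rw [pow_one' p (Z2_le_A ha)]; exact one_mem _) bot_le inf_le_left
    (fun b hb x hx => mem_bot.2 (cm_eq_one.2 (comm_A hx.2 (Z2_le_A hb)).symm)) (ineq c)
  replace hR := hR w hw fun e => wt e.2
  have R1 : ∀ b ∈ Z2 K, b * w = w * b → b ∈ E := fun b hb e => hR b hb fun f hf => by
    rw [cm_eq_one.2 e, h.map_one hf, mul_one, inv_one]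
    exact one_mem _
  have l1 : ⁅E, E⁆ ≤ E := commutator_le_self E
  have l3 : ⁅E, E⁆ ≤ Z3 K := comm_le_of_cm fun a _ b _ => cm_Z3 b a
  have R2 : ∀ z ∈ ⁅E, E⁆, z ∈ Z1 K → z = 1 := fun z hz hz1 => by
    have k := h.gen (⁅E, E⁆ ⊓ W) ⊥ ((h.iv_comm h.maps h.maps le_rfl le_rfl).inf hW.inv) (iv_bot h)
      (inf_le_left.trans l1) bot_le fun g hg x hx => by
        obtain ⟨b, hb, e, he, rfl⟩ := hN g hg
        refine mem_bot.2 (cm_eq_one.2 ?_)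
        rw [mul_assoc, c e he x hx.2, ← mul_assoc, ← comm_A (Z3_le_Q2 (l3 hx.1)) (Z2_le_A hb),
          mul_assoc]
    obtain ⟨b, hb, rfl⟩ := exists_cm wt' hz1
    exact cm_eq_one.2 (c b (hR b hb fun f hf => k f hf _ ⟨hz, hW.le hz1⟩) w hw)
  have dec : ∀ d ∈ D1 K, d ∈ normalizer (E : Set (U K)) → ∃ e ∈ E, e ∈ D1 K ∧ e.y1 = d.y1 := by
    intro d hd hn
    obtain ⟨b, hb, e, he, rfl⟩ := hN d hn
    exact ⟨e, he, (mul_mem_cancel_left (Z2_le_D1 hb)).1 hd, by simp [hb.1, hb.2.1]⟩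
  have cw : ∀ x ∈ E, w⁻¹ * (x * w * x⁻¹) ∈ Z1 K := fun x hx => by
    rw [cm_eq_one.2 (c x hx w hw)]
    exact one_mem _
  by_cases wy : w.y2 = 0
  · have ey : ∀ x ∈ E, x.y2 = 0 := fun x hx => by
      have := (cm_Z1.1 (cw x hx)).1
      rw [wy, mul_zero, eq_comm, mul_eq_zero] at this
      exact this.resolve_left wt'
    have ex : ∀ y : K, ∃ e ∈ E, e ∈ D1 K ∧ e.y1 = y := fun y => by
      obtain ⟨d, hd, rfl, -⟩ := exists_D1 y 0
      exact dec d hd (mem_norm fun x hx => h.Z1_le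
        (cm_Z1.2 (by simp [hd.1, hd.2.1, hd.2.2, ey x hx])))
    obtain ⟨δ, hδ⟩ := UF.nt (K := K)
    obtain ⟨e, he, hd, e1⟩ := ex 1
    obtain ⟨e', he', hd', e2⟩ := ex δ
    have := cm_x1_Z3 (D1_le_Z3 hd) (D1_le_Z3 hd')
    rw [R2 _ (cm_mem_comm he' he) (cm_Q1 (D1_le_Q1 hd) (D1_le_Q1 hd')), e1, e2, star_one, mul_one,
      one_mul, U.one_x1, eq_comm, sub_eq_zero] at this
    exact hδ this.symm
  · have sy : star w.y2 ≠ 0 := star_ne_zero.2 wy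
    obtain ⟨d, hd, e1, -⟩ := exists_D1 (w.t / star w.y2) 0
    obtain ⟨e, he, hd', e2⟩ := dec d hd (mem_norm fun x hx => by
      have hz := cm_Z3_Z2' (D1_le_Z3 hd) x
      obtain ⟨l, hl, e3⟩ := real_mul wy (cm_Z1.1 (cw x hx)).2.1
      refine R1 _ hz ((comm_Z2 hz).2 ?_).symm
      have : (x⁻¹ * (d * x * d⁻¹)).s = -(l * w.t) := by
        rw [cm_s hz, hd.1, hd.2.1, hd.2.2, e1, e3, star_mul', hl, star_zero]
        field_simp
        ring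
      rw [this, star_neg, star_mul', hl]
      ring)
    have := (cm_Z1.1 (cw e he)).2.2
    rw [hd'.1, hd'.2.1, hd'.2.2, e2, e1, div_mul_cancel₀ _ sy] at this
    exact wt' (by simpa using this)

end Cfsg.Lib.U5F
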