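import Cfsg.Agent.U5F.Bas
import Cfsg.Agent.U5F.Card

/-! Essential subgroups: the case of the radical `Q₂`. -/

set_option autoImplicit false
set_option linter.unusedSectionVars false

namespace Cfsg.Lib.U5F

open Cfsg Cfsg.FusionSystem Subgroup Equiv Cfsg.Lib.Fus

universe u

variable {K : Type u} [Field K] [StarRing K] [Finite K] [UF K] {p : ℕ} [Fact p.Prime] [CharP K p]
variable {E W : Subgroup (U K)} {L : Subgroup (Perm (U K))}

theorem essIIc (h : Loc p E L) (h1 : ¬ Iv L (Z1 K)) (hW : Sec p E L ⊥ (Z1 K) W) (hA : W ≤ A K) :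
    E = Q2 K := by
  have hQ : Q2 K ≤ E := climb (isP p) _ fun g hg hn => hW.faith g hn fun w hw =>
    mem_bot.2 (cm_eq_one.2 (comm_A hg (hA hw)))
  refine le_antisymm (fun x hx => by_contra fun xt => h1 ?_) hQ
  have l1 : ⁅E, E⁆ ≤ E := commutator_le_self E
  have l3 : ⁅E, E⁆ ≤ Z3 K := comm_le_of_cm fun a _ b _ => cm_Z3 b a
  have z1 : ∀ a ∈ Z3 K, ∀ b ∈ Z3 K, a⁻¹ * (b * a * b⁻¹) ∈ Z1 K := fun a ha b hb =>
    cm_Z1.2 (by simp [ha.1, ha.2, hb.1, hb.2])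
  have i1 := h.iv_comm h.maps h.maps le_rfl le_rfl
  have ex : ∀ y : K, ∃ c ∈ ⁅E, E⁆, c.y1 = y := fun y => by
    obtain ⟨g, e1, -, e2, -⟩ := exists_el (0 : K) 0 (y / x.t) 0
    refine ⟨_, cm_mem_comm (hQ e1) hx, ?_⟩
    rw [cm_y1, e1, e2, zero_mul, sub_zero, mul_div_cancel₀ _ xt]
  have e : ⁅⁅E, E⁆, ⁅E, E⁆⁆ = Z1 K := le_antisymm
    (comm_le_of_cm fun a ha b hb => z1 a (l3 ha) b (l3 hb)) fun z hz => by
      obtain ⟨y, hy⟩ := exists_im (c := z.x1) (by rw [z.h1, hz.2.1, zero_mul, sub_zero])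
      obtain ⟨c, hc, e1⟩ := ex 1
      obtain ⟨d, hd, e2⟩ := ex y
      rw [← Z1_ext (z1 d (l3 hd) c (l3 hc)) hz (by
        rw [cm_x1_Z3 (l3 hc) (l3 hd), e1, e2, star_one, mul_one, one_mul, hy])]
      exact cm_mem_comm hd hc
  exact e ▸ h.iv_comm i1 i1 l1 l1

end Cfsg.Lib.U5F
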