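import Cfsg.Agent.U5F.Bas
import Cfsg.Agent.U5F.Card

/-! Essential subgroups: the first two centres are not both invariant. -/

set_option autoImplicit false
set_option linter.unusedSectionVars false

namespace Cfsg.Lib.U5F

open Cfsg Cfsg.FusionSystem Subgroup Equiv Cfsg.Lib.Fus

universe u

variable {K : Type u} [Field K] [StarRing K] [Finite K] [UF K] {p : ℕ} [Fact p.Prime] [CharP K p]
variable {E W : Subgroup (U K)} {L : Subgroup (Perm (U K))}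

namespace Ia

theorem bound {y : K} (hy : y ≠ 0) (h : ∀ w ∈ W, w.t = 0 ∧ y * star w.y2 = w.y2 * star y) :
    Nat.card W ≤ qq K ^ 7 := by
  have h1 := card_le_fib W (Z3 K) (fun w => w.y2) {y' | y * star y' = y' * star y}
    (fun w hw => (h w hw).2) fun a ha b hb e => mem_Z3.2 ⟨by simp [(h a ha).1, (h b hb).1], by
      have e' : a.y2 = b.y2 := e
      simp [e']⟩
  have h2 : Nat.card ↥(W ⊓ Z3 K) ≤ qq K ^ 6 := card_Z3 (K := K) ▸ card_le_of_le inf_le_right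
  have h3 : Nat.card {y' | y * star y' = y' * star y} = qq K := card_line hy
  rw [h3] at h1
  rw [pow_succ']
  exact h1.trans (Nat.mul_le_mul_left _ h2)

theorem tr_bot (g : U K) : Tr g (Z1 K) ⊥ := fun _ hx => mem_bot.2 (cm_eq_one.2 (comm_Z1 g hx))

end Ia

open Ia in
theorem essIa (h : Loc p E L) (h1 : Iv L (Z1 K)) : ¬ Iv L (Z2 K) := by
  intro h2
  have l2 := h.Z2_le h1
  have l23 : Z2 K ≤ Z3 K := Z2_le_A.trans A_le_Z3
  have l3 : Z3 K ≤ E := fun d hd => h.rad d (mem_norm fun x _ => l2 (cm_Z3_Z2' hd x)) _ _ _ h2 h1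
    (iv_bot h) l2 Z1_le_Z2 bot_le (fun x _ => cm_Z3_Z2' hd x) (fun _ hx => cm_Z2_Z1 d hx) (tr_bot d)
    fun x hx => tr_bot d x (bot_le (a := Z1 K) hx)
  have hN : ∀ g, g ∈ normalizer (E : Set (U K)) := fun g => mem_norm fun x _ => l3 (cm_Z3 g x)
  have hE : ¬ ⊤ ≤ E := fun e => h.ne (top_le_iff.1 e)
  have h3 : ¬ Iv L (Z3 K) := fun h3 => hE fun g _ => h.rad g (hN g) _ _ _ h3 h2 h1 l3 l23 Z1_le_Z2
    (fun x _ => cm_Z3 g x) (fun _ hx => cm_Z3_Z2 g hx) (fun _ hx => cm_Z2_Z1 g hx) (tr_bot g)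
  obtain ⟨W, hW⟩ := h.sec _ _ h2 l23 l3 (fun g _ _ hx => cm_Z3_Z2 g hx)
    (fun z hz => Z1_le_Z2 (pow_Z1' p hz)) h3
  obtain ⟨x, hx, hx3⟩ : ∃ x ∈ E ⊓ centralizer (Z2 K : Set (U K)), x ∉ Z3 K := by
    by_contra k
    push Not at k
    refine h3 ?_
    have e : E ⊓ centralizer (Z2 K : Set (U K)) = Z3 K := le_antisymm k fun d hd =>
      ⟨l3 hd, mem_centralizer_iff.2 fun z hz => (comm_A (Z3_le_Q2 hd) (Z2_le_A hz)).symm⟩
    exact e ▸ h.iv_cent h2 l2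
  have xt : x.t = 0 := mem_Q2_iff.2 fun z hz => (mem_centralizer_iff.1 hx.2 z hz).symm
  have xy : x.y2 ≠ 0 := fun e => hx3 ⟨xt, e⟩
  have k1 : ∀ w ∈ W, w.t = 0 ∧ x.y2 * star w.y2 = w.y2 * star x.y2 := fun w hw => by
    obtain ⟨e1, e2⟩ := cm_Z2.1 (hW.cen x hx.1 w hw)
    rw [xt, zero_mul, eq_comm, mul_eq_zero] at e1
    exact ⟨e1.resolve_right xy, e2.symm⟩
  obtain ⟨w, hw, hw3⟩ : ∃ w ∈ W, w ∉ Z3 K := by
    by_contra k
    push Not at k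
    exact h3 (le_antisymm k hW.le ▸ hW.inv)
  have wy : w.y2 ≠ 0 := fun e => hw3 ⟨(k1 w hw).1, e⟩
  have k2 : ∀ e ∈ E, e.t = 0 ∧ w.y2 * star e.y2 = e.y2 * star w.y2 := fun e he => by
    obtain ⟨e1, e2⟩ := cm_Z2.1 (hW.cen e he w hw)
    rw [(k1 w hw).1, zero_mul, mul_eq_zero] at e1
    exact ⟨e1.resolve_right wy, e2⟩
  have b1 : Nat.card W * Nat.card ↥(⊤ ⊓ E) ≤ qq K ^ 14 := by
    rw [top_inf_eq, show 14 = 7 + 7 from rfl, pow_add]
    exact Nat.mul_le_mul (bound xy k1) (bound wy k2)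
  have b2 : Nat.card (⊤ : Subgroup (U K)) * Nat.card (Z3 K) = qq K ^ 16 := by
    rw [card_top, card_U, card_Z3, ← pow_add]
  have b3 : qq K ^ 14 < qq K ^ 16 := Nat.pow_lt_pow_right two_le_qq (by norm_num)
  have := (hW.ff ⊤ (Z3 K) (fun g _ => hN g) hE (fun a _ b _ => l3 (cm_Z3 a b))
    (fun a _ => l3 (pow_Z3 p a)) l23 hW.le (fun g _ _ hx => cm_Z3_Z2 g hx) (by omega)).2.1
  omega

end Cfsg.Lib.U5F
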