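import Cfsg.Agent.U5F.Bas
import Cfsg.Agent.U5F.Card

/-! Local subgroups containing `Q₁` with an invariant centre. -/

set_option autoImplicit false
set_option linter.unusedSectionVars false

namespace Cfsg.Lib.U5F

open Cfsg Cfsg.FusionSystem Subgroup Equiv Cfsg.Lib.Fus

universe u

variable {K : Type u} [Field K] [StarRing K] [Finite K] [UF K] {p : ℕ} [Fact p.Prime] [CharP K p]
  {E W : Subgroup (U K)} {L : Subgroup (Perm (U K))}

namespace Ib1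

theorem exists_sec (h : Loc p E L) (h1 : Iv L (Z1 K)) (h2 : ¬ Iv L (Z2 K)) :
    ∃ W, Sec p E L (Z1 K) (Z2 K) W :=
  h.sec _ _ h1 Z1_le_Z2 (h.Z2_le h1) (fun g _ _ hx => cm_Z2_Z1 g hx)
    (fun z hz => by rw [pow_one' p (Z2_le_A hz)]; exact one_mem _) h2

theorem le_R (h : Loc p E L) (h1 : Iv L (Z1 K)) (h2 : ¬ Iv L (Z2 K)) (hQ : Q1 K ≤ E) :
    E ≤ R K := by
  obtain ⟨W, hW⟩ := exists_sec h h1 h2
  have hWQ : W ≤ Q1 K := fun w hw => mem_Q1_iff.2 fun g hg => hW.cen g (hQ hg) w hw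
  intro x hx
  by_contra hy
  have hy' : x.y2 ≠ 0 := hy
  have hle : W ≤ Z2 K := by
    intro w hw
    obtain ⟨a, -, c⟩ := cm_Z1.1 (hW.cen x hx w hw)
    obtain ⟨e1, e2⟩ := mem_Q1.1 (hWQ hw)
    have ht : w.t = 0 := by
      rw [e1, mul_zero] at a
      exact (mul_eq_zero.1 a.symm).resolve_right hy'
    have hy1 : w.y1 = 0 := by
      rw [e1, e2, ht, star_zero] at c
      have : w.y1 * star x.y2 = 0 := by linear_combination c
      exact (mul_eq_zero.1 this).resolve_right (star_ne_zero.2 hy')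
    exact mem_Z2.2 ⟨ht, hy1, e1, e2⟩
  exact h2 (le_antisymm hle hW.le ▸ hW.inv)

theorem iv_Z1 (h : Loc p (Q1 K) L) : Iv L (Z1 K) := by
  have e : Q1 K ⊓ centralizer (Q1 K : Set (U K)) = Z1 K := by
    ext z
    constructor
    · rintro ⟨-, hz⟩
      exact mem_Z1_iff'.2 fun g hg => mem_centralizer_iff.1 hz g hg
    · intro hz
      exact ⟨h.Z1_le hz, mem_centralizer_iff.2 fun g _ => comm_Z1 g hz⟩
  exact e ▸ h.iv_cent h.maps le_rfl

theorem A_inf_Q1 : A K ⊓ Q1 K = Z2 K := by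
  ext z
  simp only [mem_inf, mem_A, mem_Q1, mem_Z2]
  tauto

end Ib1

theorem essIb1 (h : Loc p E L) (h1 : Iv L (Z1 K)) (h2 : ¬ Iv L (Z2 K)) (hQ : Q1 K ≤ E) :
    E = Q1 K := by
  have hR := Ib1.le_R h h1 h2 hQ
  refine le_antisymm (fun x hx => ?_) hQ
  have hy : x.y2 = 0 := hR hx
  by_contra hn
  have hx2 : x.x2 ≠ 0 := fun e => hn (mem_Q1.2 ⟨hy, e⟩)
  have hEE : ⁅E, E⁆ ≤ E := comm_le_of_cm fun a ha b hb =>
    mul_mem (inv_mem ha) (mul_mem (mul_mem hb ha) (inv_mem hb))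
  have hZ : ∀ a ∈ E, ∀ b ∈ E, a⁻¹ * (b * a * b⁻¹) ∈ Z2 K := by
    intro a ha b hb
    have e1 : a.y2 = 0 := hR ha
    have e2 : b.y2 = 0 := hR hb
    exact cm_Z2.2 ⟨by rw [e1, e2, mul_zero, mul_zero], by rw [e1, e2]⟩
  have hI : Iv L (⁅E, E⁆ ⊔ Z1 K) :=
    h.iv_sup (h.iv_comm h.maps h.maps le_rfl le_rfl) h1 hEE h.Z1_le
  have e : ⁅E, E⁆ ⊔ Z1 K = Z2 K := by
    refine le_antisymm (sup_le (comm_le_of_cm hZ) Z1_le_Z2) fun z hz => ?_
    obtain ⟨g, hg, eg⟩ := exists_Q1 (K := K) (z.s / x.x2, 0, 0)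
    have gt : g.t = z.s / x.x2 := congrArg Prod.fst eg
    obtain ⟨g1, g2⟩ := mem_Q1.1 hg
    have hc := hZ x hx g (hQ hg)
    have hs := cm_s hc
    rw [gt, hy, g1, g2, star_zero, div_mul_cancel₀ _ hx2] at hs
    have hm : x⁻¹ * (g * x * g⁻¹) ∈ ⁅E, E⁆ := cm_mem_comm hx (hQ hg)
    generalize x⁻¹ * (g * x * g⁻¹) = c at hc hs hm
    have hd : c⁻¹ * z ∈ Z1 K := by
      obtain ⟨a1, a2, a3, a4⟩ := mem_Z2.1 hc
      obtain ⟨b1, b2, b3, b4⟩ := mem_Z2.1 hz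
      refine mem_Z1.2 ⟨?_, ?_, ?_, ?_, ?_⟩ <;> simp [a1, a2, a3, a4, b1, b2, b3, b4, hs]
    have : z = c * (c⁻¹ * z) := by group
    rw [this]
    exact mul_mem (mem_sup_left hm) (mem_sup_right hd)
  exact h2 (e ▸ hI)

theorem star1 (h : Loc p (Q1 K) L) {x : U K} (hx : x ∈ Z2 K) (hx' : x ∉ Z1 K)
    (h2 : ¬ Iv L (Z2 K)) (hf : ∀ f ∈ L, x⁻¹ * f x ∈ Z1 K) : False := by
  have h1 := Ib1.iv_Z1 h
  obtain ⟨W, hW⟩ := Ib1.exists_sec h h1 h2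
  have hxQ : x ∈ Q1 K := D1_le_Q1 (Z2_le_D1 hx)
  have hP : Iv L (Q1 K ⊓ centralizer ({x} : Set (U K))) := by
    rintro f hfL g ⟨hg, hc⟩
    refine ⟨h.maps f hfL g hg, mem_centralizer_singleton_iff.2 ?_⟩
    have hc' : g * x = x * g := mem_centralizer_singleton_iff.1 hc
    have e1 : f g * f x = f x * f g := by
      rw [← h.hom f hfL g hg x hxQ, hc', h.hom f hfL x hxQ g hg]
    have hz := hf f hfL
    have e2 : f x = x * (x⁻¹ * f x) := by group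
    generalize x⁻¹ * f x = z at hz e2
    rw [e2, mul_assoc x z, ← comm_Z1 (f g) hz, ← mul_assoc, ← mul_assoc] at e1
    exact mul_right_cancel e1
  have hWP : W ≤ Q1 K ⊓ centralizer ({x} : Set (U K)) := hW.min _ hP fun w hw =>
    ⟨D1_le_Q1 (Z2_le_D1 hw), mem_centralizer_singleton_iff.2
      (comm_A (Z3_le_Q2 (A_le_Z3 (Z2_le_A hw))) (Z2_le_A hx))⟩
  have hs : x.s ≠ 0 := by
    obtain ⟨a1, a2, a3, a4⟩ := mem_Z2.1 hx
    exact fun e => hx' (mem_Z1.2 ⟨a1, a2, a3, e, a4⟩)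
  have hcard : Nat.card W ≤ qq K * Nat.card ↥(W ⊓ D1 K) := by
    rw [← card_line hs]
    refine card_le_fib W (D1 K) (fun g => g.t) {y' | x.s * star y' = y' * star x.s}
      (fun w hw => (comm_Z2 hx).1 (mem_centralizer_singleton_iff.1 (hWP hw).2)) ?_
    intro a ha b hb e
    have hm : a⁻¹ * b ∈ Q1 K := mul_mem (inv_mem (hWP ha).1) (hWP hb).1
    have e' : a.t = b.t := e
    exact mem_D1.2 ⟨by simp [e'], (mem_Q1.1 hm).1, (mem_Q1.1 hm).2⟩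
  have hN : normalizer (Q1 K : Set (U K)) = ⊤ := normalizer_eq_top _
  obtain ⟨d, hd, hd'⟩ := exists_skew (K := K)
  have hff := hW.ff (A K) (W ⊓ D1 K) (hN ▸ le_top)
    (fun hle => hd (mem_Q1.1 (hle (aEl_mem 0 0 d (by simp) hd'))).2)
    (fun a ha b hb => by
      rw [cm_eq_one.2 (comm_A (Z3_le_Q2 (A_le_Z3 ha)) hb)]; exact one_mem _)
    (fun a ha => by rw [pow_one' p ha]; exact one_mem _)
    (le_inf (Z1_le_Z2.trans hW.le) (Z1_le_Z2.trans Z2_le_D1)) inf_le_left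
    (fun b hb c hc => by
      rw [cm_eq_one.2 (comm_A (Z3_le_Q2 (D1_le_Z3 hc.2)) hb).symm]; exact one_mem _)
    (by
      rw [Ib1.A_inf_Q1, card_Z2, card_A]
      calc Nat.card W * qq K ^ 3 ≤ qq K * Nat.card ↥(W ⊓ D1 K) * qq K ^ 3 :=
            Nat.mul_le_mul_right _ hcard
        _ = qq K ^ 4 * Nat.card ↥(W ⊓ D1 K) := by ring)
  obtain ⟨g, -, -, hg, -⟩ := exists_el (K := K) 0 0 1 0
  obtain ⟨b, hb, e, he, rfl⟩ := hff.1 g (hN ▸ mem_top g)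
  rw [U.mul_y2, (mem_A.1 hb).2.2, (mem_Q1.1 he).1, add_zero] at hg
  exact zero_ne_one hg

end Cfsg.Lib.U5F
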