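import Cfsg.Agent.U5F.Bas
import Cfsg.Agent.U5F.Card

/-! Essential subgroups, case I (b): `Q₁ ≤ E`. -/

set_option autoImplicit false
set_option linter.unusedSectionVars false

namespace Cfsg.Lib.U5F

open Cfsg Cfsg.FusionSystem Subgroup Equiv Cfsg.Lib.Fus

universe u

variable {K : Type u} [Field K] [StarRing K] [Finite K] [UF K] {p : ℕ} [Fact p.Prime] [CharP K p]
variable {E W : Subgroup (U K)} {L : Subgroup (Perm (U K))}

namespace Ib2

theorem card_R_le {X : Subgroup (U K)} (hX : X ≤ R K) :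
    Nat.card X ≤ qq K * Nat.card ↥(X ⊓ Q1 K) := by
  have := card_le_fib X (Q1 K) (fun g => g.x2) {x | star x = -x}
    (fun w hw => Card.sk' w.h2 (hX hw)) fun a ha b hb e => by
      have h1 : a.y2 = 0 := hX ha
      have h2 : b.y2 = 0 := hX hb
      have e' : a.x2 = b.x2 := e
      constructor <;> simp [h1, h2, e']
  exact this.trans (Nat.mul_le_mul_right _ card_skew.le)

theorem Z3_norm (hZ : Z2 K ≤ E) : Z3 K ≤ normalizer (E : Set (U K)) := fun _ hg =>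
  mem_norm fun x _ => hZ (cm_Z3_Z2' hg x)

theorem caseA (hZ : Z2 K ≤ E) (S : Sec p E L (Z1 K) (Z2 K) W) {w : U K} (hw : w ∈ W)
    (hη : w.y2 ≠ 0) : False := by
  have hη' : star w.y2 ≠ 0 := star_ne_zero.2 hη
  have c : ∀ e ∈ E, e.t * w.y2 = w.t * e.y2 ∧ w.y2 * star e.y2 = e.y2 * star w.y2 ∧
      e.t * w.x2 - e.y1 * star w.y2 = w.t * e.x2 - w.y1 * star e.y2 := fun e he =>
    cm_Z1.1 (S.cen e he w hw)
  have k1 : ∀ e ∈ E, e ∈ Q1 K → e ∈ Z2 K := by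
    intro e he hq
    obtain ⟨c1, -, c3⟩ := c e he
    have q1 : e.y2 = 0 := hq.1
    have q2 : e.x2 = 0 := hq.2
    have t0 : e.t = 0 := by
      rw [q1, mul_zero] at c1
      exact (mul_eq_zero.1 c1).resolve_right hη
    refine ⟨t0, ?_, q1, q2⟩
    have : e.y1 * star w.y2 = 0 := by
      rw [q1, q2, t0, star_zero] at c3
      linear_combination -c3
    exact (mul_eq_zero.1 this).resolve_right hη'
  have k2 : ∀ x ∈ E, ∃ l : K, star l = l ∧ x.y2 = l * w.y2 ∧ x.t = l * w.t := by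
    intro x hx
    obtain ⟨c1, c2, -⟩ := c x hx
    obtain ⟨l, l1, l2⟩ := real_mul hη c2
    refine ⟨l, l1, l2, mul_right_cancel₀ hη ?_⟩
    rw [c1, l2]; ring
  have n1 : Nat.card W ≤ qq K * Nat.card ↥(W ⊓ R K) := by
    have := card_le_fib W (R K) (fun g => g.y2) {y' | w.y2 * star y' = y' * star w.y2}
      (fun x hx => (c x (S.le' hx)).2.1) fun a _ b _ e => by
        have e' : a.y2 = b.y2 := e
        show _ = _
        simp [e']
    exact this.trans (Nat.mul_le_mul_right _ (card_line hη).le)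
  have n2 := card_R_le (X := W ⊓ R K) inf_le_right
  have n3 : Nat.card ↥(W ⊓ R K ⊓ Q1 K) ≤ qq K ^ 3 := by
    rw [← card_Z2]
    exact card_le_of_le fun x hx => k1 x (S.le' hx.1.1) hx.2
  have n4 : Nat.card ↥(D1 K ⊓ E) ≤ qq K ^ 3 := by
    rw [← card_Z2]
    exact card_le_of_le fun x hx => k1 x hx.2 (D1_le_Q1 hx.1)
  have hZ1 : Z1 K ≤ E := Z1_le_Z2.trans hZ
  obtain ⟨f, -, -⟩ := S.ff (D1 K) (Z2 K) (D1_le_Z3.trans (Z3_norm hZ))
    (fun hle => by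
      obtain ⟨g, hg, e, -⟩ := exists_D1 (K := K) 1 0
      exact one_ne_zero (e.symm.trans (k1 g (hle hg) (D1_le_Q1 hg)).2.1))
    (fun a ha b hb => hZ1 (cm_Q1 (D1_le_Q1 ha) (D1_le_Q1 hb)))
    (fun a ha => hZ1 (pow_Z1 p (D1_le_Q1 ha))) Z1_le_Z2 S.le (fun b _ x hx => cm_Z2_Z1 b hx) (by
      rw [card_D1, card_Z2]
      refine Nat.mul_le_mul (n1.trans ?_) n4
      calc _ ≤ qq K * (qq K * qq K ^ 3) :=
            Nat.mul_le_mul_left _ (n2.trans (Nat.mul_le_mul_left _ n3))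
        _ = qq K ^ 5 := by ring)
  have k3 : ∀ e ∈ E, e ∈ Z3 K → -e.y1 * star w.y2 = w.t * e.x2 := by
    intro e he hz
    obtain ⟨-, -, c3⟩ := c e he
    have q1 : e.t = 0 := hz.1
    have q2 : e.y2 = 0 := hz.2
    rw [q1, q2, star_zero] at c3
    linear_combination c3
  have k4 : ∀ z ∈ Z3 K, -z.y1 * star w.y2 = w.t * z.x2 → z ∈ E := by
    intro z hz hs
    have sk := Card.sk' z.h2 hz.2
    have ha : aEl 0 0 z.x2 (by simp) sk ∈ Z3 K := A_le_Z3 (aEl_mem _ _ _ _ _)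
    obtain ⟨d, hd, e, he, e1⟩ := f _ (Z3_norm hZ ha)
    have hez : e ∈ Z3 K := (mul_mem_cancel_left (D1_le_Z3 hd)).1 (e1 ▸ ha)
    have d2 : d.y2 = 0 := hd.2.1
    have d3 : d.x2 = 0 := hd.2.2
    have e2 : z.x2 = e.x2 := by simpa [aEl, d2, d3] using congrArg U.x2 e1
    have e3 : z.y1 = e.y1 := by
      refine mul_right_cancel₀ hη' ?_
      have := k3 e he hez
      rw [← e2] at this
      linear_combination this - hs
    have t1 : e.t = 0 := hez.1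
    have t2 : e.y2 = 0 := hez.2
    have t3 : z.t = 0 := hz.1
    have t4 : z.y2 = 0 := hz.2
    have : e⁻¹ * z ∈ Z2 K := by
      refine ⟨?_, ?_, ?_, ?_⟩ <;> simp [t1, t2, t3, t4, e2, e3]
    exact (mul_mem_cancel_left (inv_mem he)).1 (hZ this)
  obtain ⟨δ, hδ⟩ := UF.nt (K := K)
  obtain ⟨g, g1, -, g2, -⟩ := exists_el
    (w.t * (2 * (δ * w.y2) * star w.y2 - w.y2 * star (δ * w.y2)) / (w.y2 * star w.y2)) 0 (δ * w.y2) 0
  have gN : g ∈ normalizer (E : Set (U K)) := mem_norm fun x hx => by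
    obtain ⟨l, l1, l2, l3⟩ := k2 x hx
    refine k4 _ (cm_Z3 g x) ?_
    rw [cm_y1, cm_x2, g1, g2, l2, l3]
    simp only [star_mul', l1]
    field_simp
    ring
  obtain ⟨d, hd, e, he, e1⟩ := f g gN
  obtain ⟨l, l1, l2, -⟩ := k2 e he
  have d2 : d.y2 = 0 := hd.2.1
  have e2 : g.y2 = e.y2 := by simp [e1, d2]
  have e3 : δ = l := mul_right_cancel₀ hη (g2.symm.trans (e2.trans l2))
  exact hδ (e3 ▸ l1)

theorem caseB (hZ : Z2 K ≤ E) (S : Sec p E L (Z1 K) (Z2 K) W) (hR : W ≤ R K) {w : U K}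
    (hw : w ∈ W) (hx : w.x2 ≠ 0) : Q1 K ≤ E := by
  by_contra hn
  have hZ1 : Z1 K ≤ E := Z1_le_Z2.trans hZ
  have k1 : Q1 K ⊓ E ≤ D1 K := by
    intro e he
    obtain ⟨-, -, c3⟩ := cm_Z1.1 (S.cen e he.2 w hw)
    have q0 : w.y2 = 0 := hR hw
    have q1 : e.y2 = 0 := he.1.1
    have q2 : e.x2 = 0 := he.1.2
    refine ⟨(mul_eq_zero.1 ?_).resolve_right hx, q1, q2⟩
    rw [q0, q1, q2, star_zero] at c3
    linear_combination c3
  have k2 : D1 K ≤ E := fun d hd => S.faith d (Z3_norm hZ (D1_le_Z3 hd)) fun x hx => by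
    have q0 : x.y2 = 0 := hR hx
    have q1 : d.t = 0 := hd.1
    have q2 : d.y2 = 0 := hd.2.1
    have q3 : d.x2 = 0 := hd.2.2
    rw [cm_Z1]
    simp [q0, q1, q2, q3]
  have k3 : Q1 K ≤ normalizer (E : Set (U K)) := fun g hg => mem_norm fun x _ => k2
    ⟨(cm_Z3 g x).1, (cm_Z3 g x).2, by
      have q1 : g.y2 = 0 := hg.1
      rw [cm_x2, q1]; simp⟩
  have n1 := card_R_le hR
  have n2 : Nat.card ↥(Q1 K ⊓ E) ≤ qq K ^ 5 := by
    rw [← card_D1]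
    exact card_le_of_le k1
  have n3 : Nat.card W * Nat.card ↥(Q1 K ⊓ E) ≤ qq K ^ 6 * Nat.card ↥(W ⊓ Q1 K) :=
    (Nat.mul_le_mul n1 n2).trans (le_of_eq (by ring))
  have n4 : qq K ^ 6 * Nat.card ↥(W ⊓ Q1 K) < qq K ^ 7 * Nat.card ↥(W ⊓ Q1 K) :=
    Nat.mul_lt_mul_of_pos_right (Nat.pow_lt_pow_right two_le_qq (by norm_num)) Nat.card_pos
  obtain ⟨-, f, -⟩ := S.ff (Q1 K) (W ⊓ Q1 K) k3 hn (fun a ha b hb => hZ1 (cm_Q1 ha hb))
    (fun a ha => hZ1 (pow_Z1 p ha))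
    (le_inf (Z1_le_Z2.trans S.le) (Z1_le_Z2.trans (Z2_le_D1.trans D1_le_Q1))) inf_le_left
    (fun b hb x hx => cm_Q1 hb hx.2) (by rw [card_Q1]; exact n3.trans n4.le)
  rw [card_Q1] at f
  omega

end Ib2

theorem essIb2 (h : Loc p E L) (h1 : Iv L (Z1 K)) (h2 : ¬ Iv L (Z2 K)) : Q1 K ≤ E := by
  have hZ := h.Z2_le h1
  obtain ⟨W, S⟩ := h.sec (Z1 K) (Z2 K) h1 Z1_le_Z2 hZ (fun g _ x hx => cm_Z2_Z1 g hx)
    (fun z hz => pow_Z1' p (A_le_Z3 (Z2_le_A hz))) h2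
  by_cases hW : W ≤ Q1 K
  · exact climb (isP p) (Q1 K) fun g hg hN => S.faith g hN fun x hx => cm_Q1 hg (hW hx)
  by_cases hR : W ≤ R K
  · obtain ⟨w, hw, hn⟩ := SetLike.not_le_iff_exists.1 hW
    exact Ib2.caseB hZ S hR hw fun e => hn ⟨hR hw, e⟩
  · obtain ⟨w, hw, hn⟩ := SetLike.not_le_iff_exists.1 hR
    exact (Ib2.caseA hZ S hw hn).elim

end Cfsg.Lib.U5F
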