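import Cfsg.Agent.U5F.LocB
import Cfsg.Agent.U5F.EssL
import Cfsg.Agent.U5F.Ia
import Cfsg.Agent.U5F.Ib1
import Cfsg.Agent.U5F.Ib2
import Cfsg.Agent.U5F.IIa
import Cfsg.Agent.U5F.IIb
import Cfsg.Agent.U5F.IIc

/-! Fusion systems over a Sylow subgroup of `SU₅(q)`: the essential subgroups. -/

set_option autoImplicit false
set_option linter.unusedSectionVars false

namespace Cfsg.Lib.U5F

open Cfsg Cfsg.FusionSystem Subgroup Equiv Cfsg.Lib.Fus

universe u v

variable {K : Type u} [Field K] [StarRing K] [Finite K] [UF K] {p : ℕ} [Fact p.Prime] [CharP K p]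
variable {F F' : FusionSystem (⊤ : Subgroup (U K))} {f : Perm (U K)}

theorem ess_eq (hF : F.IsSaturated p) {E : Subgroup (U K)} (hE : F.IsEssential p E) :
    E = Q1 K ∨ E = Q2 K := by
  obtain ⟨M, hM⟩ := sem_of_essential (isP p) hF hE
  obtain ⟨L, -, h⟩ := hM.exists_loc (isP p) (fun x hx => isCentric_self hE.1 ⟨mem_top x, hx⟩)
    (lt_of_isEssential (isP_top p) hF hE).ne
  by_cases h1 : Iv (L.map (pext E)) (Z1 K)
  · exact .inl (essIb1 h h1 (essIa h h1) (essIb2 h h1 (essIa h h1)))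
  · obtain ⟨W, hW⟩ := h.sec ⊥ (Z1 K) (iv_bot h) bot_le h.Z1_le
      (fun g _ x hx => mem_bot.2 (cm_eq_one.2 (comm_Z1 g hx)))
      (fun z hz => mem_bot.2 (pow_one' p ⟨hz.1, hz.2.1, hz.2.2.1⟩)) h1
    exact .inr (essIIc h h1 hW (essIIa h h1 hW (essIIb h hW)))

namespace Ess

theorem maps (hs : Std F) {Q : Subgroup (U K)} (hQ : Q = Q1 K ∨ Q = Q2 K) (hf : PIso F f ⊤ ⊤)
    {x : U K} (hx : x ∈ Q) : f x ∈ Q := by
  obtain ⟨k, a, b, σ, hσ, -, -, e⟩ := hs f hf
  rw [e]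
  rcases hQ with rfl | rfl
  · exact Normal.conj_mem inferInstance _ (mem_Q1.2 ⟨by simp [hx.1], by simp [hx.2]⟩) k
  · exact Normal.conj_mem inferInstance _ (mem_Q2.2 (by simp [mem_Q2.1 hx])) k

theorem not_lt {Q P : Subgroup (U K)} (hQ : Q = Q1 K ∨ Q = Q2 K) (hP : P = Q1 K ∨ P = Q2 K) :
    ¬ Q < P := by
  intro h
  rcases hQ with rfl | rfl <;> rcases hP with rfl | rfl
  · exact lt_irrefl _ h
  · obtain ⟨g, hg, e⟩ := exists_Q1 ((1, 0, 0) : K × K × K)
    exact one_ne_zero ((congrArg Prod.fst e).symm.trans (mem_Q2.1 (h.le hg)))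
  · obtain ⟨g, hg, e⟩ := exists_Q2 ((0, 1) : K × K)
    exact one_ne_zero ((congrArg Prod.snd e).symm.trans (mem_Q1.1 (h.le hg)).1)
  · exact lt_irrefl _ h

theorem constr (hF : F.IsSaturated p) (hs : Std F) {Q : Subgroup (U K)} [Q.Normal]
    (hQ : Q = Q1 K ∨ Q = Q2 K) (h : ∀ E, F.IsEssential p E → E = Q)
    (hc : ∀ x, (∀ g ∈ Q, g * x = x * g) → x ∈ Q) : F.IsConstrained p := by
  refine ⟨hF, Q, isNormal_of_essential (isP_top p) hF fun P hP => ?_,
    isCentric_of_isFullyCentralized (sat_centralized (isP_top p) hF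
      (isFullyNormalized_of_le_normalizer le_top (by rw [normalizer_eq_top])))
      fun x hx => hc x (mem_centralizerIn.1 hx).2⟩
  rcases hP with rfl | hP
  · exact ⟨le_top, fun f hf x hx => maps hs hQ hf hx⟩
  · obtain rfl := h P hP
    exact ⟨le_rfl, fun f hf x hx => hf.maps hx⟩

end Ess

theorem ext_of_lt (hF : F.IsSaturated p) (hs : Std F) {Q P : Subgroup (U K)}
    (hQ : Q = Q1 K ∨ Q = Q2 K) (hP : Q < P) (hf : Mor F P f) : Ext F P f := by
  refine alperin_essential (isP_top p) hF (Φ := fun P f => Q < P → Ext F P f) ?_ ?_ ?_ ?_ P f hf hP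
  · intro P f g _ h e hP
    obtain ⟨k, hk, e'⟩ := h hP
    exact ⟨k, hk, fun x hx => (e x hx).symm.trans (e' x hx)⟩
  · intro P P' f _ h e hP
    obtain ⟨k, hk, e'⟩ := h (hP.trans_le e)
    exact ⟨k, hk, fun x hx => e' x (e hx)⟩
  · intro P P' R f g hf _ h h' hP
    obtain ⟨k, hk, e⟩ := h hP
    obtain ⟨x, hx, hx'⟩ := SetLike.exists_of_lt hP
    obtain ⟨k', hk', e'⟩ := h' (SetLike.lt_iff_le_and_exists.2 ⟨fun y hy => by
      have := hP.le (Ess.maps hs hQ hk.symm hy)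
      rw [← perm_apply_inv k y, ← e _ this]
      exact hf.maps this, f x, hf.maps hx, fun hn => hx' (by
      have := Ess.maps hs hQ hk.symm hn
      rwa [e x hx, perm_inv_apply] at this)⟩)
    exact ⟨k' * k, hk.trans hk', fun y hy => by
      rw [Perm.mul_apply, Perm.mul_apply, e' _ (hf.maps hy), e y hy]⟩
  · intro P hP _ f hf h
    rcases hP with rfl | hP
    · exact ⟨f, hf, fun _ _ => rfl⟩
    · exact absurd h (Ess.not_lt hQ (ess_eq hF hP))

theorem constrained (hF : F.IsSaturated p) (hs : Std F)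
    (h : ¬ F.IsEssential p (Q1 K) ∨ ¬ F.IsEssential p (Q2 K)) : F.IsConstrained p := by
  rcases h with h | h
  · exact Ess.constr hF hs (.inr rfl) (fun E hE => (ess_eq hF hE).resolve_left fun e => h (e ▸ hE))
      fun x hx => (mem_A_iff.2 hx).1
  · exact Ess.constr hF hs (.inl rfl) (fun E hE => (ess_eq hF hE).resolve_right fun e => h (e ▸ hE))
      fun x hx => ⟨(mem_Z1_iff'.2 hx).2.2.1, (mem_Z1_iff'.2 hx).2.2.2.2⟩

end Cfsg.Lib.U5F
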