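import Cfsg.Agent.U5F.Defs

/-! Additive maps that are semilinear. -/

set_option autoImplicit false

namespace Cfsg.Lib.U5F

variable {K : Type*} [Field K]

theorem Semi.aux {f : K → K} (ha : ∀ a b, f (a + b) = f a + f b) (hb : Function.Bijective f)
    (hm : ∀ a b, f (a * b) * f 1 = f a * f b) : ∃ σ : K ≃+* K, ∀ t, f t = f 1 * σ t := by
  have h0 : f 0 = 0 := by simpa using ha 0 0
  have h1 : f 1 ≠ 0 := fun e => one_ne_zero (hb.1 (e.trans h0.symm))
  let φ : K →+* K :=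
    { toFun := fun t => f t / f 1
      map_one' := div_self h1
      map_mul' := fun a b => by field_simp; linear_combination hm a b
      map_zero' := by rw [h0, zero_div]
      map_add' := fun a b => by rw [ha, add_div] }
  refine ⟨RingEquiv.ofBijective φ ⟨φ.injective, fun y => ?_⟩, fun t => (mul_div_cancel₀ _ h1).symm⟩
  obtain ⟨x, hx⟩ := hb.2 (y * f 1)
  exact ⟨x, by change f x / f 1 = y; rw [hx, mul_div_cancel_right₀ _ h1]⟩

theorem semi {β β' : K → K} (ha : ∀ a b, β' (a + b) = β' a + β' b) (hb : Function.Bijective β')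
    (h1 : β 1 ≠ 0) (h : ∀ x, x ≠ 0 → ∃ x', ∀ t, β t = x' * β' (x * t)) :
    ∃ σ : K ≃+* K, ∀ t, β' t = β' 1 * σ t ∧ β t = β 1 * σ t := by
  obtain ⟨c, hc⟩ := h 1 one_ne_zero
  simp only [one_mul] at hc
  have hc0 : c ≠ 0 := fun e => h1 (by rw [hc, e, zero_mul])
  obtain ⟨σ, hσ⟩ := Semi.aux ha hb fun a b => by
    by_cases h0 : a = 0
    · have : β' 0 = 0 := by simpa using ha 0 0
      simp [h0, this]
    obtain ⟨x', e⟩ := h a h0
    have e1 := e 1
    rw [mul_one] at e1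
    refine mul_left_cancel₀ hc0 ?_
    linear_combination (-β' (a * b)) * hc 1 + β' (a * b) * e1 + β' a * hc b - β' a * e b
  exact ⟨σ, fun t => ⟨hσ t, by rw [hc t, hc 1, hσ t, mul_assoc]⟩⟩

theorem semi3 {f g k : K → K} (ha : ∀ a b, f (a + b) = f a + f b) (hb : Function.Bijective f)
    (h1 : g 1 ≠ 0) (h : ∀ t y, k (t * y) = f t * g y) :
    ∃ σ : K ≃+* K, ∀ t, f t = f 1 * σ t ∧ g t = g 1 * σ t := by
  have e : ∀ t, f t * g 1 = f 1 * g t := fun t => by rw [← h, ← h, mul_comm]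
  have e' : ∀ a b, f (a * b) * g 1 = f a * g b := fun a b => by rw [← h, ← h, mul_one]
  obtain ⟨σ, hσ⟩ := Semi.aux ha hb fun a b => mul_left_cancel₀ h1 (by
    linear_combination f 1 * e' a b - f a * e b)
  have h0 : f 0 = 0 := by simpa using ha 0 0
  have h2 : f 1 ≠ 0 := fun e => one_ne_zero (hb.1 (e.trans h0.symm))
  exact ⟨σ, fun t => ⟨hσ t, mul_left_cancel₀ h2 (by linear_combination g 1 * hσ t - e t)⟩⟩

end Cfsg.Lib.U5F
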