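import Cfsg.Agent.U5F.L3a
import Cfsg.Agent.U5F.Semi

/-! Fusion systems over a Sylow subgroup of `SU₅(q)`: the opposite root elements on `K³`. -/

set_option autoImplicit false
set_option linter.unusedSectionVars false

namespace Cfsg.Lib.U5F

open Cfsg Cfsg.FusionSystem Subgroup Equiv Cfsg.Lib.Fus

universe u v

variable {K : Type u} [Field K] [StarRing K] [Finite K] [UF K]
variable {X : Subgroup (Perm (K × K × K))}

open L3a

namespace L3b

theorem exists_n (h : Iso3 X) : ∃ n ∈ X, ∃ β β' γ : K → K, Function.Bijective β' ∧ β 1 ≠ 0 ∧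
    (∀ a b, β' (a + b) = β' a + β' b) ∧ ∀ t z c, n (t, z, c) = (β' c, γ z, β t) := by
  obtain ⟨g0, hg0, e0⟩ := h.f
  have p1 : ¬ P3 g0 := fun k => by
    have : g0 (0, 0, 1) = g0 (0, 0, 0) :=
      (Prod.ext (k 1).1 (e0 1)).trans (map_zero' h.toHy3 hg0).symm
    simpa using g0.injective this
  have p2 : ¬ P3 g0⁻¹ := fun k => by
    have k1 : g0⁻¹ (0, 0, 1) = (0, 0, (g0⁻¹ (0, 0, 1)).2.2) :=
      Prod.ext (k 1).1 (Prod.ext (k 1).2 rfl)
    rw [Perm.inv_eq_iff_eq] at k1
    have := e0 (g0⁻¹ (0, 0, 1)).2.2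
    rw [← k1] at this
    simp at this
  obtain ⟨y, x, hx, e1⟩ := (h.orb _ (inv_mem hg0)).resolve_left p2
  have hn : g0 * u3 y x ∈ X := mul_mem hg0 (h.u y x hx)
  have b1 := bij h.toHy3 hg0 p1
  have b2 := bij h.toHy3 (inv_mem hg0) p2
  have n1 : ∀ c, (g0 * u3 y x) (0, 0, c) = ((g0 (0, 0, c)).1, 0, 0) := fun c => by
    rw [Perm.mul_apply, u3_apply]
    simp only [mul_zero, add_zero, sub_zero]
    exact Prod.ext rfl (e0 c)
  have n2 : ∀ c, (g0 * u3 y x) ((g0⁻¹ (0, 0, c)).1, 0, 0) = (0, 0, c) := fun c => by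
    rw [Perm.mul_apply, ← e1, perm_apply_inv]
  generalize g0 * u3 y x = n at hn n1 n2
  have n3' : ∀ t, n (t, 0, 0) = (0, 0, (n (t, 0, 0)).2.2) := fun t => by
    obtain ⟨c, rfl⟩ := b2.2 t
    simp only [n2]
  have n4 : ∀ z, n (0, z, 0) = (0, (n (0, z, 0)).2.1, 0) := fun z => by
    refine Prod.ext (fst_of fun c => ?_) (Prod.ext rfl (thd_of fun t => ?_))
    · rw [← n2]
      exact h.comm n hn _ _ (by simp [hf])
    · obtain ⟨c, rfl⟩ := b1.2 t
      simp only [← n1]
      exact h.comm n hn _ _ (by simp [hf])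
  refine ⟨n, hn, fun t => (n (t, 0, 0)).2.2, fun c => (g0 (0, 0, c)).1,
    fun z => (n (0, z, 0)).2.1, b1, fun k => ?_, fun a b => congrArg Prod.fst (add3 h.toHy3 hg0 a b),
    fun t z c => ?_⟩
  · have : n (1, 0, 0) = n (0, 0, 0) := by
      rw [n3', map_zero' h.toHy3 hn]
      exact Prod.ext rfl (Prod.ext rfl k)
    simpa using n.injective this
  · have : ((t, z, c) : K × K × K) = (t, 0, 0) + (0, z, 0) + (0, 0, c) := by simp
    rw [this, h.add n hn, h.add n hn, n1, n3', n4]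
    simp

end L3b

theorem lin3b (h : Iso3 X) {y x : K} (hx : star x = -x - y * star y) :
    n3 * u3 y x * n3 ∈ X := by
  obtain ⟨n, hn, β, β', γ, hb, b1, ha, e⟩ := L3b.exists_n h
  have z0 : β' 0 = 0 := by simpa using ha 0 0
  have key : ∀ y x : K, star x = -x - y * star y → x ≠ 0 → ∃ y' x' : K,
      star x' = -x' - y' * star y' ∧ ∀ s, γ (y * s) = y' * β' (x * s) ∧ β s = x' * β' (x * s) := by
    intro y x hx x0
    have e1 : ∀ c, (n * u3 y x * n) (0, 0, c) =
        (β' (x * β' c), γ (y * β' c), β (β' c)) := fun c => by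
      have g0 := map_zero' h.toHy3 hn
      rw [e, Prod.ext_iff, Prod.ext_iff] at g0
      rw [Perm.mul_apply, Perm.mul_apply, e 0 0 c, show γ 0 = 0 from g0.2.1, show β 0 = 0 from g0.2.2,
        u3_apply, e]
      simp
    rcases h.orb _ (mul_mem (mul_mem hn (h.u y x hx)) hn) with k | ⟨y', x', h1, h2⟩
    · obtain ⟨c, hc⟩ := hb.2 1
      have := (k c).1
      rw [e1, hc, mul_one, ← z0] at this
      exact absurd (hb.1 this) x0
    · refine ⟨y', x', h1, fun s => ?_⟩
      obtain ⟨c, rfl⟩ := hb.2 s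
      have := h2 c
      rw [e1, u3_apply] at this
      simpa using this
  obtain ⟨σ, hσ⟩ := semi (β := β) ha hb b1 fun x x0 => by
    obtain ⟨y, hy⟩ := exists_adm' x
    obtain ⟨y', x', -, k⟩ := key y x hy x0
    exact ⟨x', fun t => (k t).2⟩
  have b2 : β' 1 ≠ 0 := fun k => one_ne_zero (hb.1 (k.trans z0.symm))
  have hγ : ∀ s, γ s = γ 1 * σ s := by
    obtain ⟨x0, hx0⟩ := exists_adm (1 : K)
    obtain ⟨y', x', -, k⟩ := key 1 x0 hx0 (by rintro rfl; simp at hx0)
    intro s
    have k1 := (k s).1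
    have k2 := (k 1).1
    rw [one_mul, (hσ _).1, map_mul] at k1 k2
    rw [k1, k2, map_one]
    ring
  have e' : ∀ t z c, n (t, z, c) = (β' 1 * σ c, γ 1 * σ z, β 1 * σ t) := fun t z c => by
    rw [e, (hσ c).1, hγ z, (hσ t).2]
  have nrm : star (β 1) * β' 1 - γ 1 * star (γ 1) = 0 ∧
      β 1 * star (β' 1) - γ 1 * star (γ 1) = 0 := sep fun t => by
    obtain ⟨x, rfl⟩ := σ.surjective t
    by_cases x0 : x = 0
    · simp [x0]
    obtain ⟨y, hy⟩ := exists_adm' x
    obtain ⟨y', x', h1, k⟩ := key y x hy x0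
    obtain ⟨k1, k2⟩ := k 1
    rw [mul_one, mul_one, hγ y, (hσ x).1] at k1
    rw [mul_one, (hσ x).1] at k2
    have h2 := congrArg σ hy
    rw [map_sub, map_neg, map_mul, sc σ, sc σ] at h2
    have k3 := congrArg star k1
    have k4 := congrArg star k2
    simp only [star_mul'] at k3 k4
    linear_combination (β' 1 * σ x) * k4 + (star (β' 1) * star (σ x)) * k2 +
      (β' 1 * σ x * (star (β' 1) * star (σ x))) * h1 - (γ 1 * star (γ 1)) * h2 +
      (star (γ 1) * star (σ y)) * k1 + (y' * (β' 1 * σ x)) * k3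
  obtain ⟨r1, r2⟩ := nrm
  generalize β 1 = b, β' 1 = b', γ 1 = c at e' r1 r2 b1 b2
  have c0 : c ≠ 0 := by
    rintro rfl
    simp [b1, b2] at r1
  have c1 : star c ≠ 0 := star_ne_zero.2 c0
  have b3 : star b' ≠ 0 := star_ne_zero.2 b2
  have adm : star (σ.symm (x * b / b')) =
      -σ.symm (x * b / b') - σ.symm (-y * b / c) * star (σ.symm (-y * b / c)) := by
    apply σ.injective
    simp only [map_sub, map_neg, map_mul, sc σ _, RingEquiv.apply_symm_apply, star_div₀, star_mul',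
      star_neg, hx]
    field_simp
    linear_combination (-(x + y * star y) * c * star c + y * star y * b * star b') * r1 +
      (x * c * star c + y * star y * c * star c) * r2
  have : n3 * u3 y x * n3 = n * u3 (σ.symm (-y * b / c)) (σ.symm (x * b / b')) * n⁻¹ := by
    rw [eq_mul_inv_iff_mul_eq]
    refine Equiv.ext fun ⟨t, z, s⟩ => ?_
    simp only [Perm.mul_apply, e', u3_apply, n3_apply, map_add, map_sub, map_mul, sc σ _,
      RingEquiv.apply_symm_apply, star_div₀, star_mul', star_neg, Prod.mk.injEq, and_true]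
    constructor <;> field_simp
    · linear_combination (-(star y * σ z)) * r1
    · ring
  rw [this]
  exact mul_mem (mul_mem hn (h.u _ _ adm)) (inv_mem hn)

end Cfsg.Lib.U5F
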