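import Cfsg.Agent.U5F.Fld

/-! The Weyl element and the torus on `K³`; change of coordinates. -/

set_option autoImplicit false
set_option linter.unusedSectionVars false

namespace Cfsg.Lib.U5F

open Cfsg Cfsg.FusionSystem Subgroup Equiv Cfsg.Lib.Fus

universe u

variable {K : Type u} [Field K] [StarRing K] [Finite K] [UF K] {p : ℕ} [Fact p.Prime] [CharP K p]
variable {X : Subgroup (Perm (K × K × K))}

namespace L3c

theorem v_apply (y x t z s : K) :
    (n3 * u3 y x * n3 : Perm (K × K × K)) (t, z, s) = (t + star y * z + x * s, z - y * s, s) := by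
  rw [Perm.mul_apply, Perm.mul_apply, n3_apply, u3_apply, n3_apply]
  ext <;> simp only <;> ring

theorem exists_m (h : ∀ y x : K, star x = -x - y * star y → u3 y x ∈ X ∧ n3 * u3 y x * n3 ∈ X)
    {x : K} (hx : x ≠ 0) : ∃ g ∈ X, ∀ t z s, g (t, z, s) = (s / star x, -(star x / x) * z, x * t) := by
  obtain ⟨y, hy⟩ := exists_adm' x
  have hx' : star x ≠ 0 := star_ne_zero.2 hx
  have e : y * star y = -x - star x := by linear_combination hy
  have a1 : star (1 / star x) = -(1 / star x) - y / x * star (y / x) := by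
    rw [star_div₀, star_div₀, star_one, star_star]
    field_simp
    linear_combination e
  have a2 : star (1 / star x) = -(1 / star x) - y / star x * star (y / star x) := by
    rw [star_div₀, star_div₀, star_one, star_star]
    field_simp
    linear_combination e
  refine ⟨_, mul_mem (mul_mem (h _ _ a1).2 (h _ _ hy).1) (h _ _ a2).2, fun t z s => ?_⟩
  rw [Perm.mul_apply, Perm.mul_apply, v_apply, u3_apply, v_apply, star_div₀, star_div₀, star_star]
  have z2 : z - y / star x * s + y * (t + star y / x * z + 1 / star x * s) =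
      y * t - star x / x * z := by
    field_simp
    linear_combination (star x * z) * e
  have s2 : s - star y * (z - y / star x * s) + x * (t + star y / x * z + 1 / star x * s) =
      x * t := by
    field_simp
    linear_combination s * e
  rw [z2, s2]
  ext <;> simp only <;> field_simp
  · linear_combination (x * t) * e
  · ring

variable (l l' m m' : K)

theorem sg_add (v w : K × K × K) : sg l l' m m' (v + w) = sg l l' m m' v + sg l l' m m' w := by
  obtain ⟨a, b, c⟩ := v
  obtain ⟨a', b', c'⟩ := w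
  rw [Prod.mk_add_mk, Prod.mk_add_mk, sg_apply, sg_apply, sg_apply]
  ext <;> simp only [Prod.mk_add_mk, star_add] <;> ring

theorem sg_fix (c : K) : sg l l' m m' (0, 0, c) = (0, 0, c) := by
  rw [sg_apply]; simp

theorem sg_fst (v : K × K × K) : (sg l l' m m' v).1 = v.1 := rfl

theorem sg_line (v : K × K × K) :
    (sg l l' m m' v).1 = 0 ∧ (sg l l' m m' v).2.1 = 0 ↔ v.1 = 0 ∧ v.2.1 = 0 := by
  obtain ⟨a, b, c⟩ := v
  rw [sg_apply]
  refine and_congr_right fun h => ?_
  have h' : a = 0 := h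
  simp [h']

variable {l'} in
theorem sg_u3 (h2 : 2 * l' = 0) (y x : K) (v : K × K × K) :
    sg l l' m m' (u3 y x v) = u3 y (x + star y * l - star l * y) (sg l l' m m' v) := by
  obtain ⟨a, b, c⟩ := v
  rw [u3_apply, sg_apply, sg_apply, u3_apply]
  ext <;> simp only [star_add, star_mul']
  · ring
  · linear_combination (star y * star a) * h2

variable {l l' m m'} in
theorem sg_hf (hi : ∀ t t', hf (sg l l' m m' (t, 0, 0)) (sg l l' m m' (t', 0, 0)) =
      hf (sg l l' m m' (t', 0, 0)) (sg l l' m m' (t, 0, 0))) (v w : K × K × K) :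
    hf (sg l l' m m' v) (sg l l' m m' w) = hf (sg l l' m m' w) (sg l l' m m' v) ↔
      hf v w = hf w v := by
  obtain ⟨a, b, c⟩ := v
  obtain ⟨a', b', c'⟩ := w
  have e := hi a a'
  simp only [sg_apply, hf, star_add, star_sub, star_mul', star_star, star_zero] at e ⊢
  exact ⟨fun h => by linear_combination h - e, fun h => by linear_combination h + e⟩

end L3c

open L3c

theorem lin3c (h : ∀ y x : K, star x = -x - y * star y → u3 y x ∈ X ∧ n3 * u3 y x * n3 ∈ X) :
    n3 ∈ X ∧ ∀ m : K, m ≠ 0 →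
      ∃ g ∈ X, ∀ t y c, g (t, y, c) = (t / m, m / star m * y, star m * c) := by
  have h1 : n3 ∈ X := by
    obtain ⟨g, hg, e⟩ := exists_m h one_ne_zero
    have : n3 = g := Equiv.ext fun ⟨t, z, s⟩ => by rw [e, n3_apply]; simp
    exact this ▸ hg
  refine ⟨h1, fun m hm => ?_⟩
  obtain ⟨g, hg, e⟩ := exists_m h (star_ne_zero.2 hm)
  refine ⟨g * n3, mul_mem hg h1, fun t y c => ?_⟩
  rw [Perm.mul_apply, n3_apply, e, star_star, neg_mul_neg]

theorem iso3_conj (h : Hy3 X) {l l' m m' : K} (h2 : 2 * l' = 0)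
    (hi : ∀ t t', hf (sg l l' m m' (t, 0, 0)) (sg l l' m m' (t', 0, 0)) =
      hf (sg l l' m m' (t', 0, 0)) (sg l l' m m' (t, 0, 0)))
    (h0 : ∃ g ∈ X, ∀ c, g (0, 0, c) = sg l l' m m' ((g (0, 0, c)).1, 0, 0))
    (ho : ∀ g ∈ X, P3 g ∨ ∃ y x, star x = -x - y * star y ∧
      ∀ c, g (0, 0, c) = u3 y x (sg l l' m m' ((g (0, 0, c)).1, 0, 0))) :
    Iso3 (X.comap (MulAut.conj (sg l l' m m')).toMonoidHom) := by
  have mem : ∀ g', g' ∈ X.comap (MulAut.conj (sg l l' m m')).toMonoidHom ↔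
      ∃ g ∈ X, ∀ v, g (sg l l' m m' v) = sg l l' m m' (g' v) := fun g' =>
    ⟨fun hg => ⟨sg l l' m m' * g' * (sg l l' m m')⁻¹, hg, fun v => by simp⟩, fun ⟨g, hg, e⟩ => by
      have : sg l l' m m' * g' * (sg l l' m m')⁻¹ = g := by
        rw [mul_inv_eq_iff_eq_mul]
        exact Equiv.ext fun v => (e v).symm
      exact (show sg l l' m m' * g' * (sg l l' m m')⁻¹ ∈ X from this ▸ hg)⟩
  have ex : ∀ g ∈ X, ∃ g' ∈ X.comap (MulAut.conj (sg l l' m m')).toMonoidHom,
      ∀ v, g (sg l l' m m' v) = sg l l' m m' (g' v) := fun g hg =>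
    have e : ∀ v, g (sg l l' m m' v) = sg l l' m m' (((sg l l' m m')⁻¹ * g * sg l l' m m') v) :=
      fun v => by simp
    ⟨_, (mem _).2 ⟨g, hg, e⟩, e⟩
  have fx : ∀ {g g' : Perm (K × K × K)}, (∀ v, g (sg l l' m m' v) = sg l l' m m' (g' v)) →
      ∀ c, g (0, 0, c) = sg l l' m m' (g' (0, 0, c)) := fun e c => by rw [← e, sg_fix]
  have p3 : ∀ {g g' : Perm (K × K × K)}, (∀ v, g (sg l l' m m' v) = sg l l' m m' (g' v)) →
      (P3 g ↔ P3 g') := fun e => forall_congr' fun c => by rw [fx e c, sg_line]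
  refine ⟨⟨fun g' hg v w => ?_, fun y x hx => ?_, fun g' hg v w hv => ?_, fun g' hg => ?_, ?_⟩, ?_,
    fun g' hg => ?_⟩
  · obtain ⟨g, hg, e⟩ := (mem _).1 hg
    refine (sg l l' m m').injective ?_
    rw [← e, sg_add, sg_add, h.add g hg, e, e]
  · refine (mem _).2 ⟨_, h.u y (x + star y * l - star l * y) ?_, fun v => (sg_u3 l m m' h2 y x v).symm⟩
    simp only [star_add, star_sub, star_mul', star_star, hx]
    ring
  · obtain ⟨g, hg, e⟩ := (mem _).1 hg
    rw [← sg_hf hi, ← e, ← e]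
    exact h.comm g hg _ _ ((sg_hf hi v w).2 hv)
  · obtain ⟨g, hg, e⟩ := (mem _).1 hg
    refine (h.ti g hg).imp (p3 e).1 fun k c hc => ?_
    have := k c hc
    rwa [fx e c, sg_fst] at this
  · obtain ⟨g, hg, k⟩ := h.mv
    obtain ⟨g', hg', e⟩ := ex g hg
    exact ⟨g', hg', fun k' => k ((p3 e).2 k')⟩
  · obtain ⟨g, hg, k⟩ := h0
    obtain ⟨g', hg', e⟩ := ex g hg
    refine ⟨g', hg', fun c => ?_⟩
    rw [(sg l l' m m').injective ((fx e c).symm.trans (k c))]
    rfl
  · obtain ⟨g, hg, e⟩ := (mem _).1 hg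
    refine (ho g hg).imp (p3 e).1 fun ⟨y, x, hx, k⟩ => ⟨y, x - star y * l + star l * y, ?_, fun c => ?_⟩
    · simp only [star_add, star_sub, star_mul', star_star, hx]
      ring
    · refine (sg l l' m m').injective ?_
      rw [sg_u3 l m m' h2, ← fx e c, k c, ← sg_fst l l' m m' (g' (0, 0, c)), ← fx e c]
      congr 2
      ring

end Cfsg.Lib.U5F
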