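import Cfsg.Agent.U5F.L3a
import Cfsg.Agent.U5F.L3b
import Cfsg.Agent.U5F.L3c

/-! Fusion systems over a Sylow subgroup of `SU₅(q)`: the group induced on `K³`. -/

set_option autoImplicit false
set_option linter.unusedSectionVars false

namespace Cfsg.Lib.U5F

open Cfsg Cfsg.FusionSystem Subgroup Equiv Cfsg.Lib.Fus

universe u v

variable {K : Type u} [Field K] [StarRing K] [Finite K] [UF K]
variable {X : Subgroup (Perm (K × K × K))}

theorem lin3 (h : Hy3 X) (hb : Bo3 X) : n3 ∈ X ∧
    (∀ m : K, m ≠ 0 → ∃ g ∈ X, ∀ t y c, g (t, y, c) = (t / m, m / star m * y, star m * c)) ∧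
    ∀ g ∈ X, P3 g ∨ ∃ y x, star x = -x - y * star y ∧ P3 (n3 * u3 y x * g) := by
  obtain ⟨l, l', m, m', h2, hi, h0, ho⟩ := lin3a h
  have I := iso3_conj h h2 hi h0 ho
  obtain ⟨k1, k2⟩ := lin3c fun y x hx => ⟨I.u y x hx, lin3b I hx⟩
  obtain ⟨ν, n0, n1, n2⟩ := exists_sq_ne (K := K)
  have n3' : star ν ≠ 0 := star_ne_zero.2 n0
  obtain ⟨d, hd, ed⟩ := k2 ν n0
  have eg : ∀ v, (sg l l' m m' * d * (sg l l' m m')⁻¹) (sg l l' m m' v) = sg l l' m m' (d v) :=
    fun v => by simp
  have hg : sg l l' m m' * d * (sg l l' m m')⁻¹ ∈ X := hd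
  generalize sg l l' m m' * d * (sg l l' m m')⁻¹ = g at eg hg
  have e1 : ∀ c, g (0, 0, c) = (0, 0, star ν * c) := fun c => by
    simpa [sg_apply, ed] using eg (0, 0, c)
  obtain ⟨y, x, a, b, τ, -, e⟩ := hb g hg fun c => by rw [e1]; exact ⟨rfl, rfl⟩
  have e2 : ∀ c, star ν * c = a * star b * τ c := fun c => by
    simpa [e1, u3_apply] using e 0 0 c
  have e3 : a * star b = star ν := by simpa using (e2 1).symm
  have e4 : ∀ c, τ c = c := fun c => (mul_left_cancel₀ n3' (e3 ▸ e2 c)).symm
  simp only [e4, e3, u3_apply] at e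
  have e5 : a = ν / star ν := by
    have := eg (0, 1, 0)
    rw [ed, sg_apply, sg_apply, e] at this
    simpa using congrArg (·.2.1) this
  have e6 : ∀ t, a * (l * t + l' * star t) + y * (a / b * t) =
        l * (t / ν) + l' * (star t / star ν) ∧
      star ν * (m * t + m' * star t) - star y * (a * (l * t + l' * star t)) + x * (a / b * t) =
        m * (t / ν) + m' * (star t / star ν) := fun t => by
    have := eg (t, 0, 0)
    rw [ed, sg_apply, sg_apply, e] at this
    simpa using congrArg (·.2) this
  obtain rfl : l' = 0 := by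
    have := (sep (a := a * l + y * (a / b) - l / ν) (b := a * l' - l' / star ν) fun t => by
      linear_combination (e6 t).1).2
    rw [e5] at this
    field_simp at this
    have k : l' * (ν - 1) = 0 := by linear_combination this
    exact (mul_eq_zero.1 k).resolve_right fun k => n2 (by rw [sub_eq_zero.1 k, star_one])
  obtain rfl : m' = 0 := by
    have := (sep (a := star ν * m - star y * (a * l) + x * (a / b) - m / ν)
      (b := star ν * m' - m' / star ν) fun t => by linear_combination (e6 t).2).2
    field_simp at this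
    have k : m' * (star ν ^ 2 - 1) = 0 := by linear_combination this
    refine (mul_eq_zero.1 k).resolve_right fun k => n1 ?_
    have := congrArg star (sub_eq_zero.1 k)
    simpa using this
  have adm : star m = -m - l * star l := by
    have := (sep (a := star m + m + l * star l) (b := -(star m + m + l * star l)) fun t => by
      have := hi t 1
      simp only [hf, sg_apply, star_add, star_sub, star_mul', star_zero, star_one] at this
      linear_combination this).1
    linear_combination this
  have es : sg l 0 m 0 = u3 l m := Equiv.ext fun ⟨a, b, c⟩ => by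
    rw [sg_apply, u3_apply]
    refine Prod.ext rfl (Prod.ext ?_ ?_) <;> simp only <;> ring
  have eX : X.comap (MulAut.conj (sg l 0 m 0)).toMonoidHom = X := by
    ext φ
    change sg l 0 m 0 * φ * (sg l 0 m 0)⁻¹ ∈ X ↔ _
    rw [es, mul_mem_cancel_right (inv_mem (h.u l m adm)), mul_mem_cancel_left (h.u l m adm)]
  rw [eX] at I k1 k2
  refine ⟨k1, k2, fun g hg => (I.orb g hg).imp_right ?_⟩
  rintro ⟨y, x, hx, e⟩
  refine ⟨-y, star x, by rw [star_star, hx, star_neg]; ring, fun c => ?_⟩
  rw [Perm.mul_apply, Perm.mul_apply, e, u3_apply, u3_apply, n3_apply, hx, star_neg]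
  constructor <;> simp only <;> ring

end Cfsg.Lib.U5F
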