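import Cfsg.Agent.U5F.TI
import Cfsg.Agent.U5F.L3d

/-! The group induced on `Q₁ / Z₁` and the torus of the Levi factor `SU₃(q)`. -/

set_option autoImplicit false
set_option linter.unusedSectionVars false

namespace Cfsg.Lib.U5F

open Cfsg Cfsg.FusionSystem Subgroup Equiv Cfsg.Lib.Fus U

universe u

variable {K : Type u} [Field K] [StarRing K] [Finite K] [UF K] {p : ℕ} [Fact p.Prime] [CharP K p]
variable {F F' : FusionSystem (⊤ : Subgroup (U K))} {f : Perm (U K)}

namespace H1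

theorem pi3_mul {g h : U K} (hh : h ∈ Q1 K) : pi3 (g * h) = pi3 g + pi3 h := by
  simp [pi3, hh.1, hh.2]

theorem piso_cj (F : FusionSystem (⊤ : Subgroup (U K))) (Q : Subgroup (U K)) [hQ : Q.Normal]
    (k : U K) : PIso F (cj k) Q Q :=
  (Mor.cj F le_top (mem_top k)).piso_of_maps fun _ hx => hQ.conj_mem _ hx k

/-- The element of `U K` inducing the root element `u3 y x`. -/
def rEl (y x : K) (h : star x = -x - y * star y) : U K :=
  ⟨0, 0, -y, 0, 0, star x, by simp, by rw [star_star, star_neg, h]; ring⟩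

theorem pi3_rEl {y x : K} (h : star x = -x - y * star y) {g : U K} (hg : g ∈ Q1 K) :
    pi3 (cj (rEl y x h) g) = u3 y x (pi3 g) := by
  rw [cj_apply, pi3_conj _ hg]
  simp [rEl]

theorem Q1_lt : Q1 K < ⊤ := lt_top_iff_ne_top.2 fun e => by
  obtain ⟨g, -, -, h, -⟩ := exists_el (0 : K) 0 1 0
  have : g ∈ Q1 K := e ▸ mem_top g
  exact one_ne_zero (h.symm.trans this.1)

end H1

open H1 in
theorem hy3 (hF : F.IsSaturated p) (hs : Std F) (hE : F.IsEssential p (Q1 K)) : Hy3 (X3 F) where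
  add := by
    rintro φ ⟨f, hf, e⟩ v w
    obtain ⟨g, hg, rfl⟩ := exists_Q1 v
    obtain ⟨h, hh, rfl⟩ := exists_Q1 w
    rw [← pi3_mul hh, ← e _ (mul_mem hg hh), hf.map_mul hg hh, pi3_mul (hf.maps hh), e g hg, e h hh]
  u y x h := ⟨cj (rEl y x h), piso_cj F _ _, fun _ hg => pi3_rEl h hg⟩
  comm := by
    rintro φ ⟨f, hf, e⟩ v w c
    obtain ⟨g, hg, rfl⟩ := exists_Q1 v
    obtain ⟨h, hh, rfl⟩ := exists_Q1 w
    rw [← e g hg, ← e h hh, ← comm_Q1 (hf.maps hg) (hf.maps hh), ← hf.map_mul hg hh,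
      ← hf.map_mul hh hg, (comm_Q1 hg hh).2 c]
  ti := ti3 hF hs
  mv := by
    by_contra hn
    refine closure_extendable_ne_of_isEssential (isP_top p) hF hE
      (le_antisymm ((closure_le _).2 fun _ h => h.mem) fun α hα => subset_closure ?_)
    have hf := piso_pext_of_mem le_top hα
    obtain ⟨φ, hφ, e⟩ := exists_X3 hf
    obtain ⟨k, hk, ek⟩ := ext1 hF hf e (by_contra fun h => hn ⟨φ, hφ, h⟩)
    exact ⟨⊤, k, Q1_lt, hk.mor, fun x hx => (ek x hx).symm⟩

theorem tor1 (hF : F.IsSaturated p) (hs : Std F) (hE : F.IsEssential p (Q1 K)) : Tor1 F := by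
  intro m hm
  obtain ⟨φ, ⟨f, hf, e⟩, hφ⟩ := (lin3 (hy3 hF hs hE) (bo3 hF hs)).2.1 m hm
  obtain ⟨k, hk, ek⟩ := ext1 hF hf e fun c => by simp [hφ]
  obtain ⟨u, a, b, σ, hσ, ha, hb, eu⟩ := hs k hk
  have hg : Mor F ⊤ (gam a b σ hσ) :=
    (hk.mor.conj_comp (mem_top u⁻¹)).congr fun x _ => by rw [eu]; group
  have key : ∀ t z c : K, (t / m, m / star m * z, star m * c) =
      u3 (-u.y2) (star u.x2) (a / b * σ t, a * σ z, a * star b * σ c) := fun t z c => by
    obtain ⟨g, hg, e'⟩ := exists_Q1 (t, z, c)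
    have hq : gam a b σ hσ g ∈ Q1 K := ⟨by simp [hg.1], by simp [hg.2]⟩
    rw [← hφ, ← e', ← e g hg, ek g hg, eu, pi3_conj _ hq]
    simp only [pi3, Prod.mk.injEq] at e'
    simp only [pi3, gam_t, gam_y1, gam_s, e'.1, e'.2.1, e'.2.2]
  have hs' : star m ≠ 0 := star_ne_zero.2 hm
  have k3 : ∀ c, star m * c = a * star b * σ c := fun c => by
    simpa [u3_apply] using key 0 0 c
  have hid : ∀ c, σ c = c := fun c => mul_left_cancel₀ hs' (by
    have := k3 1
    rw [map_one, mul_one, mul_one] at this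
    rw [k3 c, this])
  have k2 : m / star m = a := by
    have := congrArg (fun v => v.2.1) (key 0 1 0)
    simpa [u3_apply] using this
  have k1 : 1 / m = a / b := by
    have := congrArg (fun v => v.1) (key 1 0 0)
    simpa [u3_apply] using this
  have k4 : m ^ 2 / star m = b := by
    rw [div_eq_div_iff hm hb, ← k2] at k1
    rw [one_mul] at k1
    rw [k1]; ring
  rw [k4, k2]
  exact hg.congr fun x _ => gam_congr hid x

end Cfsg.Lib.U5F
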