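import Cfsg.Agent.U5F.Defs
import Cfsg.Agent.Class.HermField

/-! Fusion systems over a Sylow subgroup of `SU₅(q)`: facts about the field. -/

set_option autoImplicit false
set_option linter.unusedSectionVars false

namespace Cfsg.Lib.U5F

open Cfsg Cfsg.FusionSystem Subgroup Equiv Cfsg.Lib.Fus Cfsg.Lib.Class Cfsg.Lib.Class.Form

section Fld
variable {K : Type*} [Field K] [StarRing K] [Finite K] [UF K]

namespace Fld

theorem ne_id : starRingEnd K ≠ RingHom.id K := fun e => by
  obtain ⟨d, hd⟩ := UF.nt (K := K)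
  exact hd (DFunLike.congr_fun e d)

theorem invol (a : K) : starRingEnd K (starRingEnd K a) = a := star_star a

theorem base [Fintype K] : Fintype.card K = qq K ^ 2 ∧ ∀ x : K, star x = x ^ qq K := by
  obtain ⟨q, h1, h2⟩ := exists_card_eq_sq (ne_id (K := K)) invol
  have h3 : ∀ x : K, star x = x ^ q := h2
  have : qq K = q := by
    rw [qq, ← card_pow_eq_self h1]
    simp only [h3]
  rw [this]
  exact ⟨h1, h3⟩

end Fld

theorem card_K : Nat.card K = qq K ^ 2 := by
  have := Fintype.ofFinite K
  rw [Nat.card_eq_fintype_card, Fld.base.1]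

theorem two_le_qq : 2 ≤ qq K := by
  have := Fintype.ofFinite K
  exact two_le_of_card_sq Fld.base.1

theorem star_eq_pow (x : K) : star x = x ^ qq K := by
  have := Fintype.ofFinite K
  exact Fld.base.2 x

theorem qq_eq_pow (p : ℕ) [Fact p.Prime] [CharP K p] : ∃ n, qq K = p ^ n := by
  have := Fintype.ofFinite K
  obtain ⟨n, hp, hn⟩ := FiniteField.card K p
  have h : qq K ∣ p ^ (n : ℕ) := by
    rw [← hn, Fld.base.1]
    exact dvd_pow_self _ two_ne_zero
  obtain ⟨k, -, hk⟩ := (Nat.dvd_prime_pow hp).1 h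
  exact ⟨k, hk⟩

theorem sc (σ : K ≃+* K) : SC σ := fun x => by rw [star_eq_pow, star_eq_pow, map_pow]

theorem exists_skew : ∃ d : K, d ≠ 0 ∧ star d = -d := by
  obtain ⟨d, hd⟩ := UF.nt (K := K)
  exact ⟨d - star d, sub_ne_zero.2 hd.symm, by simp⟩

theorem exists_norm {c : K} (hc : star c = c) : ∃ y : K, y * star y = c := by
  obtain ⟨y, hy⟩ := exists_norm_eq (Fld.ne_id (K := K)) Fld.invol (μ := c) hc
  exact ⟨y, (mul_comm _ _).trans hy⟩

theorem exists_adm (y : K) : ∃ x : K, star x = -x - y * star y := by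
  obtain ⟨x, hx⟩ := exists_trace_eq (Fld.ne_id (K := K)) Fld.invol (n := -(y * star y))
    (by rw [starRingEnd_apply]; simp [mul_comm])
  exact ⟨x, by rw [starRingEnd_apply] at hx; linear_combination hx⟩

theorem exists_adm' (x : K) : ∃ y : K, star x = -x - y * star y := by
  obtain ⟨y, hy⟩ := exists_norm (c := -(x + star x)) (by simp [add_comm])
  exact ⟨y, by linear_combination hy⟩

theorem card_adm (y : K) : Nat.card {x : K // star x = -x - y * star y} = qq K := by
  have := Fintype.ofFinite K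
  refine .trans (Nat.card_congr (Equiv.subtypeEquivRight fun x => ?_))
    (card_trace_eq Fld.base.1 (n := -(y * star y)) (by rw [← star_eq_pow]; simp [mul_comm]))
  rw [← star_eq_pow]
  exact ⟨fun h => by linear_combination h, fun h => by linear_combination h⟩

theorem card_skew : Nat.card {x : K // star x = -x} = qq K := by
  simpa using card_adm (0 : K)

theorem exists_norm_one : ∃ z : K, z ≠ 1 ∧ z * star z = 1 := by
  obtain ⟨d, hd⟩ := UF.nt (K := K)
  have d0 : d ≠ 0 := by rintro rfl; simp at hd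
  have d1 : star d ≠ 0 := by simpa
  refine ⟨star d / d, fun e => hd ((div_eq_one_iff_eq d0).1 e), ?_⟩
  rw [star_div₀, star_star]
  field_simp

theorem exists_sq_ne : ∃ m : K, m ≠ 0 ∧ m ^ 2 ≠ 1 ∧ star m ≠ m := by
  obtain ⟨d, hd⟩ := UF.nt (K := K)
  refine ⟨d, by rintro rfl; simp at hd, fun e => ?_, hd⟩
  rcases sq_eq_one_iff.1 e with rfl | rfl <;> simp at hd

theorem exists_gen : (∃ m : K, m ≠ 0 ∧ star m ≠ m ∧ m * star m ≠ 1) ∨
    ∃ w : K, w ≠ 0 ∧ w ≠ 1 ∧ w ^ 3 = 1 ∧ star w = w ^ 2 := by
  obtain ⟨d, hd⟩ := UF.nt (K := K)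
  have d0 : d ≠ 0 := by rintro rfl; simp at hd
  by_cases h1 : d * star d = 1
  swap
  · exact .inl ⟨d, d0, hd, h1⟩
  have hd' : star (d + 1) ≠ d + 1 := by simpa
  by_cases h2 : (d + 1) * star (d + 1) = 1
  swap
  · exact .inl ⟨d + 1, fun e => hd' (by rw [e, star_zero]), hd', h2⟩
  rw [star_add, star_one] at h2
  have h3 : star d = -1 - d := by linear_combination h2 - h1
  rw [h3] at h1
  exact .inr ⟨d, d0, by rintro rfl; simp at hd, by linear_combination (1 - d) * h1,
    by rw [h3]; linear_combination h1⟩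

theorem real_mul {y y' : K} (hy : y ≠ 0) (h : y * star y' = y' * star y) :
    ∃ c, star c = c ∧ y' = c * y := by
  have : star y ≠ 0 := by simpa
  refine ⟨y' / y, ?_, by field_simp⟩
  rw [star_div₀]
  field_simp
  linear_combination h

theorem card_line {y : K} (hy : y ≠ 0) :
    Nat.card {y' : K // y * star y' = y' * star y} = qq K := by
  refine (Nat.card_congr (Equiv.ofBijective
    (fun c : {x : K // star x = x} => (⟨c.1 * y, by rw [star_mul', c.2]; ring⟩ :
      {y' : K // y * star y' = y' * star y})) ⟨fun a b e => ?_, fun a => ?_⟩)).symm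
  · exact Subtype.ext (mul_right_cancel₀ hy (congrArg Subtype.val e))
  · obtain ⟨c, h1, h2⟩ := real_mul hy a.2
    exact ⟨⟨c, h1⟩, Subtype.ext h2.symm⟩

theorem exists_im {c : K} (hc : star c = -c) : ∃ y : K, y - star y = c := by
  obtain ⟨d, hd⟩ := UF.nt (K := K)
  have h1 : d - star d ≠ 0 := sub_ne_zero.2 hd.symm
  have h2 : star d - d ≠ 0 := sub_ne_zero.2 hd
  refine ⟨c / (d - star d) * d, ?_⟩
  rw [star_mul', star_div₀, star_sub, star_star, hc]
  field_simp
  ring

theorem sep {a b : K} (h : ∀ t, a * t + b * star t = 0) : a = 0 ∧ b = 0 := by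
  obtain ⟨d, hd⟩ := UF.nt (K := K)
  have h1 := h 1
  have h2 := h d
  rw [star_one] at h1
  have h3 : b * (star d - d) = 0 := by linear_combination h2 - d * h1
  have h4 : b = 0 := (mul_eq_zero.1 h3).resolve_right (sub_ne_zero.2 hd)
  exact ⟨by simpa [h4] using h1, h4⟩

theorem f0lin {f : K → K} (ha : ∀ a b, f (a + b) = f a + f b)
    (hs : ∀ c t, star c = c → f (c * t) = c * f t) : ∃ a b, ∀ t, f t = a * t + b * star t := by
  obtain ⟨d, hd⟩ := UF.nt (K := K)
  have h1 : d - star d ≠ 0 := sub_ne_zero.2 hd.symm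
  have h2 : star d - d ≠ 0 := sub_ne_zero.2 hd
  refine ⟨(f d - star d * f 1) / (d - star d), (d * f 1 - f d) / (d - star d), fun t => ?_⟩
  have e : t = (d * star t - star d * t) / (d - star d) * 1 + (t - star t) / (d - star d) * d := by
    field_simp
    ring
  have r1 : star ((d * star t - star d * t) / (d - star d)) =
      (d * star t - star d * t) / (d - star d) := by
    simp only [star_div₀, star_sub, star_mul', star_star]
    field_simp
    ring
  have r2 : star ((t - star t) / (d - star d)) = (t - star t) / (d - star d) := by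
    simp only [star_div₀, star_sub, star_star]
    field_simp
    ring
  nth_rewrite 1 [e]
  rw [ha, hs _ _ r1, hs _ _ r2]
  field_simp
  ring

theorem perp_card (X : AddSubgroup K) :
    Nat.card X * Nat.card {s : K // ∀ t ∈ X, s * star t = t * star s} ≤ qq K ^ 2 := by
  by_cases h0 : X = ⊥
  · subst h0
    rw [AddSubgroup.card_bot, one_mul, ← card_K]
    exact Nat.card_le_card_of_injective _ Subtype.val_injective
  obtain ⟨⟨t, ht⟩, t0⟩ := AddSubgroup.ne_bot_iff_exists_ne_zero.1 h0
  replace t0 : t ≠ 0 := fun e => t0 (Subtype.ext e)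
  by_cases h1 : ∀ t' ∈ X, t * star t' = t' * star t
  · rw [sq]
    refine Nat.mul_le_mul ?_ ?_ <;> rw [← card_line t0]
    · exact Nat.card_le_card_of_injective (fun x => ⟨x.1, h1 _ x.2⟩) fun a b e =>
        Subtype.ext (Subtype.mk.inj e)
    · exact Nat.card_le_card_of_injective (fun x => ⟨x.1, (x.2 t ht).symm⟩) fun a b e =>
        Subtype.ext (Subtype.mk.inj e)
  · push Not at h1
    obtain ⟨t', ht', h2⟩ := h1
    have h3 : ∀ s : {s : K // ∀ t ∈ X, s * star t = t * star s}, s.1 = 0 := by
      intro s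
      obtain ⟨c, c1, c2⟩ := real_mul t0 (s.2 t ht).symm
      have h4 := s.2 t' ht'
      rw [c2, star_mul', c1] at h4
      have : c * (t * star t' - t' * star t) = 0 := by linear_combination h4
      rw [c2, (mul_eq_zero.1 this).resolve_right (sub_ne_zero.2 h2), zero_mul]
    have h4 : Nat.card {s : K // ∀ t ∈ X, s * star t = t * star s} ≤ 1 :=
      Finite.card_le_one_iff_subsingleton.2 ⟨fun a b => Subtype.ext ((h3 a).trans (h3 b).symm)⟩
    have h5 : Nat.card X ≤ qq K ^ 2 := by
      rw [← card_K]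
      exact Nat.card_le_card_of_injective _ Subtype.val_injective
    simpa using Nat.mul_le_mul h5 h4

end Fld

end Cfsg.Lib.U5F
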