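import Cfsg.Agent.U5F.Defs

/-! Generalities on local data. -/

set_option autoImplicit false
set_option linter.unusedSectionVars false

namespace Cfsg.Lib.U5F

open Subgroup Equiv Cfsg.Lib.Fus
open scoped commutatorElement

variable {G : Type*} [Group G] [Finite G] {p : ℕ} [Fact p.Prime] {E X Y : Subgroup G}
  {L : Subgroup (Perm G)}

theorem mem_norm {g : G} (h : ∀ x ∈ E, x⁻¹ * (g * x * g⁻¹) ∈ E) :
    g ∈ normalizer (E : Set G) :=
  mem_normalizer_fintype fun x hx => by simpa using E.mul_mem hx (h x hx)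

theorem climb (hG : IsPGroup p G) (P : Subgroup G) [P.Normal]
    (h : ∀ g ∈ P, g ∈ normalizer (E : Set G) → g ∈ E) : P ≤ E := by
  by_contra hn
  obtain ⟨g, h1, h2, h3⟩ := exists_mem_normalizer_of_lt (hG.to_subgroup (E ⊔ P))
    (lt_of_le_of_ne le_sup_left fun e => hn (e ▸ le_sup_right) : E < E ⊔ P)
  rw [← SetLike.mem_coe, mul_normal] at h1
  obtain ⟨e, he, x, hx, rfl⟩ := h1
  exact h3 (E.mul_mem he (h x hx ((mul_mem_cancel_left (le_normalizer he)).1 h2)))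

theorem card_le_fib {α : Type*} [Finite α] (W C : Subgroup G) (φ : G → α) (s : Set α)
    (hs : ∀ w ∈ W, φ w ∈ s) (h : ∀ a ∈ W, ∀ b ∈ W, φ a = φ b → a⁻¹ * b ∈ C) :
    Nat.card W ≤ Nat.card s * Nat.card ↥(W ⊓ C) := by
  let r : W → W := fun w => Function.invFun (fun w : W => φ w) (φ w)
  have hr : ∀ w : W, φ (r w) = φ w := fun w => Function.invFun_eq (f := fun w : W => φ w) ⟨w, rfl⟩
  rw [← Nat.card_prod]
  refine Nat.card_le_card_of_injective (fun w : W => ((⟨φ w, hs w w.2⟩ : s),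
    (⟨(r w : G)⁻¹ * w, W.mul_mem (W.inv_mem (r w).2) w.2, h _ (r w).2 _ w.2 (hr w)⟩ : ↥(W ⊓ C))))
    fun a b e => ?_
  have e1 : φ a = φ b := congrArg (fun x => x.1.1) e
  have e2 : (r a : G)⁻¹ * a = (r b : G)⁻¹ * b := congrArg (fun x => x.2.1) e
  have e3 : r a = r b := by simp only [r, e1]
  rw [e3] at e2
  exact Subtype.ext (mul_left_cancel e2)

theorem Iv.inf (h : Iv L X) (h' : Iv L Y) : Iv L (X ⊓ Y) :=
  fun f hf x hx => ⟨h f hf x hx.1, h' f hf x hx.2⟩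

theorem LTr.iv (h : LTr L X Y) (hY : Y ≤ X) : Iv L X := fun f hf x hx => by
  simpa using X.mul_mem hx (hY (h f hf x hx))

theorem Loc.mulOn (h : Loc p E L) {f : Perm G} (hf : f ∈ L) : MulOn E f := h.hom f hf

theorem Loc.map_one (h : Loc p E L) {f : Perm G} (hf : f ∈ L) : f 1 = 1 := (h.mulOn hf).map_one

theorem iv_bot (h : Loc p E L) : Iv L (⊥ : Subgroup G) := fun f hf x hx => by
  rw [mem_bot.1 hx, h.map_one hf]; exact one_mem _

theorem Loc.map_inv (h : Loc p E L) {f : Perm G} (hf : f ∈ L) {x : G} (hx : x ∈ E) :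
    f x⁻¹ = (f x)⁻¹ := (h.mulOn hf).map_inv hx

theorem Loc.map_cm (h : Loc p E L) {f : Perm G} (hf : f ∈ L) {x y : G} (hx : x ∈ E) (hy : y ∈ E) :
    f (x⁻¹ * (y * x * y⁻¹)) = (f x)⁻¹ * (f y * f x * (f y)⁻¹) := by
  rw [h.hom f hf _ (inv_mem hx) _ (mul_mem (mul_mem hy hx) (inv_mem hy)), h.map_inv hf hx,
    (h.mulOn hf).map_conj hy hx]

theorem Loc.iv_closure (h : Loc p E L) {s : Set G} (hs : closure s ≤ E)
    (hm : ∀ f ∈ L, ∀ x ∈ s, f x ∈ closure s) : Iv L (closure s) := fun f hf x hx => by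
  induction hx using closure_induction with
  | mem x hx => exact hm f hf x hx
  | one => rw [h.map_one hf]; exact one_mem _
  | mul x y hx hy h1 h2 => rw [h.hom f hf x (hs hx) y (hs hy)]; exact mul_mem h1 h2
  | inv x hx h1 => rw [h.map_inv hf (hs hx)]; exact inv_mem h1

theorem Loc.iv_sup (h : Loc p E L) (hX : Iv L X) (hY : Iv L Y) (hXE : X ≤ E) (hYE : Y ≤ E) :
    Iv L (X ⊔ Y) := by
  rw [sup_eq_closure]
  refine h.iv_closure (by rw [← sup_eq_closure]; exact sup_le hXE hYE) ?_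
  rintro f hf x (hx | hx)
  · exact subset_closure (.inl (hX f hf x hx))
  · exact subset_closure (.inr (hY f hf x hx))

theorem Loc.iv_comm (h : Loc p E L) (hX : Iv L X) (hY : Iv L Y) (hXE : X ≤ E) (hYE : Y ≤ E) :
    Iv L ⁅X, Y⁆ := by
  refine h.iv_closure ((commutator_mono hXE hYE).trans (commutator_le_self E)) ?_
  rintro f hf _ ⟨x, hx, y, hy, rfl⟩
  rw [(h.mulOn hf).map_commutatorElement (hXE hx) (hYE hy)]
  exact commutator_mem_commutator (hX f hf x hx) (hY f hf y hy)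

theorem Loc.iv_cent (h : Loc p E L) (hX : Iv L X) (hXE : X ≤ E) :
    Iv L (E ⊓ centralizer (X : Set G)) := fun f hf g hg =>
  ⟨h.maps f hf g hg.1, mem_centralizer_iff.2 fun x hx => by
    have h1 := hX _ (L.inv_mem hf) x hx
    have := congrArg f (mem_centralizer_iff.1 hg.2 _ h1)
    rwa [h.hom f hf _ (hXE h1) _ hg.1, h.hom f hf _ hg.1 _ (hXE h1), perm_apply_inv] at this⟩

theorem Loc.cent (h : Loc p E L) {g : G} (hg : ∀ x ∈ E, g * x = x * g) : g ∈ E := by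
  have e : ∀ x ∈ E, x⁻¹ * (g * x * g⁻¹) = 1 := fun x hx => by rw [hg x hx]; group
  exact h.rad g (mem_norm fun x hx => e x hx ▸ one_mem _) _ _ _ h.maps h.maps h.maps le_rfl le_rfl
    le_rfl (fun x hx => e x hx ▸ one_mem _) (fun x hx => e x hx ▸ one_mem _)
    (fun x hx => e x hx ▸ one_mem _) fun x hx => e x hx ▸ one_mem _

theorem cm_mem_comm {x y : G} (hx : x ∈ X) (hy : y ∈ Y) : x⁻¹ * (y * x * y⁻¹) ∈ ⁅X, Y⁆ := by
  simpa [commutatorElement_def, mul_assoc] using commutator_mem_commutator (X.inv_mem hx) hy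

theorem comm_le_of_cm {Z : Subgroup G} (h : ∀ x ∈ X, ∀ y ∈ Y, x⁻¹ * (y * x * y⁻¹) ∈ Z) :
    ⁅X, Y⁆ ≤ Z := commutator_le.2 fun x hx y hy => by
  simpa [commutatorElement_def, mul_assoc] using h _ (X.inv_mem hx) y hy

end Cfsg.Lib.U5F
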