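import Cfsg.Agent.U5F.Bas0
import Cfsg.Agent.U5F.Fld
import Cfsg.Agent.U5F.Gen

/-! The upper central series of `U K`. -/

set_option autoImplicit false
set_option linter.unusedSectionVars false

namespace Cfsg.Lib.U5F

open Subgroup Equiv U

variable {K : Type*} [Field K] [StarRing K] {g x : U K} {p : ℕ} [Fact p.Prime] [CharP K p]
  [Finite K] [UF K]

theorem exists_el (t y1 y2 s : K) : ∃ g : U K, g.t = t ∧ g.y1 = y1 ∧ g.y2 = y2 ∧ g.s = s := by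
  obtain ⟨a, ha⟩ := exists_adm y1
  obtain ⟨b, hb⟩ := exists_adm y2
  exact ⟨⟨t, y1, y2, a, s, b, ha, hb⟩, rfl, rfl, rfl, rfl⟩

theorem exists_Q1 (v : K × K × K) : ∃ g ∈ Q1 K, pi3 g = v := by
  obtain ⟨a, ha⟩ := exists_adm v.2.1
  exact ⟨⟨v.1, v.2.1, 0, a, v.2.2, 0, ha, by simp⟩, ⟨rfl, rfl⟩, rfl⟩

theorem exists_Q2 (v : K × K) : ∃ g ∈ Q2 K, pi2 g = v := by
  obtain ⟨g, h1, h2, h3, -⟩ := exists_el 0 v.1 v.2 0
  exact ⟨g, h1, Prod.ext h2 h3⟩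

theorem exists_D1 (y s : K) : ∃ g ∈ D1 K, g.y1 = y ∧ g.s = s := by
  obtain ⟨a, ha⟩ := exists_adm y
  exact ⟨⟨0, y, 0, a, s, 0, ha, by simp⟩, ⟨rfl, rfl, rfl⟩, rfl, rfl⟩

/-- An element that is real against every element vanishes. -/
theorem eq_zero_of_real {a : K} (h : ∀ t, a * star t = t * star a) : a = 0 :=
  (sep (a := -star a) (b := a) fun t => by linear_combination h t).2

theorem mem_Q1_iff : x ∈ Q1 K ↔ ∀ g ∈ Q1 K, x⁻¹ * (g * x * g⁻¹) ∈ Z1 K := by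
  refine ⟨fun h g hg => cm_Q1 hg h, fun h => ?_⟩
  have := cm_Z1.1 (h _ (tEl_mem 1 0))
  simp only [tEl, one_mul, mul_zero, zero_mul, star_zero, sub_zero] at this
  exact ⟨this.1, this.2.2⟩

theorem mem_Z1_iff' : x ∈ Z1 K ↔ ∀ g ∈ Q1 K, g * x = x * g := by
  refine ⟨fun h g _ => comm_Z1 g h, fun h => ?_⟩
  have hx : x ∈ Q1 K := mem_Q1_iff.2 fun g hg => by rw [cm_eq_one.2 (h g hg)]; exact one_mem _
  have key : ∀ v, hf v (pi3 x) = hf (pi3 x) v := fun v => by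
    obtain ⟨g, hg, rfl⟩ := exists_Q1 v
    exact (comm_Q1 hg hx).1 (h g hg)
  refine ⟨eq_zero_of_real fun t => ?_, eq_zero_of_real fun t => ?_, hx.1,
    eq_zero_of_real fun t => ?_, hx.2⟩
  · simpa [hf, pi3] using (key (0, 0, t)).symm
  · simpa [hf, pi3] using (key (0, t, 0)).symm
  · simpa [hf, pi3] using (key (t, 0, 0)).symm

theorem mem_Z1_iff : x ∈ Z1 K ↔ ∀ g, g * x = x * g :=
  ⟨fun h g => comm_Z1 g h, fun h => mem_Z1_iff'.2 fun g _ => h g⟩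

theorem mem_Z3_iff : x ∈ Z3 K ↔ ∀ g, x⁻¹ * (g * x * g⁻¹) ∈ Z2 K := by
  refine ⟨fun h g => cm_Z3_Z2 g h, fun h => ?_⟩
  obtain ⟨g, h1, -, h2, -⟩ := exists_el (0 : K) 0 1 0
  have a := (cm_Z2.1 (h g)).1
  have b := (cm_Z2.1 (h (tEl 1 0))).1
  rw [h1, h2] at a
  exact ⟨by simpa using a.symm, by simpa [tEl] using b⟩

theorem mem_Z2_iff : x ∈ Z2 K ↔ ∀ g, x⁻¹ * (g * x * g⁻¹) ∈ Z1 K := by
  refine ⟨fun h g => cm_Z2_Z1 g h, fun h => ?_⟩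
  have h3 := mem_Z3_iff.2 fun g => Z1_le_Z2 (h g)
  have h1 := mem_Q1_iff.2 fun g _ => h g
  obtain ⟨g, e1, -, e2, -⟩ := exists_el (0 : K) 0 1 0
  have a := (cm_Z1.1 (h g)).2.2
  rw [e1, e2, h3.1, h3.2] at a
  exact ⟨h3.1, by simpa using a, h3.2, h1.2⟩

theorem mem_Q2_iff : g ∈ Q2 K ↔ ∀ x ∈ Z2 K, g * x = x * g :=
  ⟨fun h _ hx => comm_A h (Z2_le_A hx), fun h => eq_zero_of_real fun s =>
    ((comm_Z2 (x := tEl 0 s) ⟨rfl, rfl, rfl, rfl⟩).1 (h _ ⟨rfl, rfl, rfl, rfl⟩)).symm⟩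

theorem mem_A_iff : x ∈ A K ↔ ∀ g ∈ Q2 K, g * x = x * g := by
  refine ⟨fun h g hg => comm_A hg h, fun h => ?_⟩
  have hx : x ∈ Q2 K := mem_Q2_iff.2 fun z hz => (h z hz.1).symm
  refine ⟨hx, eq_zero_of_real fun t => ?_, eq_zero_of_real fun t => ?_⟩
  · obtain ⟨g, h1, h2, -⟩ := exists_el (0 : K) t 0 0
    exact h2 ▸ ((comm_Q2 h1 hx).1 (h g h1)).1.symm
  · obtain ⟨g, h1, -, h2, -⟩ := exists_el (0 : K) 0 t 0
    exact h2 ▸ ((comm_Q2 h1 hx).1 (h g h1)).2.2.symm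

variable {E : Subgroup (U K)} {L : Subgroup (Perm (U K))}

theorem Loc.Z1_le (h : Loc p E L) : Z1 K ≤ E := fun _ hz => h.cent fun x _ => (comm_Z1 x hz).symm

theorem Loc.Z2_norm (h : Loc p E L) : Z2 K ≤ normalizer (E : Set (U K)) := fun _ hz =>
  mem_norm fun x _ => h.Z1_le (cm_Z2_Z1' hz x)

theorem Loc.Z2_le (h : Loc p E L) (h1 : Iv L (Z1 K)) : Z2 K ≤ E := fun z hz =>
  h.rad z (h.Z2_norm hz) _ _ _ h1 h1 h1 h.Z1_le le_rfl le_rfl (fun x _ => cm_Z2_Z1' hz x)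
    (fun x _ => cm_Z2_Z1' hz x) (fun x _ => cm_Z2_Z1' hz x)
    fun _ hx => mem_bot.2 (cm_eq_one.2 (comm_Z1 z hx))

end Cfsg.Lib.U5F
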