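import Cfsg.Agent.U5F.Mat0
import Cfsg.Agent.U5F.Fld

/-! The normaliser of the unitriangular subgroup in the matrix model. -/

set_option autoImplicit false
set_option linter.unusedSectionVars false

namespace Cfsg.Lib.U5F

open Cfsg Subgroup Equiv U Matrix

universe u

variable {K : Type u} [Field K] [StarRing K] [Finite K] [UF K]

namespace MN

theorem inj_five {R : Type*}
    {a00 a01 a02 a03 a04 a10 a11 a12 a13 a14 a20 a21 a22 a23 a24 a30 a31 a32 a33 a34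
      a40 a41 a42 a43 a44 b00 b01 b02 b03 b04 b10 b11 b12 b13 b14 b20 b21 b22 b23 b24
      b30 b31 b32 b33 b34 b40 b41 b42 b43 b44 : R}
    (h : !![a00, a01, a02, a03, a04;
      a10, a11, a12, a13, a14;
      a20, a21, a22, a23, a24;
      a30, a31, a32, a33, a34;
      a40, a41, a42, a43, a44] =
    !![b00, b01, b02, b03, b04;
      b10, b11, b12, b13, b14;
      b20, b21, b22, b23, b24;
      b30, b31, b32, b33, b34;
      b40, b41, b42, b43, b44]) :
    (a00 = b00 ∧ a01 = b01 ∧ a02 = b02 ∧ a03 = b03 ∧ a04 = b04) ∧ (a10 = b10 ∧ a11 = b11 ∧ a12 = b12 ∧ a13 = b13 ∧ a14 = b14) ∧ (a20 = b20 ∧ a21 = b21 ∧ a22 = b22 ∧ a23 = b23 ∧ a24 = b24) ∧ (a30 = b30 ∧ a31 = b31 ∧ a32 = b32 ∧ a33 = b33 ∧ a34 = b34) ∧ (a40 = b40 ∧ a41 = b41 ∧ a42 = b42 ∧ a43 = b43 ∧ a44 = b44) :=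
  ⟨⟨congrFun (congrFun h 0) 0, congrFun (congrFun h 0) 1, congrFun (congrFun h 0) 2, congrFun (congrFun h 0) 3, congrFun (congrFun h 0) 4⟩, ⟨congrFun (congrFun h 1) 0, congrFun (congrFun h 1) 1, congrFun (congrFun h 1) 2, congrFun (congrFun h 1) 3, congrFun (congrFun h 1) 4⟩, ⟨congrFun (congrFun h 2) 0, congrFun (congrFun h 2) 1, congrFun (congrFun h 2) 2, congrFun (congrFun h 2) 3, congrFun (congrFun h 2) 4⟩, ⟨congrFun (congrFun h 3) 0, congrFun (congrFun h 3) 1, congrFun (congrFun h 3) 2, congrFun (congrFun h 3) 3, congrFun (congrFun h 3) 4⟩, ⟨congrFun (congrFun h 4) 0, congrFun (congrFun h 4) 1, congrFun (congrFun h 4) 2, congrFun (congrFun h 4) 3, congrFun (congrFun h 4) 4⟩⟩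

theorem eta_five {R : Type*} (M : Matrix (Fin 5) (Fin 5) R) :
    ∃ a00 a01 a02 a03 a04 a10 a11 a12 a13 a14 a20 a21 a22 a23 a24 a30 a31 a32 a33 a34
      a40 a41 a42 a43 a44 : R, M =
    !![a00, a01, a02, a03, a04;
      a10, a11, a12, a13, a14;
      a20, a21, a22, a23, a24;
      a30, a31, a32, a33, a34;
      a40, a41, a42, a43, a44] :=
  ⟨M 0 0, M 0 1, M 0 2, M 0 3, M 0 4, M 1 0, M 1 1, M 1 2, M 1 3, M 1 4, M 2 0, M 2 1, M 2 2, M 2 3, M 2 4, M 3 0, M 3 1, M 3 2, M 3 3, M 3 4, M 4 0, M 4 1, M 4 2, M 4 3, M 4 4, by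
    ext i j
    fin_cases i <;> fin_cases j <;> rfl⟩

theorem uni {t y1 s x y2 x2 n14 n23 n24 n34 : K} {N : Matrix (Fin 5) (Fin 5) K}
    (e : N = !![1, t, y1, s, x; 0, 1, y2, x2, n14; 0, 0, 1, n23, n24; 0, 0, 0, 1, n34;
      0, 0, 0, 0, 1]) (h : Nᴴ * J5 K * N = J5 K) : ∃ k : U K, N = mat k := by
  rw [e, J5, ct_five, mul_five, mul_five] at h
  obtain ⟨-, ⟨-, -, -, -, h14⟩, ⟨-, -, -, h23, h24⟩, ⟨-, -, -, h33, h34⟩, -, -, -, -, h44⟩ :=
    inj_five h
  simp only [star_zero, star_one, mul_zero, zero_mul, mul_one, one_mul, add_zero, zero_add]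
    at h14 h23 h24 h33 h34 h44
  obtain rfl : n34 = -star t := by linear_combination h14
  obtain rfl : n23 = -star y2 := by linear_combination h23
  obtain rfl : n24 = -star y1 + star y2 * star t := by linear_combination h24
  simp only [star_neg, star_star] at h33 h34
  have k2 : star x2 = -x2 - y2 * star y2 := by linear_combination h33
  obtain rfl : n14 = -star s - y2 * star y1 - x2 * star t := by
    linear_combination h34 + star t * k2
  simp only [star_neg, star_star, star_add, star_sub, star_mul', k2] at h44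
  refine ⟨⟨t, y1, y2, x + s * star t, s, x2, ?_, k2⟩, ?_⟩
  · simp only [star_add, star_mul', star_star]
    linear_combination h44
  · rw [e, mat]
    simp only [add_sub_cancel_right]

theorem tri {M : Matrix (Fin 5) (Fin 5) K} (h : ∀ g' : U K, ∃ g, M * mat g = mat g' * M) :
    ∃ a00 a01 a02 a03 a04 a11 a12 a13 a14 a22 a23 a24 a33 a34 a44 : K, M =
      !![a00, a01, a02, a03, a04; 0, a11, a12, a13, a14; 0, 0, a22, a23, a24; 0, 0, 0, a33, a34;
        0, 0, 0, 0, a44] := by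
  obtain ⟨a00, a01, a02, a03, a04, a10, a11, a12, a13, a14, a20, a21, a22, a23, a24,
    a30, a31, a32, a33, a34, a40, a41, a42, a43, a44, rfl⟩ := eta_five M
  have key : ∀ g' : U K, ∃ g : U K,
      g'.t * a10 + g'.y1 * a20 + g'.s * a30 + (g'.x1 - g'.s * star g'.t) * a40 = 0 ∧
      a10 * g.t = g'.y2 * a21 + g'.x2 * a31 +
        (-star g'.s - g'.y2 * star g'.y1 - g'.x2 * star g'.t) * a41 ∧
      a20 * g.y1 + a21 * g.y2 = -star g'.y2 * a32 + (-star g'.y1 + star g'.y2 * star g'.t) * a42 ∧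
      a30 * g.s + a31 * g.x2 + a32 * -star g.y2 = -star g'.t * a43 := fun g' => by
    obtain ⟨g, e⟩ := h g'
    rw [mat, mat, mul_five, mul_five] at e
    obtain ⟨⟨h0, -⟩, ⟨-, h1, -⟩, ⟨-, -, h2, -⟩, ⟨-, -, -, h3, -⟩, -⟩ := inj_five e
    exact ⟨g, by linear_combination -h0, by linear_combination h1, by linear_combination h2,
      by linear_combination h3⟩
  obtain ⟨d, d0, hd⟩ := exists_skew (K := K)
  obtain ⟨x, hx⟩ := exists_adm (1 : K)
  obtain ⟨g1, p1, -, -, p4⟩ := key ⟨1, 0, 0, 0, 0, 0, by simp, by simp⟩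
  obtain ⟨g2, q1, q2, -⟩ := key ⟨0, 0, 0, 0, 1, 0, by simp, by simp⟩
  obtain ⟨g3, r1, -⟩ := key ⟨0, 0, 0, d, 0, 0, by simp [hd], by simp⟩
  obtain ⟨g4, -, r2, -⟩ := key ⟨0, 0, 0, 0, 0, d, by simp, by simp [hd]⟩
  obtain ⟨g5, s1, -, s3, -⟩ := key ⟨0, 1, 0, x, 0, 0, hx, by simp⟩
  obtain ⟨g6, -, t2, t3, -⟩ := key ⟨0, 0, 1, 0, 0, x, by simp, hx⟩
  obtain rfl : a10 = 0 := by simpa using p1
  obtain rfl : a30 = 0 := by simpa using q1
  obtain rfl : a40 = 0 := by simpa [d0] using r1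
  obtain rfl : a20 = 0 := by simpa using s1
  obtain rfl : a41 = 0 := by simpa using q2
  obtain rfl : a31 = 0 := by simpa [d0] using r2
  obtain rfl : a21 = 0 := by simpa using t2.symm
  obtain rfl : a42 = 0 := by simpa using s3
  obtain rfl : a32 = 0 := by simpa using t3
  obtain rfl : a43 = 0 := by simpa using p4
  exact ⟨_, _, _, _, _, _, _, _, _, _, _, _, _, _, _, rfl⟩

theorem diag_conj {α β δ : K} (ha : α ≠ 0) (hb : β ≠ 0) (hd : star δ * δ = 1) (g : U K) :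
    !![α, 0, 0, 0, 0; 0, β, 0, 0, 0; 0, 0, δ, 0, 0; 0, 0, 0, (star β)⁻¹, 0;
      0, 0, 0, 0, (star α)⁻¹] * mat g = mat (dia (α / δ) (β / δ) g) *
    !![α, 0, 0, 0, 0; 0, β, 0, 0, 0; 0, 0, δ, 0, 0; 0, 0, 0, (star β)⁻¹, 0;
      0, 0, 0, 0, (star α)⁻¹] := by
  have ha' : star α ≠ 0 := star_ne_zero.2 ha
  have hb' : star β ≠ 0 := star_ne_zero.2 hb
  have d0 : δ ≠ 0 := right_ne_zero_of_mul_eq_one hd
  have d1 : star δ = δ⁻¹ := eq_inv_of_mul_eq_one_left hd
  rw [mat, mat, mul_five, mul_five]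
  refine ext_five ?_
  simp only [gam_t, gam_y1, gam_y2, gam_x1, gam_s, gam_x2, RingEquiv.refl_apply, mul_zero, zero_mul,
    add_zero, zero_add, mul_one, one_mul, star_mul', star_div₀, star_star, d1, star_inv₀, inv_inv,
    true_and, and_true]
  and_intros <;> field_simp

end MN

open MN

theorem norm_emb {w : SJ K} (hw : ∀ g : U K, ∃ g', w * emb g * w⁻¹ = emb g') :
    ∃ (k : U K) (m m' : K), m ≠ 0 ∧ m' ≠ 0 ∧ ∀ g, w * emb g * w⁻¹ =
      emb (k * dia m m⁻¹ (dia (m' / star m') (m' ^ 2 / star m') g) * k⁻¹) := by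
  choose φ hφ using hw
  have inj : Function.Injective φ := fun a b e => emb_injective (by
    have := (hφ a).trans ((congrArg emb e).trans (hφ b).symm)
    simpa using this)
  obtain ⟨a00, a01, a02, a03, a04, a11, a12, a13, a14, a22, a23, a24, a33, a34, a44, e⟩ :=
    tri (M := w.1.1) fun g' => by
      obtain ⟨g, rfl⟩ := Finite.injective_iff_surjective.1 inj g'
      exact ⟨g, congrArg (·.1.1) (mul_inv_eq_iff_eq_mul.1 (hφ g))⟩
  have hu : w.1.1ᴴ * J5 K * w.1.1 = J5 K := w.2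
  have hdet : a00 * a11 * a22 * a33 * a44 = 1 := by
    have := w.1.2
    rw [e, det_of_isUpperTriangular, Fin.prod_univ_five] at this
    · exact this
    · intro i j h
      fin_cases i <;> fin_cases j <;> first | rfl | exact absurd h (by decide)
  obtain ⟨h04, h13, h22⟩ : star a00 * a44 = 1 ∧ star a11 * a33 = 1 ∧ star a22 * a22 = 1 := by
    have := hu
    rw [e, J5, ct_five, mul_five, mul_five] at this
    obtain ⟨⟨-, -, -, -, h0⟩, ⟨-, -, -, h1, -⟩, ⟨-, -, h2, -⟩, -⟩ := inj_five this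
    simp only [star_zero, mul_zero, zero_mul, mul_one, add_zero, zero_add] at h0 h1 h2
    exact ⟨h0, h1, h2⟩
  have ha' : star a00 ≠ 0 := left_ne_zero_of_mul_eq_one h04
  have hb' : star a11 ≠ 0 := left_ne_zero_of_mul_eq_one h13
  have ha : a00 ≠ 0 := star_ne_zero.1 ha'
  have hb : a11 ≠ 0 := star_ne_zero.1 hb'
  have d0 : a22 ≠ 0 := right_ne_zero_of_mul_eq_one h22
  obtain rfl : a44 = (star a00)⁻¹ := eq_inv_of_mul_eq_one_right h04
  obtain rfl : a33 = (star a11)⁻¹ := eq_inv_of_mul_eq_one_right h13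
  have d1 : star a22 = a22⁻¹ := eq_inv_of_mul_eq_one_left h22
  obtain ⟨k, hk⟩ := uni (N := w.1.1 * !![a00⁻¹, 0, 0, 0, 0; 0, a11⁻¹, 0, 0, 0; 0, 0, a22⁻¹, 0, 0;
      0, 0, 0, star a11, 0; 0, 0, 0, 0, star a00]) (by
    rw [e, mul_five]
    simp only [mul_zero, zero_mul, add_zero, zero_add, mul_inv_cancel₀ ha, mul_inv_cancel₀ hb,
      mul_inv_cancel₀ d0, inv_mul_cancel₀ ha', inv_mul_cancel₀ hb']
    rfl) (by
    rw [conjTranspose_mul, Matrix.mul_assoc, Matrix.mul_assoc, ← Matrix.mul_assoc (J5 K),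
      ← Matrix.mul_assoc w.1.1ᴴ, ← Matrix.mul_assoc w.1.1ᴴ, hu, J5, ct_five, mul_five, mul_five]
    refine ext_five ?_
    simp [ha, hb, d0, d1])
  have hk' : w.1.1 = mat k * !![a00, 0, 0, 0, 0; 0, a11, 0, 0, 0; 0, 0, a22, 0, 0;
      0, 0, 0, (star a11)⁻¹, 0; 0, 0, 0, 0, (star a00)⁻¹] := by
    rw [← hk, Matrix.mul_assoc, mul_five, e, mul_five]
    refine ext_five ?_
    simp [ha, hb, d0]
  refine ⟨k, a00, a00 * a11, ha, mul_ne_zero ha hb, fun g => ?_⟩
  have hδ : a22 = star a00 * star a11 / (a00 * a11) := by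
    field_simp at hdet ⊢
    linear_combination hdet
  have e1 : a00 * (a00 * a11 / star (a00 * a11)) = a00 / a22 := by
    rw [hδ, star_mul']
    field_simp
  have e2 : a00⁻¹ * ((a00 * a11) ^ 2 / star (a00 * a11)) = a11 / a22 := by
    rw [hδ, star_mul']
    field_simp
  rw [dia_dia, e1, e2]
  refine mul_inv_eq_iff_eq_mul.2 (Subtype.ext (Subtype.ext ?_))
  change w.1.1 * mat g = mat _ * w.1.1
  rw [hk', ← Matrix.mul_assoc, ← mat_mul, inv_mul_cancel_right, mat_mul, Matrix.mul_assoc,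
    Matrix.mul_assoc, diag_conj ha hb h22]

end Cfsg.Lib.U5F
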