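import Cfsg.Agent.U5F.Mat0
import Cfsg.Agent.U5F.Card
import Cfsg.Agent.Class.HermCount
import Cfsg.Agent.Class.HermSimple
import Cfsg.Agent.Chev.ClsSU

/-! The group `U K` is a Sylow subgroup of `SU₅(q)` and of `PSU₅(q)`. -/

set_option autoImplicit false
set_option linter.unusedSectionVars false

namespace Cfsg.Lib.U5F

open Cfsg Subgroup Matrix Cfsg.Lib.Class

universe u

namespace Syl

variable {K : Type u} [Field K] [StarRing K] [Fintype K] [UF K]

theorem card' : Fintype.card K = qq K ^ 2 := by rw [← card_K, Nat.card_eq_fintype_card]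

theorem J_apply (a b : Fin 5) : J5 K a b = if b = a.rev then 1 else 0 := by
  fin_cases a <;> fin_cases b <;> rfl

theorem J_adj (M : Matrix (Fin 5) (Fin 5) K) : J5 K * Chev.adjM (frobq card') M = Mᴴ * J5 K := by
  ext i j
  simp only [mul_apply, J_apply, Chev.adjM_apply, frobq_apply, ← star_eq_pow, conjTranspose_apply,
    ite_mul, mul_ite, one_mul, zero_mul, mul_one, mul_zero, Finset.sum_ite_eq', Finset.mem_univ, if_true,
    Fin.rev_rev]
  rw [Finset.sum_eq_single j.rev (fun b _ hb => if_neg fun e => hb (by rw [e, Fin.rev_rev])) (by simp),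
    if_pos (Fin.rev_rev j).symm]

theorem J_J : J5 K * J5 K = 1 := by
  rw [J5, mul_five]
  ext i j
  fin_cases i <;> fin_cases j <;> simp

theorem equiv_SU : Nonempty (SJ K ≃* SU 5 K (qq K)) := by
  obtain ⟨e⟩ := Chev.nonempty_suTw_F_equiv (n := 4) (card' (K := K))
  refine ⟨(MulEquiv.subgroupCongr (Subgroup.ext fun g => ?_)).trans e⟩
  rw [mem_SJ, Chev.mem_suTw_F, ← J_adj, Matrix.mul_assoc]
  refine ⟨fun h => ?_, fun h => by rw [h, Matrix.mul_one]⟩
  rw [← Matrix.one_mul (_ * _), ← J_J, Matrix.mul_assoc, h]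

theorem card_SJ : Nat.card (SJ K) =
    qq K ^ 10 * ((qq K ^ 2 - 1) * (qq K ^ 3 + 1) * (qq K ^ 4 - 1) * (qq K ^ 5 + 1)) := by
  obtain ⟨e⟩ := equiv_SU (K := K)
  rw [Nat.card_congr e.toEquiv]
  refine Nat.eq_of_mul_eq_mul_left (Nat.succ_pos (qq K)) ((Form.card_SU card' 5 (by omega)).trans ?_)
  simp [Form.guOrder, Finset.prod_range_succ, show ¬ Even 3 by decide, show Even 4 by decide]
  ring

end Syl

open Syl

theorem syl_emb {K : Type u} [Field K] [StarRing K] [Finite K] [UF K] (p : ℕ) [Fact p.Prime] [CharP K p] :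
    ¬ p ∣ (emb : U K →* SJ K).range.index := by
  have := Fintype.ofFinite K
  have hp : p.Prime := Fact.out
  have h2 := two_le_qq (K := K)
  obtain ⟨n, hn⟩ := qq_eq_pow (K := K) p
  have hq : p ∣ qq K := hn ▸ dvd_pow_self p (by rintro rfl; simp [hn] at h2)
  have h := (emb : U K →* SJ K).range.card_mul_index
  rw [← Nat.card_congr (MonoidHom.ofInjective emb_injective).toEquiv, card_U, card_SJ] at h
  rw [Nat.eq_of_mul_eq_mul_left (by positivity) h]
  have k : ∀ k, k ≠ 0 → ¬ p ∣ qq K ^ k + 1 := fun k hk h =>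
    hp.one_lt.ne' (Nat.dvd_one.1 ((Nat.dvd_add_right (dvd_pow hq hk)).1 h))
  simp only [hp.dvd_mul, not_or]
  exact ⟨⟨⟨FusH.not_dvd_pow_sub_one hp hq (by omega) two_ne_zero, k 3 three_ne_zero⟩,
    FusH.not_dvd_pow_sub_one hp hq (by omega) four_ne_zero⟩, k 5 (by omega)⟩

theorem exists_equiv {K : Type u} [Field K] [Fintype K] [StarRing K] [UF K] {p : ℕ} [Fact p.Prime]
    [CharP K p] (T : Sylow p (PSU 5 K (qq K))) :
    Nonempty (U K ≃* (T : Subgroup (PSU 5 K (qq K)))) := by
  obtain ⟨e⟩ := equiv_SU (K := K)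
  obtain ⟨n, hn⟩ := qq_eq_pow (K := K) p
  have hU : IsPGroup p (U K) := IsPGroup.of_card (n := n * 10) (by rw [card_U, hn, pow_mul])
  let π : SJ K →* PSU 5 K (qq K) := (QuotientGroup.mk' _).comp e.toMonoidHom
  have hπ : Function.Surjective π := (QuotientGroup.mk'_surjective _).comp e.surjective
  have hi : Function.Injective (π.comp emb) := (injective_iff_map_eq_one _).2 fun x hx => by
    obtain ⟨a, ha⟩ := (Form.mem_center_SU_iff card' 5 (by omega) (e (emb x))).1
      ((QuotientGroup.eq_one_iff _).1 hx)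
    obtain ⟨k, hk⟩ := hU x
    have h0 : e (emb x) ^ p ^ k = 1 := by rw [← map_pow, ← map_pow, hk, map_one, map_one]
    have h1 : (a • 1 : Matrix (Fin 5) (Fin 5) K) ^ p ^ k = 1 :=
      ha ▸ (Matrix.SpecialLinearGroup.coe_pow (e (emb x)).1 _).symm.trans (congrArg (fun g : SU 5 K (qq K) => g.1.1) h0)
    rw [smul_pow, one_pow] at h1
    have h2 : a ^ p ^ k = 1 := by simpa using congrFun (congrFun h1 0) 0
    have h3 : a = 1 := sub_eq_zero.1 (pow_eq_zero_iff (n := p ^ k) (NeZero.ne _) |>.1 (by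
      rw [sub_pow_char_pow, h2, one_pow, sub_self]))
    rw [h3, one_smul] at ha
    exact emb_injective (e.injective (by rw [map_one, map_one]; exact Subtype.ext (Subtype.ext ha)))
  have hP : IsPGroup p (π.comp emb).range := hU.of_equiv (MonoidHom.ofInjective hi)
  have hd : ¬ p ∣ (π.comp emb).range.index := fun h => syl_emb p (h.trans (by
    rw [MonoidHom.range_comp]
    exact index_map_dvd _ hπ))
  exact ⟨(MonoidHom.ofInjective hi).trans (Sylow.equiv (hP.toSylow hd) T)⟩

end Cfsg.Lib.U5F
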