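import Cfsg.Agent.U5F.B1

/-! The Weyl element on `Q₁` belongs to the system. -/

set_option autoImplicit false
set_option linter.unusedSectionVars false
set_option linter.unusedVariables false

namespace Cfsg.Lib.U5F

open Cfsg Cfsg.FusionSystem Subgroup Equiv Cfsg.Lib.Fus

universe u

variable {K : Type u} [Field K] [StarRing K] [Finite K] [UF K] {p : ℕ} [Fact p.Prime] [CharP K p]
variable {F F' : FusionSystem (⊤ : Subgroup (U K))} {f : Perm (U K)}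

namespace W1

theorem mem_Z1_of_pi3 {g h : U K} (hg : g ∈ Q1 K) (hh : h ∈ Q1 K) (e : pi3 h = pi3 g) :
    g⁻¹ * h ∈ Z1 K := by
  simp only [pi3, Prod.mk.injEq] at e
  refine ⟨?_, ?_, ?_, ?_, ?_⟩ <;> simp [hg.1, hg.2, hh.1, hh.2, e.1, e.2.1, e.2.2]

theorem dia_mem (a b : K) {g : U K} (hg : g ∈ Q1 K) : dia a b g ∈ Q1 K :=
  ⟨by simp [hg.1], by simp [hg.2]⟩

theorem dia_Z1 {a b : K} (ha : a * star a = 1) {g : U K} (hg : g ∈ Z1 K) : dia a b g = g := by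
  obtain ⟨h1, h2, h3, h4, h5⟩ := hg
  ext <;> simp [h1, h2, h3, h4, h5, ha]

theorem exists_cm {w : U K} (hw : w ∈ Z1 K) :
    ∃ g ∈ Q1 K, ∃ x ∈ Q1 K, w = x⁻¹ * (g * x * g⁻¹) := by
  obtain ⟨h1, h2, h3, h4, h5⟩ := hw
  obtain ⟨y, hy⟩ := exists_im (c := w.x1) (by rw [w.h1, h2]; simp)
  refine ⟨⟨1, 0, 0, 0, 0, 0, by simp, by simp⟩, ⟨rfl, rfl⟩, ⟨0, 0, 0, 0, y, 0, by simp, by simp⟩,
    ⟨rfl, rfl⟩, ?_⟩
  ext <;> simp [h1, h2, h3, h4, h5, ← hy]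

theorem exists_sub {a b : K} (h1 : a / b ≠ 1) (h2 : a ≠ 1) (h3 : a * star b ≠ 1)
    (v : K × K × K) : ∃ g ∈ Q1 K, pi3 (g⁻¹ * dia a b g) = v := by
  obtain ⟨g, hg, e⟩ := exists_Q1 (v.1 / (a / b - 1), v.2.1 / (a - 1), v.2.2 / (a * star b - 1))
  simp only [pi3, Prod.mk.injEq] at e
  refine ⟨g, hg, ?_⟩
  have k1 := sub_ne_zero.2 h1
  have k2 := sub_ne_zero.2 h2
  have k3 := sub_ne_zero.2 h3
  refine Prod.ext ?_ (Prod.ext ?_ ?_)
  · have : v.1 = g.t * (a / b - 1) := by rw [e.1, div_mul_cancel₀ _ k1]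
    simp [pi3, this]; ring
  · have : v.2.1 = g.y1 * (a - 1) := by rw [e.2.1, div_mul_cancel₀ _ k2]
    simp [pi3, this, hg.1]; ring
  · have : v.2.2 = g.s * (a * star b - 1) := by rw [e.2.2, div_mul_cancel₀ _ k3]
    simp [pi3, this, hg.1, hg.2]; ring

theorem dia_mul (a : K) {b : K} (hb : b ≠ 0) (g h : U K) : dia a b (g * h) = dia a b g * dia a b h :=
  gam_mul _ _ _ hb

theorem dia_inv (a : K) {b : K} (hb : b ≠ 0) (g : U K) : dia a b g⁻¹ = (dia a b g)⁻¹ :=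
  eq_inv_of_mul_eq_one_left (by rw [← dia_mul a hb, inv_mul_cancel]; ext <;> simp)

theorem pi3_cj {k g : U K} (hk : k ∈ Q1 K) (hg : g ∈ Q1 K) : pi3 (k * g * k⁻¹) = pi3 g := by
  rw [pi3_conj k hg, hk.1, hk.2]
  simp [pi3, u3_apply]

theorem fix {c : U K → U K} (hm : ∀ x ∈ Q1 K, ∀ y ∈ Q1 K, c (x * y) = c x * c y)
    (hQ : ∀ g ∈ Q1 K, c g ∈ Q1 K) (e : ∀ g ∈ Q1 K, pi3 (c g) = pi3 g) {a b : K} (hb : b ≠ 0)
    (ha : a * star a = 1) (h1 : a / b ≠ 1) (h2 : a ≠ 1) (h3 : a * star b ≠ 1)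
    (hc : ∀ g ∈ Q1 K, c (dia a b g) = dia a b (c g)) {g : U K} (hg : g ∈ Q1 K) : c g = g := by
  have hz : ∀ g ∈ Q1 K, ∃ z ∈ Z1 K, c g = g * z := fun g hg =>
    ⟨_, mem_Z1_of_pi3 hg (hQ g hg) (e g hg), by group⟩
  have hone : c 1 = 1 := by
    have := hm 1 (one_mem _) 1 (one_mem _)
    rw [mul_one] at this
    exact mul_left_cancel (a := c 1) (by rw [← this, mul_one])
  have hinv : ∀ x ∈ Q1 K, c x⁻¹ = (c x)⁻¹ := fun x hx =>
    eq_inv_of_mul_eq_one_left (by rw [← hm _ (inv_mem hx) _ hx, inv_mul_cancel, hone])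
  have hZ : ∀ w ∈ Z1 K, c w = w := fun w hw => by
    obtain ⟨g, hg, x, hx, rfl⟩ := exists_cm hw
    obtain ⟨z, hz1, e1⟩ := hz g hg
    obtain ⟨z', hz2, e2⟩ := hz x hx
    rw [hm _ (inv_mem hx) _ (mul_mem (mul_mem hg hx) (inv_mem hg)),
      hm _ (mul_mem hg hx) _ (inv_mem hg), hm _ hg _ hx, hinv _ hx, hinv _ hg, e1, e2]
    have c1 := fun u => comm_Z1 u hz1
    have c2 := fun u => comm_Z1 u hz2
    calc (x * z')⁻¹ * (g * z * (x * z') * (g * z)⁻¹)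
        = z'⁻¹ * (x⁻¹ * g * (z * (x * z')) * z⁻¹ * g⁻¹) := by group
      _ = z'⁻¹ * (x⁻¹ * g * x * (z' * g⁻¹)) := by rw [← c1]; group
      _ = z'⁻¹ * (x⁻¹ * g * x * g⁻¹ * z') := by rw [← c2 g⁻¹]; group
      _ = x⁻¹ * (g * x * g⁻¹) := by rw [c2]; group
  obtain ⟨x, hx, ex⟩ := exists_sub h1 h2 h3 (pi3 g)
  have hx' : x⁻¹ * dia a b x ∈ Q1 K := mul_mem (inv_mem hx) (dia_mem a b hx)
  have hw := mem_Z1_of_pi3 hx' hg ex.symm
  have hf : c (x⁻¹ * dia a b x) = x⁻¹ * dia a b x := by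
    obtain ⟨z, hz1, e1⟩ := hz x hx
    rw [hm _ (inv_mem hx) _ (dia_mem a b hx), hinv _ hx, hc _ hx, e1, dia_mul a hb,
      dia_Z1 ha hz1, comm_Z1 x hz1, comm_Z1 (dia a b x) hz1]
    group
  have : g = (x⁻¹ * dia a b x) * ((x⁻¹ * dia a b x)⁻¹ * g) := by group
  rw [this, hm _ hx' _ (mul_mem (inv_mem hx') hg), hf, hZ _ hw]

theorem inner {c : U K → U K} (hm : ∀ x ∈ Q1 K, ∀ y ∈ Q1 K, c (x * y) = c x * c y)
    (hQ : ∀ g ∈ Q1 K, c g ∈ Q1 K) (e : ∀ g ∈ Q1 K, pi3 (c g) = pi3 g) {a b : K} (hb : b ≠ 0)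
    (ha : a * star a = 1) (h1 : a / b ≠ 1) (h2 : a ≠ 1) (h3 : a * star b ≠ 1) {k : U K}
    (hk : k ∈ Q1 K) (hc : ∀ g ∈ Q1 K, c (dia a b g) = k * dia a b (c g) * k⁻¹) :
    ∃ l ∈ Q1 K, ∀ g ∈ Q1 K, c g = l * g * l⁻¹ := by
  obtain ⟨x, hx, ex⟩ := exists_sub h1 h2 h3 (pi3 k)
  have hz := mem_Z1_of_pi3 (mul_mem (inv_mem hx) (dia_mem a b hx)) hk ex.symm
  refine ⟨x⁻¹, inv_mem hx, fun g hg => ?_⟩
  have := fix (c := fun g => x * c g * x⁻¹) (fun u hu v hv => by rw [hm u hu v hv]; group)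
    (fun g hg => mul_mem (mul_mem hx (hQ g hg)) (inv_mem hx))
    (fun g hg => by rw [pi3_cj hx (hQ g hg), e g hg]) hb ha h1 h2 h3 (fun g hg => by
      rw [hc g hg, dia_mul a hb, dia_mul a hb, dia_inv a hb]
      calc x * (k * dia a b (c g) * k⁻¹) * x⁻¹
          = dia a b x * (((x⁻¹ * dia a b x)⁻¹ * k) * dia a b (c g)) *
            ((x⁻¹ * dia a b x)⁻¹ * k)⁻¹ * (dia a b x)⁻¹ := by group
        _ = _ := by rw [← comm_Z1 _ hz]; group) hg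
  calc c g = x⁻¹ * (x * c g * x⁻¹) * x⁻¹⁻¹ := by group
    _ = _ := by rw [this]

theorem pi3_dia (a b : K) {g h : U K} (e : pi3 g = pi3 h) : pi3 (dia a b g) = pi3 (dia a b h) := by
  simp only [pi3, Prod.mk.injEq] at e
  simp only [pi3, gam_t, gam_y1, gam_s, e.1, e.2.1, e.2.2]

end W1

theorem wey1 (hE : F.IsEssential p (Q1 K)) (ht : Tor1 F) (hn : n3 ∈ X3 F) :
    PIso F nu1 (Q1 K) (Q1 K) := by
  obtain ⟨f, hf, e⟩ := hn
  obtain ⟨m, hm0, hm2, hms⟩ := exists_sq_ne (K := K)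
  have hs0 : star m ≠ 0 := star_ne_zero.2 hm0
  have hm' : (star m)⁻¹ ≠ 0 := inv_ne_zero hs0
  have key : ∀ n : K, n ≠ 0 → ∃ h : Perm (U K), PIso F h (Q1 K) (Q1 K) ∧
      ∀ g, h g = dia (n / star n) (n ^ 2 / star n) g := fun n hn => by
    have hs : star n ≠ 0 := star_ne_zero.2 hn
    refine ⟨(gamA (n / star n) (n ^ 2 / star n) (RingEquiv.refl K) sc_refl (div_ne_zero hn hs)
      (div_ne_zero (pow_ne_zero 2 hn) hs)).toEquiv, ?_, fun _ => rfl⟩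
    exact ((ht n hn).restrict le_top).piso_of_maps fun x hx => W1.dia_mem _ _ hx
  obtain ⟨h, hh, eh⟩ := key m hm0
  obtain ⟨h', hh', eh'⟩ := key _ hm'
  have hnu : ∀ g ∈ Q1 K, nu1 (h (nu1 g)) = h' g := fun g hg => by
    rw [eh, eh']
    ext <;> simp only [nu1_t, nu1_y1, nu1_y2, nu1_x1, nu1_s, nu1_x2, gam_t, gam_y1, gam_y2, gam_x1,
      gam_s, gam_x2, RingEquiv.refl_apply, hg.1, hg.2, star_mul', star_div₀, star_inv₀, star_pow,
      star_star] <;> field_simp <;> ring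
  have hψ : PIso F (f * h * f⁻¹ * h'⁻¹) (Q1 K) (Q1 K) :=
    hh'.symm.trans ((hf.symm.trans (hh.trans hf)))
  have hn : ∀ g ∈ Q1 K, nu1 g ∈ Q1 K := fun g hg => hg
  obtain ⟨k, hk, ek⟩ := inn1 hE hψ fun x hx => by
    have hw := hf.inv_maps (hh'.inv_maps hx)
    have ex : x = h' (f (f⁻¹ (h'⁻¹ x))) := by simp
    have e0 : (f * h * f⁻¹ * h'⁻¹) x = f (h (f⁻¹ (h'⁻¹ x))) := rfl
    generalize f⁻¹ (h'⁻¹ x) = w at hw ex e0
    rw [e0, ex, e _ (hh.maps hw), ← pi3_nu1, ← nu1_nu1 w, hnu _ (hn w hw), eh', eh', nu1_nu1]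
    exact W1.pi3_dia _ _ (by rw [e w hw, pi3_nu1])
  obtain ⟨l, hl, el⟩ := W1.inner (c := fun g => f (nu1 g))
    (fun x hx y hy => by rw [nu1_mul hx hy, hf.map_mul (hn x hx) (hn y hy)])
    (fun g hg => hf.maps (hn g hg))
    (fun g hg => by rw [e _ (hn g hg), ← pi3_nu1, nu1_nu1])
    (a := (star m)⁻¹ / star (star m)⁻¹) (b := (star m)⁻¹ ^ 2 / star (star m)⁻¹)
    (div_ne_zero (pow_ne_zero 2 hm') (star_ne_zero.2 hm'))
    (by simp only [star_div₀, star_inv₀, star_star]; field_simp)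
    (by
      simp only [star_inv₀, star_star]
      intro h0
      field_simp at h0
      exact hms (by rw [h0, ← star_star m, h0, star_one]))
    (by
      simp only [star_inv₀, star_star]
      intro h0
      field_simp at h0
      exact hms h0.symm)
    (by
      simp only [star_div₀, star_inv₀, star_pow, star_star]
      intro h0
      field_simp at h0
      exact hms (by rw [← h0, star_one]))
    hk (fun g hg => by
      have := ek _ (hh'.maps (hf.maps (hn g hg)))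
      rw [← eh', ← eh', ← this, ← hnu g hg, nu1_nu1]
      simp)
  have hc : PIso F (cj l) (Q1 K) (Q1 K) :=
    (Mor.cj F le_top (mem_top l)).piso_of_maps fun x hx => mul_mem (mul_mem hl hx) (inv_mem hl)
  exact (hc.trans hf.symm).congr fun x hx => by
    rw [Perm.mul_apply, cj_apply, ← el x hx, perm_inv_apply]

end Cfsg.Lib.U5F
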