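import Cfsg.Agent.U5F.B2

/-! The Weyl element on `Q₂` lies in the fusion system. -/

set_option autoImplicit false
set_option linter.unusedSectionVars false
set_option linter.unusedVariables false

namespace Cfsg.Lib.U5F

open Cfsg Cfsg.FusionSystem Subgroup Equiv Cfsg.Lib.Fus U

universe u

variable {K : Type u} [Field K] [StarRing K] [Finite K] [UF K] {p : ℕ} [Fact p.Prime] [CharP K p]
  {F : FusionSystem (⊤ : Subgroup (U K))} {f : Perm (U K)}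

namespace W2

theorem dia_mem (a b : K) {g : U K} (hg : g ∈ Q2 K) : dia a b g ∈ Q2 K := by
  have h : g.t = 0 := hg
  simp [mem_Q2, h]

theorem kill_A {l : U K → K} (ha : ∀ g ∈ Q2 K, ∀ h ∈ Q2 K, l (g * h) = l g + l h) {x : U K}
    (hx : x ∈ A K) : l x = 0 := by
  have hc : ∀ g ∈ Q2 K, ∀ y ∈ Q2 K, l (y⁻¹ * (g * y * g⁻¹)) = 0 := fun g hg y hy => by
    have h1 := ha 1 (one_mem _) 1 (one_mem _)
    have h2 := ha g hg _ (inv_mem hg)
    have h3 := ha _ (inv_mem hy) y hy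
    rw [mul_one] at h1
    rw [mul_inv_cancel] at h2
    rw [inv_mul_cancel] at h3
    rw [ha _ (inv_mem hy) _ (mul_mem (mul_mem hg hy) (inv_mem hg)),
      ha _ (mul_mem hg hy) _ (inv_mem hg), ha g hg y hy]
    linear_combination -h2 - h3 - 2 * h1
  obtain ⟨e1, e2, e3⟩ := hx
  obtain ⟨c, hc1⟩ := exists_im (c := x.x1) (by rw [x.h1, e2]; ring)
  obtain ⟨d, hd1⟩ := exists_im (c := x.x2) (by rw [x.h2, e3]; ring)
  obtain ⟨g1, a1, a2, a3, -⟩ := exists_el (0 : K) 1 0 0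
  obtain ⟨g2, b1, b2, b3, -⟩ := exists_el (0 : K) 0 1 0
  obtain ⟨y1, c1, c2, c3, -⟩ := exists_el (0 : K) c 0 0
  obtain ⟨y2, d1, d2, d3, -⟩ := exists_el (0 : K) x.s 0 0
  obtain ⟨y3, f1, f2, f3, -⟩ := exists_el (0 : K) 0 d 0
  have m : ∀ g ∈ Q2 K, ∀ y ∈ Q2 K, y⁻¹ * (g * y * g⁻¹) ∈ Q2 K := fun g hg y hy =>
    mul_mem (inv_mem hy) (mul_mem (mul_mem hg hy) (inv_mem hg))
  have e : x = y1⁻¹ * (g1 * y1 * g1⁻¹) * (y2⁻¹ * (g2 * y2 * g2⁻¹)) * (y3⁻¹ * (g2 * y3 * g2⁻¹)) := by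
    ext <;> simp [a1, a2, a3, b1, b2, b3, c1, c2, c3, d1, d2, d3, f1, f2, f3, e1, e2, e3]
    · linear_combination -hc1
    · linear_combination -hd1
  rw [e, ha _ (mul_mem (m _ a1 _ c1) (m _ b1 _ d1)) _ (m _ b1 _ f1),
    ha _ (m _ a1 _ c1) _ (m _ b1 _ d1), hc _ a1 _ c1, hc _ b1 _ d1, hc _ b1 _ f1]
  ring

theorem kill {l : U K → K} (ha : ∀ g ∈ Q2 K, ∀ h ∈ Q2 K, l (g * h) = l g + l h) {a b ψ : K}
    (hd : ∀ g ∈ Q2 K, l (dia a b g) = ψ * l g) (h : ∃ j : ℕ, ψ ^ j = 1 ∧ a ^ j ≠ 1 ∧ b ^ j ≠ 1)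
    {x : U K} (hx : x ∈ Q2 K) : l x = 0 := by
  obtain ⟨j, h1, h2, h3⟩ := h
  have hj : ∀ n : ℕ, ∀ g ∈ Q2 K, l (dia (a ^ n) (b ^ n) g) = ψ ^ n * l g := fun n g hg => by
    induction n with
    | zero => rw [pow_zero, pow_zero, pow_zero, dia_one, one_mul]
    | succ n ih => rw [pow_succ', pow_succ', ← dia_dia, hd _ (dia_mem _ _ hg), ih, pow_succ',
        mul_assoc]
  obtain ⟨g, e1, e2, e3, -⟩ := exists_el (0 : K) (x.y1 / (a ^ j - 1)) (x.y2 / (b ^ j - 1)) 0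
  have h4 := sub_ne_zero.2 h2
  have h5 := sub_ne_zero.2 h3
  have hx' : x.t = 0 := hx
  have hm := dia_mem (a ^ j) (b ^ j) e1
  have hA : (dia (a ^ j) (b ^ j) g)⁻¹ * (g * x) ∈ A K := by
    refine ⟨?_, ?_, ?_⟩ <;> simp [e1, e2, e3, hx'] <;> field_simp <;> ring
  have h6 := ha _ hm _ hA.1
  rw [mul_inv_cancel_left, ha g e1 x hx, hj j g e1, h1, kill_A ha hA] at h6
  linear_combination h6

theorem step (hE : F.IsEssential p (Q2 K)) (hn : n2 ∈ X2 F) {a b : K} (a0 : a ≠ 0) (b0 : b ≠ 0)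
    (a1 : a ≠ 1) (b1 : b ≠ 1) (m1 : Mor F ⊤ (dia a b)) (m2 : Mor F ⊤ (dia b a))
    (j1 : ∃ j : ℕ, (a * star a) ^ j = 1 ∧ b ^ j ≠ 1 ∧ a ^ j ≠ 1)
    (j2 : ∃ j : ℕ, (a * star b) ^ j = 1 ∧ b ^ j ≠ 1 ∧ a ^ j ≠ 1)
    (j3 : ∃ j : ℕ, (b * star b) ^ j = 1 ∧ b ^ j ≠ 1 ∧ a ^ j ≠ 1) :
    PIso F nu2 (Q2 K) (Q2 K) := by
  obtain ⟨f, hf, e⟩ := hn
  let T := gamA a b (RingEquiv.refl K) sc_refl a0 b0
  let T' := gamA b a (RingEquiv.refl K) sc_refl b0 a0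
  have hT : PIso F T.toEquiv (Q2 K) (Q2 K) :=
    Mor.piso_of_maps (f := T.toEquiv) (m1.restrict le_top) fun _ hx => dia_mem a b hx
  have hT' : PIso F T'.toEquiv (Q2 K) (Q2 K) :=
    Mor.piso_of_maps (f := T'.toEquiv) (m2.restrict le_top) fun _ hx => dia_mem b a hx
  have e1 : ∀ g ∈ Q2 K, (f g).y1 = g.y2 := fun g hg => congrArg Prod.fst (e g hg)
  have e2 : ∀ g ∈ Q2 K, (f g).y2 = -g.y1 := fun g hg => congrArg Prod.snd (e g hg)
  have key : ∀ y, (f * (T'.toEquiv * (f⁻¹ * T.toEquiv⁻¹)) : Perm (U K)) (T (f y)) = f (T' y) :=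
    fun y => by simp [Perm.mul_apply, Perm.inv_def]
  obtain ⟨k, hk, ek⟩ := inn2 hE (((hT.symm.trans hf.symm).trans hT').trans hf) fun g hg => by
    have hy := hf.inv_maps (hT.inv_maps hg)
    have : g = T (f (f⁻¹ (T.toEquiv⁻¹ g))) := by simp [Perm.inv_def]
    generalize f⁻¹ (T.toEquiv⁻¹ g) = y at hy this
    rw [this, key]
    refine Prod.ext ?_ ?_
    · change (f (dia b a y)).y1 = (dia a b (f y)).y1
      rw [e1 _ (dia_mem b a hy)]
      simp [e1 y hy]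
    · change (f (dia b a y)).y2 = (dia a b (f y)).y2
      rw [e2 _ (dia_mem b a hy)]
      simp [e2 y hy]
  obtain ⟨k0, c1, c2, c3, -⟩ := exists_el (0 : K) (k.y1 / (1 - a)) (k.y2 / (1 - b)) 0
  have hk' : k.t = 0 := hk
  have h4 := sub_ne_zero.2 a1.symm
  have h5 := sub_ne_zero.2 b1.symm
  have hα : k0⁻¹ * k * T k0 ∈ A K := by
    refine ⟨?_, ?_, ?_⟩ <;> simp [T, gamA_apply, c1, c2, c3, hk'] <;> field_simp <;> ring
  have hk0 : k0 ∈ Q2 K := c1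
  let α : U K → U K := fun y => (nu2 y)⁻¹ * (k0⁻¹ * f y * k0)
  have hA : ∀ y ∈ Q2 K, α y ∈ A K := fun y hy => by
    have t1 : y.t = 0 := hy
    have t2 : (f y).t = 0 := hf.maps hy
    refine ⟨?_, ?_, ?_⟩ <;> simp [α, c1, t1, t2, e1 y hy, e2 y hy]
  have hm : ∀ g ∈ Q2 K, ∀ h ∈ Q2 K, α (g * h) = α g * α h := fun g hg h hh => by
    have c := comm_A (inv_mem ((nu2_mem h).2 hh)) (hA g hg)
    calc α (g * h) = (nu2 h)⁻¹ * α g * (k0⁻¹ * f h * k0) := by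
          simp only [α, nu2_mul hg hh, hf.map_mul hg hh]; group
      _ = _ := by rw [c, mul_assoc]
  have hd : ∀ y ∈ Q2 K, α (dia b a y) = dia a b (α y) := fun y hy => by
    have t1 : y.t = 0 := hy
    have h1 : nu2 (dia b a y) = T (nu2 y) := by
      ext <;> simp [T, gamA_apply, t1] <;> ring
    have h2 : f (dia b a y) = k * T (f y) * k⁻¹ :=
      (key y).symm.trans (ek _ (dia_mem a b (hf.maps hy)))
    have h3 : T (k0⁻¹ * f y * k0) ∈ Q2 K :=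
      dia_mem a b (mul_mem (mul_mem (inv_mem hk0) (hf.maps hy)) hk0)
    have c := comm_A h3 hα
    change (nu2 (dia b a y))⁻¹ * (k0⁻¹ * f (dia b a y) * k0) = T _
    rw [h1, h2, map_mul, map_inv]
    congr 1
    calc k0⁻¹ * (k * T (f y) * k⁻¹) * k0
        = k0⁻¹ * k * T k0 * T (k0⁻¹ * f y * k0) * (k0⁻¹ * k * T k0)⁻¹ := by
          simp only [map_mul, map_inv]; group
      _ = _ := by rw [← c, mul_inv_cancel_right]
  have hz : ∀ y ∈ Q2 K, α y = 1 := fun y hy => by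
    refine U.ext (hA y hy).1 (hA y hy).2.1 (hA y hy).2.2 ?_ ?_ ?_
    · refine kill (l := fun g => (α g).x1) (fun g hg h hh => ?_) (fun g hg => ?_) j1 hy
      · simp [hm g hg h hh, (hA g hg).1, (hA g hg).2.1]
      · simp [hd g hg]
    · refine kill (l := fun g => (α g).s) (fun g hg h hh => ?_) (fun g hg => ?_) j2 hy
      · simp [hm g hg h hh, (hA g hg).1, (hA g hg).2.1]
      · simp [hd g hg]
    · refine kill (l := fun g => (α g).x2) (fun g hg h hh => ?_) (fun g hg => ?_) j3 hy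
      · simp [hm g hg h hh, (hA g hg).2.2]
      · simp [hd g hg]
  have hc : PIso F (cj k0⁻¹) (Q2 K) (Q2 K) :=
    (Mor.cj F le_top (mem_top _)).piso_of_maps fun x hx =>
      (inferInstance : (Q2 K).Normal).conj_mem x hx _
  refine (hf.trans hc).congr fun y hy => ?_
  have := inv_mul_eq_one.1 (hz y hy)
  rw [this]
  change k0⁻¹ * f y * k0⁻¹⁻¹ = _
  rw [inv_inv]

theorem pow_pred {x : K} (hx : x ≠ 0) : x ^ (qq K - 1) = 1 ↔ star x = x := by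
  have := two_le_qq (K := K)
  rw [star_eq_pow, show qq K = qq K - 1 + 1 by omega, pow_succ, mul_eq_right₀ hx,
    Nat.add_sub_cancel]

theorem pow_succ_q (x : K) : x ^ (qq K + 1) = x * star x := by
  rw [star_eq_pow, pow_succ']

end W2

open W2

theorem wey2 (hE : F.IsEssential p (Q2 K)) (ht : Tor1 F) (ht' : Tor2 F) (hn : n2 ∈ X2 F) :
    PIso F nu2 (Q2 K) (Q2 K) := by
  rcases exists_gen (K := K) with ⟨m, m0, h1, h2⟩ | ⟨w, w0, w1, w3, hw⟩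
  · have s0 : star m ≠ 0 := star_ne_zero.2 m0
    have m1 : m ≠ 1 := by rintro rfl; simp at h1
    have i0 := inv_ne_zero m0
    have r1 : m ^ (qq K - 1) ≠ 1 := fun e => h1 ((pow_pred m0).1 e)
    have r2 : m⁻¹ ^ (qq K - 1) ≠ 1 := by rwa [inv_pow, Ne, inv_eq_one]
    have r3 : m ^ (qq K + 1) ≠ 1 := by rwa [pow_succ_q]
    have r4 : m⁻¹ ^ (qq K + 1) ≠ 1 := by rwa [inv_pow, Ne, inv_eq_one]
    refine step hE hn m0 i0 m1 (by rwa [Ne, inv_eq_one]) (ht' m m0)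
      (by simpa using ht' m⁻¹ i0) ⟨_, ?_, r2, r1⟩ ⟨_, ?_, r4, r3⟩ ⟨_, ?_, r2, r1⟩
    · exact (pow_pred (mul_ne_zero m0 s0)).2 (by simp [mul_comm])
    · rw [pow_succ_q]; simp only [star_mul', star_inv₀, star_star]; field_simp
    · exact (pow_pred (mul_ne_zero i0 (star_ne_zero.2 i0))).2 (by simp [mul_comm])
  · have q0 := pow_ne_zero 2 w0
    have q1 : w ^ 2 ≠ 1 := fun e => w1 (by rw [← w3, pow_succ, e, one_mul])
    have hs : star (w ^ 2) = w := by rw [star_pow, hw]; linear_combination w * w3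
    have hm : Mor F ⊤ (dia (w ^ 2) (w ^ 2)) := by
      refine ((ht _ q0).comp (ht' w w0) fun _ _ => mem_top _).congr fun x _ => ?_
      change dia _ _ (dia _ _ x) = _
      rw [dia_dia, hs]
      congr 1 <;> field_simp
    have j : ∃ j : ℕ, (w ^ 2 * star (w ^ 2)) ^ j = 1 ∧ (w ^ 2) ^ j ≠ 1 ∧ (w ^ 2) ^ j ≠ 1 :=
      ⟨1, by rw [hs]; linear_combination w3, by rwa [pow_one], by rwa [pow_one]⟩
    exact step hE hn q0 q0 q1 q1 hm hm j j j

end Cfsg.Lib.U5F
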