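import Cfsg.Agent.U5F.Nor
import Cfsg.Agent.U5F.Ess
import Cfsg.Agent.U5F.H1
import Cfsg.Agent.U5F.H2
import Cfsg.Agent.U5F.W1
import Cfsg.Agent.U5F.W2
import Cfsg.Agent.U5F.Cmp
import Cfsg.Agent.U5F.Real

/-! Every saturated fusion system over `U K` is realizable. -/

set_option autoImplicit false

namespace Cfsg.Lib.U5F

open Cfsg Cfsg.FusionSystem Subgroup Equiv Cfsg.Lib.Fus

universe u

variable {K : Type u} [Field K] [StarRing K] [Finite K] [UF K] {p : ℕ} [Fact p.Prime] [CharP K p]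

theorem realizable_U {F : FusionSystem (⊤ : Subgroup (U K))} (hF : F.IsSaturated p) :
    F.IsRealizable p := by
  obtain ⟨D, hD, hs, h⟩ := exists_std hF
  refine h ?_
  by_cases h1 : D.IsEssential p (Q1 K)
  swap
  · exact Class.FusH.isRealizable_of_isConstrained (isP_top p) (constrained hD hs (.inl h1))
  by_cases h2 : D.IsEssential p (Q2 K)
  swap
  · exact Class.FusH.isRealizable_of_isConstrained (isP_top p) (constrained hD hs (.inr h2))
  have t1 := tor1 hD hs h1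
  have t2 := tor2 hD hs h2
  have hw : Wey D := ⟨wey1 h1 t1 (lin3 (hy3 hD hs h1) (bo3 hD hs)).1,
    wey2 h2 t1 t2 (lin2 (hy2 hD h2)).1⟩
  obtain ⟨D', h3, h4, h5, h6, h7⟩ := exists_real hD hs t1 t2
  have e : D = D' := fus_ext_mor fun P k =>
    ⟨isSubsystemOf_iff.1 (sub_of_wey hD hs hw h6 fun f hf => ((h7 f).2 hf).mor) P k,
      isSubsystemOf_iff.1 (sub_of_wey h3 h5 h6 hw fun f hf => ((h7 f).1 hf).mor) P k⟩
  exact e ▸ h4

end Cfsg.Lib.U5F
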