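import Cfsg.Agent.U5F.Defs
import Cfsg.Agent.Fus.Thompson
import Cfsg.Agent.Fus.GroupFusion

/-! Transport of a fusion system along an isomorphism of the underlying `p`-groups. -/

set_option autoImplicit false

namespace Cfsg.Lib.U5F

open Cfsg Cfsg.FusionSystem Subgroup Equiv Cfsg.Lib.Fus

universe u v

theorem transport {p : ℕ} [Fact p.Prime] {G : Type u} [Group G] [Finite G] {Ω : Type v} [Group Ω]
    {S : Subgroup Ω} [Finite S] (hS : IsPGroup p S) {F : FusionSystem S} (hF : F.IsSaturated p)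
    (e : G ≃* S) : ∃ D : FusionSystem (⊤ : Subgroup G), D.IsSaturated p ∧
      (D.IsRealizable p → F.IsRealizable p) ∧
      ∀ f, PIso D f ⊤ ⊤ → ∃ α ∈ F.autGroup S, ∀ g, e (f g) = α (e g) := by
  have hi := injOn_extFun (ι := e.symm.toMonoidHom) e.symm.injective
  obtain ⟨D, hD⟩ : ∃ D : FusionSystem (⊤ : Subgroup G), FImg F D (extFun e.symm.toMonoidHom) := by
    rw [← MonoidHom.range_eq_top.2 (show Function.Surjective e.symm.toMonoidHom from e.symm.surjective),
      ← img_extFun_top]
    exact exists_fImg_of_injOn F (mulOn_extFun _) hi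
  have he : ∀ y, extFun e.symm.toMonoidHom (e y : Ω) = y := fun y => by simp
  have he' : ∀ x ∈ S, (e (extFun e.symm.toMonoidHom x) : Ω) = x := fun x hx => by
    simp [extFun_of_mem _ hx]
  refine ⟨D, hD.saturated hS hF, fun ⟨H, _, _, ι, h1, T, hT⟩ => ?_, fun f hf => ?_⟩
  · let k : H ≃* Shrink.{v} H := (Shrink.mulEquiv.{v} (α := H)).symm
    let e' : S ≃* (⊤ : Subgroup G) := e.symm.trans topEquiv.symm
    let κ : S →* Shrink.{v} H := k.toMonoidHom.comp (ι.comp e'.toMonoidHom)
    have hκ : ∀ x ∈ S, extFun κ x = k (extFun ι (extFun e.symm.toMonoidHom x)) := fun x hx => by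
      rw [extFun_of_mem _ hx, extFun_of_mem _ hx, extFun_of_mem ι trivial]; rfl
    have : Finite (Shrink.{v} H) := Finite.of_equiv _ k.toEquiv
    refine ⟨Shrink.{v} H, inferInstance, this, κ, isRealizedBy_of_mor
      (k.injective.comp (h1.1.comp e'.injective)) (fun P f hf => ?_) fun P f g hP hm hg => ?_,
      T.mapSurjective (f := k.toMonoidHom) k.surjective, ?_⟩
    · obtain ⟨f', h3, h4⟩ := hD.mor P f hf
      obtain ⟨g, hg⟩ := h3.exists_conj_of_realized h1
      exact ⟨k g, fun x hx => by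
        rw [hκ _ (hf.maps hx), hκ _ (hf.le hx), ← h4 x hx, hg _ (mem_img_of_mem _ hx), map_mul,
          map_mul, map_inv]⟩
    · obtain ⟨f', h3, h4⟩ := hD.lift (img P (extFun e.symm.toMonoidHom))
        (fun y => extFun e.symm.toMonoidHom (f (e y))) ((mor_iff_of_realized h1).2
          ⟨le_top, fun _ _ => trivial, k.symm g, fun y hy => by
            obtain ⟨x, hx, rfl⟩ := (mem_img_extFun' _ hP).1 hy
            apply k.injective
            rw [he' x (hP hx), ← hκ _ (hm x hx), hg x hx, hκ _ (hP hx)]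
            simp⟩)
      refine (h3.restrict (le_pre_img hP)).congr fun x hx =>
        hi (h3.maps (le_pre_img hP hx)) (hm x hx) ?_
      rw [← h4 x (le_pre_img hP hx), he' x (hP hx)]
    · refine (Sylow.coe_mapSurjective _ T).trans ?_
      rw [hT, MonoidHom.range_comp, MonoidHom.range_comp,
        MonoidHom.range_eq_top.2 (show Function.Surjective e'.toMonoidHom from e'.surjective),
        ← MonoidHom.range_eq_map]
  · obtain ⟨f', h3, h4⟩ := hD.lift ⊤ f hf.mor
    have hle : S ≤ pre S (extFun e.symm.toMonoidHom) ⊤ := fun x hx => mem_pre_of hx trivial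
    obtain ⟨k, hk, hk'⟩ := (h3.restrict hle).exists_perm
    refine ⟨hk.piso_top.aut, hk.piso_top.aut_mem, fun g => Subtype.ext ?_⟩
    rw [PIso.aut_apply, hk' _ (e g).2, ← he' _ (h3.maps (hle (e g).2)), ← h4 _ (hle (e g).2), he]

end Cfsg.Lib.U5F
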