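import Cfsg.Agent.U5F.Bas
import Cfsg.Agent.U5F.Semi

/-! Automorphisms of `U K` are standard modulo the commutator subgroup. -/

set_option autoImplicit false
set_option linter.unusedSectionVars false

namespace Cfsg.Lib.U5F

open Cfsg Cfsg.FusionSystem Subgroup Equiv Cfsg.Lib.Fus U

universe u

variable {K : Type u} [Field K] [StarRing K] [Finite K] [UF K]

namespace AutS

variable (α : MulAut (U K)) {g : U K}

theorem cm_map (g x : U K) :
    (α x)⁻¹ * (α g * α x * (α g)⁻¹) = α (x⁻¹ * (g * x * g⁻¹)) := by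
  simp only [map_mul, map_inv]

theorem mZ1 (h : g ∈ Z1 K) : α g ∈ Z1 K := mem_Z1_iff.2 fun x => by
  obtain ⟨y, rfl⟩ := α.surjective x
  rw [← map_mul, ← map_mul, mem_Z1_iff.1 h y]

theorem mZ2 (h : g ∈ Z2 K) : α g ∈ Z2 K := mem_Z2_iff.2 fun x => by
  obtain ⟨y, rfl⟩ := α.surjective x
  rw [cm_map]
  exact mZ1 α (mem_Z2_iff.1 h y)

theorem mZ3 (h : g ∈ Z3 K) : α g ∈ Z3 K := mem_Z3_iff.2 fun x => by
  obtain ⟨y, rfl⟩ := α.surjective x
  rw [cm_map]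
  exact mZ2 α (mem_Z3_iff.1 h y)

theorem mQ2 (h : g ∈ Q2 K) : α g ∈ Q2 K := mem_Q2_iff.2 fun x hx => by
  obtain ⟨y, rfl⟩ := α.surjective x
  have hy : y ∈ Z2 K := by simpa using mZ2 α.symm hx
  rw [← map_mul, ← map_mul, mem_Q2_iff.1 h y hy]

theorem mA (h : g ∈ A K) : α g ∈ A K := mem_A_iff.2 fun x hx => by
  obtain ⟨y, rfl⟩ := α.surjective x
  have hy : y ∈ Q2 K := by simpa using mQ2 α.symm hx
  rw [← map_mul, ← map_mul, mem_A_iff.1 h y hy]

theorem of_R (h : g ∈ R K) (x : U K) :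
    ∃ x', x'⁻¹ * x ∈ Q2 K ∧ x'⁻¹ * (g * x' * g⁻¹) ∈ Z2 K := by
  have h' : g.y2 = 0 := h
  refine ⟨tEl x.t 0, ?_, cm_Z2.2 ?_⟩
  · simp [mem_Q2, tEl]
  · simp [h', tEl]

theorem to_R (hg : g ∉ Q2 K)
    (h : ∀ x, ∃ x', x'⁻¹ * x ∈ Q2 K ∧ x'⁻¹ * (g * x' * g⁻¹) ∈ Z2 K) : g ∈ R K := by
  obtain ⟨d, hd⟩ := UF.nt (K := K)
  obtain ⟨x', h1, h2⟩ := h (tEl (d * g.t) 0)
  have ht : g.t ≠ 0 := hg
  have e1 : x'.t = d * g.t := by
    have : -x'.t + d * g.t = 0 := h1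
    linear_combination -this
  obtain ⟨e2, e3⟩ := cm_Z2.1 h2
  have e4 : x'.y2 = d * g.y2 := mul_left_cancel₀ ht (by rw [e2, e1]; ring)
  by_contra hy
  have hy' : g.y2 ≠ 0 := hy
  have hs : star g.y2 ≠ 0 := star_ne_zero.2 hy'
  rw [e4, star_mul'] at e3
  exact hd (mul_left_cancel₀ (mul_ne_zero hy' hs) (by linear_combination -e3))

theorem mR (h : g ∈ R K) : α g ∈ R K := by
  by_cases hq : g ∈ Q2 K
  · exact Z3_le_R (mZ3 α ⟨hq, h⟩)
  refine to_R (fun e => hq (by simpa using mQ2 α.symm e)) fun x => ?_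
  obtain ⟨y, rfl⟩ := α.surjective x
  obtain ⟨y', h1, h2⟩ := of_R h y
  refine ⟨α y', ?_, ?_⟩
  · rw [← map_inv, ← map_mul]; exact mQ2 α h1
  · rw [cm_map]; exact mZ2 α h2

end AutS

open AutS in
theorem aut_gam (α : MulAut (U K)) : ∃ (a b : K) (σ : K ≃+* K) (hσ : SC σ), a ≠ 0 ∧ b ≠ 0 ∧
    ∀ g, (gam a b σ hσ g)⁻¹ * α g ∈ Z3 K := by
  choose e he1 he2 using fun y : K => exists_Q2 (K := K) (0, y)
  choose d hd1 hd2 hd3 using fun y : K => exists_D1 (K := K) y 0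
  have hey : ∀ y, (e y).y2 = y := fun y => congrArg Prod.snd (he2 y)
  let f : K → K := fun t => (α (tEl t 0)).t
  let h : K → K := fun y => (α (e y)).y2
  let k : K → K := fun y => (α (d y)).y1
  have hf : ∀ g, (α g).t = f g.t := fun g => by
    have : (tEl g.t 0)⁻¹ * g ∈ Q2 K := by simp [mem_Q2, tEl]
    have h2 := mQ2 α this
    rw [map_mul, map_inv, mem_Q2, mul_t, inv_t] at h2
    linear_combination h2
  have hh : ∀ g, (α g).y2 = h g.y2 := fun g => by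
    have : (e g.y2)⁻¹ * g ∈ R K := by simp [mem_R, hey]
    have h2 := mR α this
    rw [map_mul, map_inv, mem_R, mul_y2, inv_y2] at h2
    linear_combination h2
  have hk : ∀ g ∈ Z3 K, (α g).y1 = k g.y1 := fun g hg => by
    have h0 := hd1 g.y1
    have : (d g.y1)⁻¹ * g ∈ A K := by simp [mem_A, hd2, h0.1, h0.2.1, hg.1, hg.2]
    have h2 := (mA α this).2.1
    have h3 := mZ3 α (D1_le_Z3 h0)
    rw [map_mul, map_inv, mul_y1, inv_y1, inv_t, h3.1] at h2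
    linear_combination h2
  have hadd : ∀ a b, f (a + b) = f a + f b := fun a b => by
    have := hf (tEl a 0 * tEl b 0)
    rw [map_mul, mul_t, mul_t] at this
    exact this.symm
  have hsurj : Function.Surjective f := fun t => ⟨(α.symm (tEl t 0)).t, by
    rw [← hf, MulEquiv.apply_symm_apply]; rfl⟩
  have h1 : h 1 ≠ 0 := fun e0 => by
    have : e 1 ∈ R K := by simpa using mR α.symm (g := α (e 1)) e0
    exact one_ne_zero ((hey 1).symm.trans this)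
  have f1 : f 1 ≠ 0 := fun e0 => by
    have : tEl (1 : K) 0 ∈ Q2 K := by simpa using mQ2 α.symm (g := α (tEl 1 0)) e0
    exact one_ne_zero (α := K) this
  obtain ⟨σ, hσ⟩ := semi3 (k := k) hadd (Finite.surjective_iff_bijective.1 hsurj) h1 fun t y => by
    have a := hk _ (cm_Z3 (tEl t 0) (e y))
    have b : (α (e y)).t = 0 := mQ2 α (he1 y)
    have c : (e y).t = 0 := he1 y
    rw [← cm_map, cm_y1, cm_y1, b, c, hey, zero_mul, zero_mul, sub_zero, sub_zero] at a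
    exact a.symm
  refine ⟨f 1 * h 1, h 1, σ, sc σ, mul_ne_zero f1 h1, h1, fun g => ⟨?_, ?_⟩⟩
  · rw [mul_t, inv_t, gam_t, hf, (hσ g.t).1, mul_div_cancel_right₀ _ h1, neg_add_cancel]
  · rw [mul_y2, inv_y2, gam_y2, hh, (hσ g.y2).2, neg_add_cancel]

end Cfsg.Lib.U5F
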