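import Cfsg.Agent.U5F.Gen

/-! Automorphisms of a normal subgroup `Q` with centre `Z ≤ [Q, Q]` in a fusion system. -/

set_option autoImplicit false
set_option linter.unusedSectionVars false

namespace Cfsg.Lib.U5F.BG

open Cfsg Cfsg.FusionSystem Subgroup Equiv Cfsg.Lib.Fus Cfsg.Lib.Fus.Ess

variable {G : Type*} [Group G] [Finite G] {p : ℕ} [Fact p.Prime] {Q X Y Z : Subgroup G}
  {F : FusionSystem (⊤ : Subgroup G)} {f : Perm G}

/-- The automorphisms of `Q` trivial on `Q / X`, `X / Y` and `Y / Z`. -/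
def chain (Q : Subgroup G) (hYX : Y ≤ X) (hZY : Z ≤ Y) : Subgroup (MulAut Q) :=
  subgroupOfFinite {β | Triv β ⊤ (X.subgroupOf Q) ∧ Triv β (X.subgroupOf Q) (Y.subgroupOf Q) ∧
      Triv β (Y.subgroupOf Q) (Z.subgroupOf Q)}
    ⟨triv_one _ _, triv_one _ _, triv_one _ _⟩ fun _ _ ha hb =>
      ⟨ha.1.mul hb.1 fun _ _ => trivial,
        ha.2.1.mul hb.2.1 fun _ hx => hb.2.1.maps (subgroupOf_mono Q hYX) hx,
        ha.2.2.mul hb.2.2 fun _ hx => hb.2.2.maps (subgroupOf_mono Q hZY) hx⟩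

theorem mem_chain {hYX : Y ≤ X} {hZY : Z ≤ Y} {β : MulAut Q} :
    β ∈ chain Q hYX hZY ↔ Triv β ⊤ (X.subgroupOf Q) ∧
      Triv β (X.subgroupOf Q) (Y.subgroupOf Q) ∧ Triv β (Y.subgroupOf Q) (Z.subgroupOf Q) :=
  Iff.rfl

theorem fix_comm (hc : ∀ z ∈ Z, ∀ g ∈ Q, g * z = z * g) (h : PIso F f Q Q)
    (e : ∀ g ∈ Q, g⁻¹ * f g ∈ Z) {z : G} (hz : z ∈ ⁅Q, Q⁆) : f z = z := by
  have h1 : f 1 = 1 := by
    have := h.map_mul (one_mem Q) (one_mem Q)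
    rw [mul_one] at this
    exact left_eq_mul.1 this
  have hi : ∀ a ∈ Q, f a⁻¹ = (f a)⁻¹ := fun a ha => by
    rw [eq_inv_iff_mul_eq_one, ← h.map_mul (inv_mem ha) ha, inv_mul_cancel, h1]
  let N : Subgroup G := subgroupOfFinite {a | a ∈ Q ∧ f a = a} ⟨one_mem _, h1⟩
    fun a b ha hb => ⟨mul_mem ha.1 hb.1, by rw [h.map_mul ha.1 hb.1, ha.2, hb.2]⟩
  have : ⁅Q, Q⁆ ≤ N := comm_le_of_cm fun a ha b hb => by
    refine ⟨mul_mem (inv_mem ha) (mul_mem (mul_mem hb ha) (inv_mem hb)), ?_⟩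
    rw [h.map_mul (inv_mem ha) (mul_mem (mul_mem hb ha) (inv_mem hb)), hi a ha, h.map_conj hb ha]
    have ea : f a = a * (a⁻¹ * f a) := by group
    have eb : f b = b * (b⁻¹ * f b) := by group
    have ha' := e a ha
    have hb' := e b hb
    have ha'' : a⁻¹ * f a ∈ Q := mul_mem (inv_mem ha) (h.maps ha)
    generalize a⁻¹ * f a = c at ea ha' ha''
    generalize b⁻¹ * f b = d at eb hb'
    rw [ea, eb]
    have h1 : d * (a * c) * d⁻¹ = a * c := by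
      rw [← hc d hb' _ (mul_mem ha ha''), mul_inv_cancel_right]
    have h2 : c⁻¹ * (a⁻¹ * (b * a)) * c = a⁻¹ * (b * a) := by
      rw [mul_assoc, hc c ha' _ (mul_mem (inv_mem ha) (mul_mem hb ha)), inv_mul_cancel_left]
    calc (a * c)⁻¹ * (b * d * (a * c) * (b * d)⁻¹)
        = (a * c)⁻¹ * (b * (d * (a * c) * d⁻¹) * b⁻¹) := by group
      _ = c⁻¹ * (a⁻¹ * (b * a)) * c * b⁻¹ := by rw [h1]; group
      _ = a⁻¹ * (b * a * b⁻¹) := by rw [h2]; group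
  exact (this hz).2

theorem triv_bot (hc : ∀ z ∈ Z, ∀ g ∈ Q, g * z = z * g) (hZ : Z ≤ ⁅Q, Q⁆) {β : MulAut Q}
    (h : Triv β ⊤ (Z.subgroupOf Q)) : Triv β (Z.subgroupOf Q) ⊥ := by
  have hle : ⁅(⊤ : Subgroup Q), (⊤ : Subgroup Q)⁆ ≤ β.toMonoidHom.eqLocus (MonoidHom.id Q) := by
    refine comm_le_of_cm fun a _ b _ => ?_
    show β (a⁻¹ * (b * a * b⁻¹)) = a⁻¹ * (b * a * b⁻¹)
    simp only [map_mul, map_inv]
    have ea : β a = a * (a⁻¹ * β a) := by group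
    have eb : β b = b * (b⁻¹ * β b) := by group
    have ha' := h a trivial
    have hb' := h b trivial
    generalize a⁻¹ * β a = c at ea ha'
    generalize b⁻¹ * β b = d at eb hb'
    rw [ea, eb]
    have hc' : ∀ z : Q, z ∈ Z.subgroupOf Q → ∀ g : Q, g * z = z * g := fun z hz g =>
      Subtype.ext (hc z hz g g.2)
    have h1 : d * (a * c) * d⁻¹ = a * c := by
      rw [← hc' d hb', mul_inv_cancel_right]
    have h2 : c⁻¹ * (a⁻¹ * (b * a)) * c = a⁻¹ * (b * a) := by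
      rw [mul_assoc, hc' c ha', inv_mul_cancel_left]
    calc (a * c)⁻¹ * (b * d * (a * c) * (b * d)⁻¹)
        = (a * c)⁻¹ * (b * (d * (a * c) * d⁻¹) * b⁻¹) := by group
      _ = c⁻¹ * (a⁻¹ * (b * a)) * c * b⁻¹ := by rw [h1]; group
      _ = a⁻¹ * (b * a * b⁻¹) := by rw [h2]; group
  refine triv_bot_iff.2 fun x hx => hle ?_
  have e : (⁅(⊤ : Subgroup Q), (⊤ : Subgroup Q)⁆).map Q.subtype = ⁅Q, Q⁆ := by
    rw [map_commutator, ← MonoidHom.range_eq_map, Q.range_subtype]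
  have := hZ hx
  rw [← e] at this
  obtain ⟨y, hy, ey⟩ := this
  rwa [← Subtype.ext ey]

theorem isPGroup_chain (hG : IsPGroup p G) (hc : ∀ z ∈ Z, ∀ g ∈ Q, g * z = z * g)
    (hZ : Z ≤ ⁅Q, Q⁆) (hYX : Y ≤ X) (hZY : Z ≤ Y) : IsPGroup p (chain Q hYX hZY) := by
  have hE := hG.to_subgroup Q
  refine isPGroup_iff_resIn_eq_bot.2 (le_bot_iff.1 (resIn_le_iff.2 fun β hβ hp => mem_bot.2 ?_))
  obtain ⟨h1, h2, h3⟩ := hβ
  have h4 := h1.trans hE hp h2 fun _ hx => h3.maps (subgroupOf_mono Q hZY) hx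
  have h5 := h4.trans hE hp h3 fun _ hx =>
    (h3.mono (subgroupOf_mono Q hZY) le_rfl).maps le_rfl hx
  exact triv_top_bot_iff.1 (h5.trans hE hp (triv_bot hc hZ h5) (aInv_bot (A := ⊤) β trivial))

theorem inv_maps (h : ∀ x ∈ X, f x ∈ X) {x : G} (hx : x ∈ X) : f⁻¹ x ∈ X := by
  have hs : Set.SurjOn f X X := (((X : Set G).toFinite.injOn_iff_bijOn_of_mapsTo
    (fun x hx => h x hx)).1 f.injective.injOn).surjOn
  obtain ⟨y, hy, rfl⟩ := hs hx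
  simpa using hy

theorem conj_mem_chain (hf : PIso F f Q Q) {hYX : Y ≤ X} {hZY : Z ≤ Y}
    (hX : ∀ x ∈ X, f x ∈ X) (hY : ∀ x ∈ Y, f x ∈ Y) (hZ : ∀ x ∈ Z, f x ∈ Z) {β : MulAut Q}
    (h : β ∈ chain Q hYX hZY) : hf.aut * β * hf.aut⁻¹ ∈ chain Q hYX hZY :=
  ⟨h.1.conj (fun _ _ => trivial) fun x hx => hX x hx,
    h.2.1.conj (fun _ hx => inv_maps hX hx) fun x hx => hY x hx,
    h.2.2.conj (fun _ hx => inv_maps hY hx) fun x hx => hZ x hx⟩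

theorem ext_gen (hG : IsPGroup p G) (hF : F.IsSaturated p) [Q.Normal]
    (hc : ∀ z ∈ Z, ∀ g ∈ Q, g * z = z * g) (hZ' : Z ≤ ⁅Q, Q⁆) (hYX : Y ≤ X) (hZY : Z ≤ Y)
    (t1 : ∀ g, Tr g Q X) (t2 : ∀ g, Tr g X Y) (t3 : ∀ g, Tr g Y Z) (hf : PIso F f Q Q)
    (hX : ∀ x ∈ X, f x ∈ X) (hY : ∀ x ∈ Y, f x ∈ Y) (hZ : ∀ x ∈ Z, f x ∈ Z) :
    ∃ k, PIso F k ⊤ ⊤ ∧ ∀ g ∈ Q, f g = k g := by
  have hS : IsPGroup p (⊤ : Subgroup G) := hG.to_subgroup ⊤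
  have hN : (⊤ : Subgroup G) ≤ normalizer (Q : Set G) := by rw [normalizer_eq_top]
  have hFN : F.IsFullyNormalized Q := isFullyNormalized_of_le_normalizer le_top hN
  have hT := sat_sylIn hS hF hFN
  have hle : autInducedBy ⊤ Q ≤ chain Q hYX hZY := by
    intro α hα
    obtain ⟨s, -, hs, rfl⟩ := mem_autInducedBy'.1 hα
    exact ⟨triv_conjAut_top_iff.2 (t1 s), triv_conjAut_iff.2 fun x _ hx => t2 s x hx,
      triv_conjAut_iff.2 fun x _ hx => t3 s x hx⟩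
  have e := hT.max (chain Q hYX hZY ⊓ F.autGroup Q) (le_inf hle hT.le) inf_le_right
    ((isPGroup_chain hG hc hZ' hYX hZY).to_le inf_le_left)
  obtain ⟨k, hk, ek⟩ := exists_ext_aut (sat_receptive hS hF hFN) hf.aut_mem (U := ⊤)
    (fun x hx => ⟨hx, hN hx⟩) fun x hx => by
      have hm := conjAut_mem_autInducedBy (K := ⊤) hx (hN hx)
      rw [← e]
      exact ⟨conj_mem_chain hf hX hY hZ (hle hm),
        (F.autGroup Q).mul_mem ((F.autGroup Q).mul_mem hf.aut_mem (hT.le hm))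
          ((F.autGroup Q).inv_mem hf.aut_mem)⟩
  exact ⟨k, hk.piso_top, fun g hg => by rw [ek g hg, hf.pext_aut hg]⟩

theorem maps_center (hZ : ∀ z, z ∈ Z ↔ ∀ g ∈ Q, g * z = z * g) (hZQ : Z ≤ Q) (hf : PIso F f Q Q)
    {z : G} (hz : z ∈ Z) : f z ∈ Z := by
  refine (hZ _).2 fun g hg => ?_
  have h := hf.inv_maps hg
  rw [← perm_apply_inv f g, ← hf.map_mul h (hZQ hz), (hZ z).1 hz _ h, hf.map_mul (hZQ hz) h]

theorem inn_gen (hG : IsPGroup p G) (hE : F.IsEssential p Q)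
    (hZ : ∀ z, z ∈ Z ↔ ∀ g ∈ Q, g * z = z * g) (hZ' : Z ≤ ⁅Q, Q⁆) (hZQ : Z ≤ Q)
    (hf : PIso F f Q Q) (e : ∀ g ∈ Q, g⁻¹ * f g ∈ Z) : ∃ k ∈ Q, ∀ g ∈ Q, f g = k * g * k⁻¹ := by
  have hS : IsPGroup p (⊤ : Subgroup G) := hG.to_subgroup ⊤
  have h1 : chain Q (le_refl Z) (le_refl Z) ⊓ F.autGroup Q ≤ pCoreIn p (F.autGroup Q) := by
    refine le_pCoreIn inf_le_right ((isPGroup_chain hG (fun z hz => (hZ z).1 hz) hZ' _ _).to_le
      inf_le_left) fun a ha x hx => ⟨?_, (F.autGroup Q).mul_mem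
        ((F.autGroup Q).mul_mem ha hx.2) ((F.autGroup Q).inv_mem ha)⟩
    have hi := piso_pext_of_mem le_top ha
    have ea : hi.aut = a := aut_ext_pext fun x hx => hi.pext_aut hx
    have hm := fun z hz => maps_center hZ hZQ hi (z := z) hz
    exact ea ▸ conj_mem_chain hi hm hm hm hx.1
  rw [(isRadical_iff.1 (isRadical_of_isEssential hS hE)).2] at h1
  have h2 : Triv hf.aut ⊤ (Z.subgroupOf Q) := fun x _ => e x x.2
  obtain ⟨k, hk, ek⟩ := mem_inn_pext.1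
    (h1 ⟨⟨h2, h2.mono le_top le_rfl, h2.mono le_top le_rfl⟩, hf.aut_mem⟩)
  exact ⟨k, hk, fun g hg => by rw [← ek g hg, hf.pext_aut hg]⟩

theorem exists_perm {V : Type*} (π : G → V) (hs : ∀ v, ∃ g ∈ Q, π g = v)
    (hk : ∀ a ∈ Q, ∀ b ∈ Q, π a = π b ↔ a⁻¹ * b ∈ Z)
    (hZ : ∀ z, z ∈ Z ↔ ∀ g ∈ Q, g * z = z * g) (hZQ : Z ≤ Q) (hf : PIso F f Q Q) :
    ∃ φ : Perm V, ∀ g ∈ Q, π (f g) = φ (π g) := by
  choose s hs1 hs2 using hs
  have key : ∀ {k : Perm G}, PIso F k Q Q → ∀ g ∈ Q, π (k (s (π g))) = π (k g) := by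
    intro k hk' g hg
    have h1 := (hk _ (hs1 (π g)) g hg).1 (hs2 _)
    refine (hk _ (hk'.maps (hs1 _)) _ (hk'.maps hg)).2 ?_
    have h2 := maps_center hZ hZQ hk' h1
    have h3 : k g = k (s (π g)) * k ((s (π g))⁻¹ * g) := by
      rw [← hk'.map_mul (hs1 _) (hZQ h1), mul_inv_cancel_left]
    rwa [h3, inv_mul_cancel_left]
  refine ⟨⟨fun v => π (f (s v)), fun v => π (f⁻¹ (s v)), fun v => ?_, fun v => ?_⟩,
    fun g hg => (key hf g hg).symm⟩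
  · simp only
    rw [key hf.symm _ (hf.maps (hs1 v)), perm_inv_apply, hs2]
  · simp only
    rw [key hf _ (hf.inv_maps (hs1 v)), perm_apply_inv, hs2]

end Cfsg.Lib.U5F.BG
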