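import Cfsg.Agent.U5F.Bas
import Cfsg.Agent.U5F.BG

/-! The automorphisms of `Q₁` in a fusion system over `U K`. -/

set_option autoImplicit false
set_option linter.unusedSectionVars false

namespace Cfsg.Lib.U5F

open Cfsg Cfsg.FusionSystem Subgroup Equiv Cfsg.Lib.Fus

universe u

variable {K : Type u} [Field K] [StarRing K] [Finite K] [UF K] {p : ℕ} [Fact p.Prime] [CharP K p]
  {F F' : FusionSystem (⊤ : Subgroup (U K))} {f : Perm (U K)}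

namespace B1

theorem Z1_le_comm : Z1 K ≤ ⁅D1 K, D1 K⁆ := by
  intro z hz
  have h1 : star z.x1 = -z.x1 := by rw [z.h1, (mem_Z1.1 hz).2.1]; simp
  obtain ⟨y, hy⟩ := exists_im h1
  obtain ⟨x, hx, ex, -⟩ := exists_D1 y 0
  obtain ⟨g, hg, eg, -⟩ := exists_D1 (1 : K) 0
  have e : x⁻¹ * (g * x * g⁻¹) = z := Z1_ext (cm_Q1 (D1_le_Q1 hg) (D1_le_Q1 hx)) hz (by
    rw [cm_x1_Z3 (D1_le_Z3 hg) (D1_le_Z3 hx), ex, eg, star_one, mul_one, one_mul, hy])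
  exact e ▸ cm_mem_comm hx hg

theorem Z1_le_comm_Q1 : Z1 K ≤ ⁅Q1 K, Q1 K⁆ :=
  Z1_le_comm.trans (commutator_mono D1_le_Q1 D1_le_Q1)

theorem Z1_le_Q1 : Z1 K ≤ Q1 K := Z1_le_Z2.trans (Z2_le_D1.trans D1_le_Q1)

theorem Z2_le_Q1 : Z2 K ≤ Q1 K := Z2_le_D1.trans D1_le_Q1

theorem pi3_eq_iff {a b : U K} (ha : a ∈ Q1 K) (hb : b ∈ Q1 K) :
    pi3 a = pi3 b ↔ a⁻¹ * b ∈ Z1 K := by
  obtain ⟨a1, a2⟩ := mem_Q1.1 ha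
  obtain ⟨b1, b2⟩ := mem_Q1.1 hb
  simp only [pi3, Prod.mk.injEq, mem_Z1, U.mul_t, U.inv_t, U.mul_y1, U.inv_y1, U.mul_y2, U.inv_y2,
    U.mul_s, U.inv_s, U.mul_x2, U.inv_x2, a1, a2, b1, b2, star_zero]
  constructor
  · rintro ⟨h1, h2, h3⟩
    rw [h1, h2, h3]
    refine ⟨?_, ?_, ?_, ?_, ?_⟩ <;> ring
  · rintro ⟨h1, h2, -, h3, -⟩
    exact ⟨by linear_combination -h1, by linear_combination -h2, by linear_combination -h3⟩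

theorem pi3_mul {a b : U K} (hb : b ∈ Q1 K) : pi3 (a * b) = pi3 a + pi3 b := by
  obtain ⟨b1, b2⟩ := mem_Q1.1 hb
  simp [pi3, b1, b2]

theorem maps_Z1 (hf : PIso F f (Q1 K) (Q1 K)) {z : U K} (hz : z ∈ Z1 K) : f z ∈ Z1 K :=
  BG.maps_center (fun _ => mem_Z1_iff') Z1_le_Q1 hf hz

theorem fix_Z1 (hf : PIso F f (Q1 K) (Q1 K)) (e : ∀ g ∈ Q1 K, pi3 (f g) = pi3 g) {z : U K}
    (hz : z ∈ Z1 K) : f z = z :=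
  BG.fix_comm (fun _ hz g _ => comm_Z1 g hz) hf
    (fun g hg => (pi3_eq_iff hg (hf.maps hg)).1 (e g hg).symm) (Z1_le_comm_Q1 hz)

theorem maps_Z2 (hf : PIso F f (Q1 K) (Q1 K)) {φ : Perm (K × K × K)}
    (e : ∀ g ∈ Q1 K, pi3 (f g) = φ (pi3 g)) (h : P3 φ) {z : U K} (hz : z ∈ Z2 K) :
    f z ∈ Z2 K := by
  have h1 := e z (Z2_le_Q1 hz)
  have h2 : pi3 z = (0, 0, z.s) := by rw [pi3, (mem_Z2.1 hz).1, (mem_Z2.1 hz).2.1]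
  have h3 := h z.s
  rw [← h2, ← h1] at h3
  have h4 := mem_Q1.1 (hf.maps (Z2_le_Q1 hz))
  exact mem_Z2.2 ⟨h3.1, h3.2, h4.1, h4.2⟩

theorem maps_D1 (hf : PIso F f (Q1 K) (Q1 K)) (h : ∀ z ∈ Z2 K, f z ∈ Z2 K) {x : U K}
    (hx : x ∈ D1 K) : f x ∈ D1 K := by
  have hQ := D1_le_Q1 hx
  have h1 : f x ∈ Q2 K := mem_Q2_iff.2 fun z hz => by
    have h2 := BG.inv_maps h hz
    rw [← perm_apply_inv f z, ← hf.map_mul hQ (Z2_le_Q1 h2),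
      mem_Q2_iff.1 (Z3_le_Q2 (D1_le_Z3 hx)) _ h2, hf.map_mul (Z2_le_Q1 h2) hQ]
  have h4 := mem_Q1.1 (hf.maps hQ)
  exact mem_D1.2 ⟨h1, h4.1, h4.2⟩

theorem ext_of_Z2 (hF : F.IsSaturated p) (hf : PIso F f (Q1 K) (Q1 K))
    (h : ∀ z ∈ Z2 K, f z ∈ Z2 K) : Ext F (Q1 K) f :=
  BG.ext_gen (isP p) hF (fun _ hz g _ => comm_Z1 g hz) Z1_le_comm_Q1 Z2_le_D1 Z1_le_Z2
    (fun g x hx => by
      have h1 := mem_Z3.1 (cm_Z3 g x)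
      have h2 : x⁻¹ * (g * x * g⁻¹) ∈ Q1 K :=
        mul_mem (inv_mem hx) ((inferInstance : (Q1 K).Normal).conj_mem x hx g)
      exact mem_D1.2 ⟨h1.1, h1.2, (mem_Q1.1 h2).2⟩)
    (fun g _ hx => cm_Z3_Z2 g (D1_le_Z3 hx)) (fun g _ hx => cm_Z2_Z1 g hx) hf
    (fun _ hx => maps_D1 hf h hx) h fun _ hx => maps_Z1 hf hx

end B1

theorem exists_X3 (hf : PIso F f (Q1 K) (Q1 K)) :
    ∃ φ ∈ X3 F, ∀ g ∈ Q1 K, pi3 (f g) = φ (pi3 g) := by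
  obtain ⟨φ, e⟩ := BG.exists_perm pi3 exists_Q1 (fun _ ha _ hb => B1.pi3_eq_iff ha hb)
    (fun _ => mem_Z1_iff') B1.Z1_le_Q1 hf
  exact ⟨φ, ⟨f, hf, e⟩, e⟩

theorem ext1 (hF : F.IsSaturated p) (hf : PIso F f (Q1 K) (Q1 K)) {φ : Perm (K × K × K)}
    (e : ∀ g ∈ Q1 K, pi3 (f g) = φ (pi3 g)) (h : P3 φ) : Ext F (Q1 K) f :=
  B1.ext_of_Z2 hF hf fun _ hz => B1.maps_Z2 hf e h hz

theorem inn1 (hE : F.IsEssential p (Q1 K)) (hf : PIso F f (Q1 K) (Q1 K))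
    (e : ∀ g ∈ Q1 K, pi3 (f g) = pi3 g) : ∃ k ∈ Q1 K, ∀ g ∈ Q1 K, f g = k * g * k⁻¹ :=
  BG.inn_gen (isP p) hE (fun _ => mem_Z1_iff') B1.Z1_le_comm_Q1 B1.Z1_le_Q1 hf
    fun g hg => (B1.pi3_eq_iff hg (hf.maps hg)).1 (e g hg).symm

theorem bo3 (hF : F.IsSaturated p) (hs : Std F) : Bo3 (X3 F) := by
  rintro φ ⟨f, hf, e⟩ h
  obtain ⟨k, hk, ek⟩ := ext1 hF hf e h
  obtain ⟨w, a, b, σ, hσ, -, -, ew⟩ := hs k hk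
  refine ⟨-w.y2, star w.x2, a, b, σ, by rw [star_star, star_neg, w.h2]; ring, fun t z c => ?_⟩
  obtain ⟨g, hg, eg⟩ := exists_Q1 (t, z, c)
  have hm : gam a b σ hσ g ∈ Q1 K := mem_Q1.2 ⟨by simp [(mem_Q1.1 hg).1], by simp [(mem_Q1.1 hg).2]⟩
  rw [← eg, ← e g hg, ek g hg, ew, pi3_conj w hm]
  simp only [pi3, Prod.mk.injEq] at eg
  rw [pi3, gam_t, gam_y1, gam_s, eg.1, eg.2.1, eg.2.2]

end Cfsg.Lib.U5F
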