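import Cfsg.Agent.U5F.B1

/-! The automorphisms of `Q₂` in a fusion system over `U K`. -/

set_option autoImplicit false
set_option linter.unusedSectionVars false

namespace Cfsg.Lib.U5F

open Cfsg Cfsg.FusionSystem Subgroup Equiv Cfsg.Lib.Fus

universe u

variable {K : Type u} [Field K] [StarRing K] [Finite K] [UF K] {p : ℕ} [Fact p.Prime] [CharP K p]
  {F F' : FusionSystem (⊤ : Subgroup (U K))} {f : Perm (U K)}

namespace B2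

theorem A_le_Q2 : A K ≤ Q2 K := A_le_Z3.trans Z3_le_Q2

theorem A_le_comm : A K ≤ ⁅Q2 K, Q2 K⁆ := by
  intro z hz
  obtain ⟨z1, z2, z3⟩ := mem_A.1 hz
  have h1 : star z.x2 = -z.x2 := by rw [z.h2, z3]; simp
  obtain ⟨y, hy⟩ := exists_im h1
  obtain ⟨x, x1, x2, x3, -⟩ := exists_el 0 z.s y 0
  obtain ⟨g, g1, g2, g3, -⟩ := exists_el (K := K) 0 0 1 0
  have hc := cm_A (g := g) (x := x) g1 x1
  have hs := cm_s' g x
  have hx := cm_x2 g x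
  have hm : x⁻¹ * (g * x * g⁻¹) ∈ ⁅Q2 K, Q2 K⁆ := cm_mem_comm x1 g1
  rw [x1, x2, x3, g1, g2, g3, star_one] at hs
  rw [x3, g3, star_one, mul_one, one_mul, hy] at hx
  generalize x⁻¹ * (g * x * g⁻¹) = c at hc hs hx hm
  have hd : c⁻¹ * z ∈ Z1 K := by
    obtain ⟨a1, a2, a3⟩ := mem_A.1 hc
    refine mem_Z1.2 ⟨?_, ?_, ?_, ?_, ?_⟩ <;> simp [a1, a2, a3, z1, z2, z3, hs, hx]
  have h2 : Z1 K ≤ ⁅Q2 K, Q2 K⁆ := B1.Z1_le_comm.trans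
    (commutator_mono (D1_le_Z3.trans Z3_le_Q2) (D1_le_Z3.trans Z3_le_Q2))
  simpa using mul_mem hm (h2 hd)

theorem pi2_eq_iff {a b : U K} (ha : a ∈ Q2 K) (hb : b ∈ Q2 K) :
    pi2 a = pi2 b ↔ a⁻¹ * b ∈ A K := by
  have a1 := mem_Q2.1 ha
  have b1 := mem_Q2.1 hb
  simp only [pi2, Prod.mk.injEq, mem_A, U.mul_t, U.inv_t, U.mul_y1, U.inv_y1, U.mul_y2, U.inv_y2,
    a1, b1]
  constructor
  · rintro ⟨h1, h2⟩
    rw [h1, h2]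
    refine ⟨?_, ?_, ?_⟩ <;> ring
  · rintro ⟨-, h1, h2⟩
    exact ⟨by linear_combination -h1, by linear_combination -h2⟩

theorem pi2_mul {a b : U K} (ha : a ∈ Q2 K) : pi2 (a * b) = pi2 a + pi2 b := by
  simp [pi2, mem_Q2.1 ha]

theorem maps_A (hf : PIso F f (Q2 K) (Q2 K)) {z : U K} (hz : z ∈ A K) : f z ∈ A K :=
  BG.maps_center (fun _ => mem_A_iff) A_le_Q2 hf hz

theorem fix_A (hf : PIso F f (Q2 K) (Q2 K)) (e : ∀ g ∈ Q2 K, pi2 (f g) = pi2 g) {z : U K}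
    (hz : z ∈ A K) : f z = z :=
  BG.fix_comm (fun _ hz _ hg => comm_A hg hz) hf
    (fun g hg => (pi2_eq_iff hg (hf.maps hg)).1 (e g hg).symm) (A_le_comm hz)

theorem ext_of_Z3 (hF : F.IsSaturated p) (hf : PIso F f (Q2 K) (Q2 K))
    (h : ∀ z ∈ Z3 K, f z ∈ Z3 K) : Ext F (Q2 K) f :=
  BG.ext_gen (isP p) hF (fun _ hz _ hg => comm_A hg hz) A_le_comm A_le_Z3 le_rfl
    (fun g x _ => cm_Z3 g x) (fun g _ hx => Z2_le_A (cm_Z3_Z2 g hx))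
    (fun g _ hx => Z2_le_A (cm_Z3_Z2 g (A_le_Z3 hx))) hf h (fun _ hx => maps_A hf hx)
    fun _ hx => maps_A hf hx

end B2

theorem exists_X2 (hf : PIso F f (Q2 K) (Q2 K)) :
    ∃ φ ∈ X2 F, ∀ g ∈ Q2 K, pi2 (f g) = φ (pi2 g) := by
  obtain ⟨φ, e⟩ := BG.exists_perm pi2 exists_Q2 (fun _ ha _ hb => B2.pi2_eq_iff ha hb)
    (fun _ => mem_A_iff) B2.A_le_Q2 hf
  exact ⟨φ, ⟨f, hf, e⟩, e⟩

theorem ext2 (hF : F.IsSaturated p) (hf : PIso F f (Q2 K) (Q2 K)) {φ : Perm (K × K)}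
    (e : ∀ g ∈ Q2 K, pi2 (f g) = φ (pi2 g)) (h : P2 φ) : Ext F (Q2 K) f := by
  refine B2.ext_of_Z3 hF hf fun z hz => ?_
  have h1 := e z (Z3_le_Q2 hz)
  have h2 : pi2 z = (z.y1, 0) := by rw [pi2, (mem_Z3.1 hz).2]
  have h3 := h z.y1
  rw [← h2, ← h1] at h3
  exact mem_Z3.2 ⟨hf.maps (Z3_le_Q2 hz), h3⟩

theorem inn2 (hE : F.IsEssential p (Q2 K)) (hf : PIso F f (Q2 K) (Q2 K))
    (e : ∀ g ∈ Q2 K, pi2 (f g) = pi2 g) : ∃ k ∈ Q2 K, ∀ g ∈ Q2 K, f g = k * g * k⁻¹ :=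
  BG.inn_gen (isP p) hE (fun _ => mem_A_iff) B2.A_le_comm B2.A_le_Q2 hf
    fun g hg => (B2.pi2_eq_iff hg (hf.maps hg)).1 (e g hg).symm

end Cfsg.Lib.U5F
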