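import Cfsg.Agent.U5F.Gam

/-! Commutator formulas in `U K`. -/

set_option autoImplicit false
set_option linter.unusedSectionVars false
set_option linter.unnecessarySeqFocus false

namespace Cfsg.Lib.U5F

open Subgroup U

variable {K : Type*} [Field K] [StarRing K] {g x : U K}

instance : (Q1 K).Normal := ⟨fun x hx g => by constructor <;> simp [hx.1, hx.2] <;> ring⟩
instance : (Q2 K).Normal := ⟨fun x hx g => by
  have : x.t = 0 := hx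
  simp [mem_Q2, this]⟩
instance : (R K).Normal := ⟨fun x hx g => by
  have : x.y2 = 0 := hx
  simp [mem_R, this]⟩
instance : (Z3 K).Normal := ⟨fun x hx g => by constructor <;> simp [hx.1, hx.2]⟩
instance : (D1 K).Normal := ⟨fun x hx g => by
  refine ⟨?_, ?_, ?_⟩ <;> simp [hx.1, hx.2] <;> ring⟩
instance : (A K).Normal := ⟨fun x hx g => by refine ⟨?_, ?_, ?_⟩ <;> simp [hx.1, hx.2]⟩
instance : (Z2 K).Normal := ⟨fun x hx g => by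
  refine ⟨?_, ?_, ?_, ?_⟩ <;> simp [hx.1, hx.2] <;> ring⟩
instance : (Z1 K).Normal := ⟨fun x hx g => by
  refine ⟨?_, ?_, ?_, ?_, ?_⟩ <;> simp [hx.1, hx.2] <;> ring⟩

theorem Z1_le_Z2 : Z1 K ≤ Z2 K := fun _ h => ⟨h.1, h.2.1, h.2.2.1, h.2.2.2.2⟩
theorem Z2_le_A : Z2 K ≤ A K := fun _ h => ⟨h.1, h.2.1, h.2.2.1⟩
theorem Z2_le_D1 : Z2 K ≤ D1 K := fun _ h => ⟨h.1, h.2.2⟩
theorem A_le_Z3 : A K ≤ Z3 K := fun _ h => ⟨h.1, h.2.2⟩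
theorem D1_le_Z3 : D1 K ≤ Z3 K := fun _ h => ⟨h.1, h.2.1⟩
theorem D1_le_Q1 : D1 K ≤ Q1 K := fun _ h => h.2
theorem Z3_le_Q2 : Z3 K ≤ Q2 K := fun _ h => h.1
theorem Z3_le_R : Z3 K ≤ R K := fun _ h => h.2
theorem Q1_le_R : Q1 K ≤ R K := fun _ h => h.1

theorem cm_Z3 (g x : U K) : x⁻¹ * (g * x * g⁻¹) ∈ Z3 K := by constructor <;> simp

theorem cm_y1 (g x : U K) : (x⁻¹ * (g * x * g⁻¹)).y1 = g.t * x.y2 - x.t * g.y2 := by simp; ring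

theorem cm_x2 (g x : U K) :
    (x⁻¹ * (g * x * g⁻¹)).x2 = x.y2 * star g.y2 - g.y2 * star x.y2 := by simp; ring

theorem cm_s' (g x : U K) : (x⁻¹ * (g * x * g⁻¹)).s =
    g.t * x.x2 - g.y1 * star x.y2 - (x.t * g.x2 - x.y1 * star g.y2) +
      (g.t * x.y2 - x.t * g.y2) * star g.y2 - x.t * (x.y2 * star g.y2 - g.y2 * star x.y2) := by
  simp; ring

theorem cm_Z2 : x⁻¹ * (g * x * g⁻¹) ∈ Z2 K ↔
    g.t * x.y2 = x.t * g.y2 ∧ x.y2 * star g.y2 = g.y2 * star x.y2 := by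
  rw [mem_Z2, cm_y1, cm_x2, sub_eq_zero, sub_eq_zero]
  exact ⟨fun h => ⟨h.2.1, h.2.2.2⟩, fun h => ⟨(cm_Z3 g x).1, h.1, (cm_Z3 g x).2, h.2⟩⟩

theorem cm_s (h : x⁻¹ * (g * x * g⁻¹) ∈ Z2 K) : (x⁻¹ * (g * x * g⁻¹)).s =
    g.t * x.x2 - g.y1 * star x.y2 - (x.t * g.x2 - x.y1 * star g.y2) := by
  rw [cm_s', (cm_Z2.1 h).1, (cm_Z2.1 h).2]; ring

theorem cm_Z1 : x⁻¹ * (g * x * g⁻¹) ∈ Z1 K ↔
    g.t * x.y2 = x.t * g.y2 ∧ x.y2 * star g.y2 = g.y2 * star x.y2 ∧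
      g.t * x.x2 - g.y1 * star x.y2 = x.t * g.x2 - x.y1 * star g.y2 := by
  refine ⟨fun h => ?_, fun h => ?_⟩
  · have h2 := Z1_le_Z2 h
    exact ⟨(cm_Z2.1 h2).1, (cm_Z2.1 h2).2, sub_eq_zero.1 ((cm_s h2).symm.trans h.2.2.2.1)⟩
  · have h2 := cm_Z2.2 ⟨h.1, h.2.1⟩
    exact ⟨h2.1, h2.2.1, h2.2.2.1, (cm_s h2).trans (sub_eq_zero.2 h.2.2), h2.2.2.2⟩

theorem cm_x1_Z2 (hx : x ∈ Z2 K) :
    (x⁻¹ * (g * x * g⁻¹)).x1 = x.s * star g.t - g.t * star x.s := by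
  obtain ⟨h1, h2, h3, h4⟩ := hx
  simp [h1, h2, h3, h4, g.h2]; ring

theorem cm_x1_Z3 (hg : g ∈ Z3 K) (hx : x ∈ Z3 K) :
    (x⁻¹ * (g * x * g⁻¹)).x1 = x.y1 * star g.y1 - g.y1 * star x.y1 := by
  simp [hg.1, hg.2, hx.1, hx.2]; ring

theorem cm_eq_one : x⁻¹ * (g * x * g⁻¹) = 1 ↔ g * x = x * g := by
  rw [inv_mul_eq_one, eq_mul_inv_iff_mul_eq, eq_comm]

theorem comm_A_iff (hx : x ∈ A K) :
    g * x = x * g ↔ g.t * x.x2 = 0 ∧ x.s * star g.t = g.t * star x.s := by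
  obtain ⟨h1, h2, h3⟩ := hx
  simp only [U.ext_iff, mul_t, mul_y1, mul_y2, mul_x1, mul_s, mul_x2, h1, h2, h3, star_zero]
  constructor
  · rintro ⟨-, -, -, a, b, -⟩
    have : g.t * x.x2 = 0 := by linear_combination b
    exact ⟨this, by linear_combination a - star g.t * this⟩
  · rintro ⟨a, b⟩
    exact ⟨by ring, by ring, by ring, by linear_combination b + star g.t * a,
      by linear_combination a, by ring⟩

theorem comm_Z1 (g : U K) (hx : x ∈ Z1 K) : g * x = x * g :=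
  (comm_A_iff (Z2_le_A (Z1_le_Z2 hx))).2 (by simp [hx.2.2.2.1, hx.2.2.2.2])

theorem comm_A (hg : g ∈ Q2 K) (hx : x ∈ A K) : g * x = x * g :=
  (comm_A_iff hx).2 (by simp [mem_Q2.1 hg])

theorem comm_Z2 (hx : x ∈ Z2 K) : g * x = x * g ↔ x.s * star g.t = g.t * star x.s := by
  simp [comm_A_iff (Z2_le_A hx), hx.2.2.2]

theorem comm_Q2 (hg : g ∈ Q2 K) (hx : x ∈ Q2 K) : g * x = x * g ↔
    g.y1 * star x.y1 = x.y1 * star g.y1 ∧ g.y1 * star x.y2 = x.y1 * star g.y2 ∧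
      g.y2 * star x.y2 = x.y2 * star g.y2 := by
  have h1 : g.t = 0 := hg
  have h2 : x.t = 0 := hx
  simp only [U.ext_iff, mul_t, mul_y1, mul_y2, mul_x1, mul_s, mul_x2, h1, h2, star_zero]
  constructor
  · rintro ⟨-, -, -, a, b, c⟩
    exact ⟨by linear_combination -a, by linear_combination -b, by linear_combination -c⟩
  · rintro ⟨a, b, c⟩
    exact ⟨trivial, by ring, by ring, by linear_combination -a, by linear_combination -b,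
      by linear_combination -c⟩

theorem cm_A (hg : g ∈ Q2 K) (hx : x ∈ Q2 K) : x⁻¹ * (g * x * g⁻¹) ∈ A K :=
  ⟨(cm_Z3 g x).1, by rw [cm_y1, mem_Q2.1 hg, mem_Q2.1 hx]; ring, (cm_Z3 g x).2⟩

theorem cm_Q1 (hg : g ∈ Q1 K) (hx : x ∈ Q1 K) : x⁻¹ * (g * x * g⁻¹) ∈ Z1 K :=
  cm_Z1.2 (by simp [hg.1, hg.2, hx.1, hx.2])

theorem cm_Z3_Z2 (g : U K) (hx : x ∈ Z3 K) : x⁻¹ * (g * x * g⁻¹) ∈ Z2 K :=
  cm_Z2.2 (by simp [hx.1, hx.2])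

theorem cm_Z3_Z2' (hg : g ∈ Z3 K) (x : U K) : x⁻¹ * (g * x * g⁻¹) ∈ Z2 K :=
  cm_Z2.2 (by simp [hg.1, hg.2])

theorem cm_Z2_Z1 (g : U K) (hx : x ∈ Z2 K) : x⁻¹ * (g * x * g⁻¹) ∈ Z1 K :=
  cm_Z1.2 (by simp [hx.1, hx.2])

theorem cm_Z2_Z1' (hg : g ∈ Z2 K) (x : U K) : x⁻¹ * (g * x * g⁻¹) ∈ Z1 K :=
  cm_Z1.2 (by simp [hg.1, hg.2])

theorem Z1_ext (hg : g ∈ Z1 K) (hx : x ∈ Z1 K) (h : g.x1 = x.x1) : g = x :=
  U.ext (hg.1.trans hx.1.symm) (hg.2.1.trans hx.2.1.symm) (hg.2.2.1.trans hx.2.2.1.symm) h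
    (hg.2.2.2.1.trans hx.2.2.2.1.symm) (hg.2.2.2.2.trans hx.2.2.2.2.symm)

theorem eq_one_of_Z1 (hx : x ∈ Z1 K) (h : x.x1 = 0) : x = 1 := Z1_ext hx (one_mem _) h

theorem pow_coord {P : Subgroup (U K)} {f : U K → K}
    (h : ∀ a ∈ P, ∀ b ∈ P, f (a * b) = f a + f b) (hg : g ∈ P) (n : ℕ) : f (g ^ n) = n * f g := by
  induction n with
  | zero => simpa using h 1 (one_mem _) 1 (one_mem _)
  | succ n ih => rw [pow_succ, h _ (pow_mem hg n) _ hg, ih]; push_cast; ring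

theorem pow_zero_coord (p : ℕ) [CharP K p] {P : Subgroup (U K)} (f : U K → K)
    (h : ∀ a ∈ P, ∀ b ∈ P, f (a * b) = f a + f b) (hg : g ∈ P) : f (g ^ p) = 0 := by
  rw [pow_coord h hg, CharP.cast_eq_zero, zero_mul]

theorem pow_Z3 (p : ℕ) [CharP K p] (g : U K) : g ^ p ∈ Z3 K :=
  ⟨pow_zero_coord p (P := ⊤) U.t (fun _ _ _ _ => rfl) trivial,
    pow_zero_coord p (P := ⊤) U.y2 (fun _ _ _ _ => rfl) trivial⟩

theorem pow_A (p : ℕ) [CharP K p] (hg : g ∈ Q2 K) : g ^ p ∈ A K :=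
  ⟨(pow_Z3 p g).1, pow_zero_coord p U.y1 (fun _ ha _ _ => by simp [mem_Q2.1 ha]) hg, (pow_Z3 p g).2⟩

theorem pow_Z1 (p : ℕ) [CharP K p] (hg : g ∈ Q1 K) : g ^ p ∈ Z1 K :=
  ⟨(pow_Z3 p g).1, pow_zero_coord p U.y1 (fun _ _ _ hb => by simp [hb.1]) hg, (pow_Z3 p g).2,
    pow_zero_coord p U.s (fun _ _ _ hb => by simp [hb.1, hb.2]) hg, (pow_mem hg p).2⟩

theorem pow_Z1' (p : ℕ) [CharP K p] (hg : g ∈ Z3 K) : g ^ p ∈ Z1 K :=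
  ⟨(pow_Z3 p g).1, (pow_A p hg.1).2.1, (pow_Z3 p g).2,
    pow_zero_coord p U.s (fun _ ha _ hb => by simp [ha.1, hb.2]) hg,
    pow_zero_coord p U.x2 (fun _ ha _ _ => by simp [ha.2]) hg⟩

theorem pow_one' (p : ℕ) [CharP K p] (hg : g ∈ A K) : g ^ p = 1 :=
  eq_one_of_Z1 (pow_Z1' p (A_le_Z3 hg))
    (pow_zero_coord p U.x1 (fun _ ha _ _ => by simp [ha.1, ha.2.1]) hg)

theorem isP (p : ℕ) [CharP K p] : IsPGroup p (U K) := fun g => ⟨3, by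
  rw [pow_succ, pow_succ, pow_one, pow_mul, pow_mul]
  exact pow_one' p (Z2_le_A (Z1_le_Z2 (pow_Z1' p (pow_Z3 p g))))⟩

theorem isP_top (p : ℕ) [CharP K p] : IsPGroup p (⊤ : Subgroup (U K)) := (isP p).to_subgroup _

/-- The element of `A` with the given coordinates. -/
def aEl (c s d : K) (hc : star c = -c) (hd : star d = -d) : U K :=
  ⟨0, 0, 0, c, s, d, by simpa using hc, by simpa using hd⟩

theorem aEl_mem (c s d : K) (hc : star c = -c) (hd : star d = -d) : aEl c s d hc hd ∈ A K :=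
  ⟨rfl, rfl, rfl⟩

/-- The root element `x_a(t)` times an element of `Z₂`. -/
def tEl (t s : K) : U K := ⟨t, 0, 0, 0, s, 0, by simp, by simp⟩

theorem tEl_mem (t s : K) : tEl t s ∈ Q1 K := ⟨rfl, rfl⟩

end Cfsg.Lib.U5F
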