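import Cfsg.Agent.Class.FusHeis

/-! Fusion systems over a Sylow subgroup of `SU₅(q)` in the defining characteristic: definitions. -/

set_option autoImplicit false
set_option linter.unusedSectionVars false

namespace Cfsg.Lib.U5F

open Cfsg Cfsg.FusionSystem Subgroup Equiv Cfsg.Lib.Fus

/-! ### Local data at a subgroup `E` of a finite `p`-group -/

section Loc

variable {G : Type*} [Group G]

/-- Conjugation by `g` is trivial on `X / Y`. -/
def Tr (g : G) (X Y : Subgroup G) : Prop := ∀ x ∈ X, x⁻¹ * (g * x * g⁻¹) ∈ Y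

/-- `X` is invariant under `L`. -/
def Iv (L : Subgroup (Perm G)) (X : Subgroup G) : Prop := ∀ f ∈ L, ∀ x ∈ X, f x ∈ X

/-- `L` is trivial on `X / Y`. -/
def LTr (L : Subgroup (Perm G)) (X Y : Subgroup G) : Prop := ∀ f ∈ L, ∀ x ∈ X, x⁻¹ * f x ∈ Y

/-- `W / Y` is the module generated by `Z / Y`; failure of factorization. -/
structure Sec (p : ℕ) (E : Subgroup G) (L : Subgroup (Perm G)) (Y Z W : Subgroup G) : Prop where
  inv : Iv L W
  le : Z ≤ W
  le' : W ≤ E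
  min : ∀ W' : Subgroup G, Iv L W' → Z ≤ W' → W ≤ W'
  cen : ∀ g ∈ E, Tr g W Y
  faith : ∀ g ∈ normalizer (E : Set G), Tr g W Y → g ∈ E
  ff : ∀ B C : Subgroup G, B ≤ normalizer (E : Set G) → ¬ B ≤ E →
    (∀ a ∈ B, ∀ b ∈ B, b⁻¹ * (a * b * a⁻¹) ∈ E) → (∀ a ∈ B, a ^ p ∈ E) → Y ≤ C → C ≤ W →
    (∀ b ∈ B, Tr b C Y) → Nat.card W * Nat.card ↥(B ⊓ E) ≤ Nat.card B * Nat.card C →
    (∀ g ∈ normalizer (E : Set G), ∃ b ∈ B, ∃ e ∈ E, g = b * e) ∧
      Nat.card W * Nat.card ↥(B ⊓ E) = Nat.card B * Nat.card C ∧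
      ∀ w ∈ W, w ∉ C → ∀ b ∈ B,
        (∀ f ∈ L, (w⁻¹ * (b * w * b⁻¹))⁻¹ * f (w⁻¹ * (b * w * b⁻¹)) ∈ Y) → b ∈ E

/-- `L` acts on `E` like a minimal group of automorphisms with a strongly `p`-embedded subgroup
modulo the inner automorphisms and the Sylow subgroup induced by `N_G(E)`. -/
structure Loc (p : ℕ) (E : Subgroup G) (L : Subgroup (Perm G)) : Prop where
  ne : E ≠ ⊤
  maps : Iv L E
  hom : ∀ f ∈ L, ∀ x ∈ E, ∀ y ∈ E, f (x * y) = f x * f y
  conj : ∀ g ∈ normalizer (E : Set G), ∃ f ∈ L, ∀ x ∈ E, f x = g * x * g⁻¹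
  rad : ∀ g ∈ normalizer (E : Set G), ∀ X₁ X₂ X₃ : Subgroup G, Iv L X₁ → Iv L X₂ → Iv L X₃ →
    X₁ ≤ E → X₂ ≤ X₁ → X₃ ≤ X₂ → Tr g E X₁ → Tr g X₁ X₂ → Tr g X₂ X₃ → Tr g X₃ ⊥ → g ∈ E
  gen : ∀ X Y : Subgroup G, Iv L X → Iv L Y → X ≤ E → Y ≤ X →
    (∀ g ∈ normalizer (E : Set G), Tr g X Y) → LTr L X Y
  sec : ∀ Y Z : Subgroup G, Iv L Y → Y ≤ Z → Z ≤ E → (∀ g ∈ normalizer (E : Set G), Tr g Z Y) →
    (∀ z ∈ Z, z ^ p ∈ Y) → ¬ Iv L Z → ∃ W, Sec p E L Y Z W

/-- `M` is strongly `p`-embedded in `X` modulo the inner automorphisms of `E`. -/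
structure SEm (p : ℕ) (E : Subgroup G) (X M : Subgroup (MulAut E)) : Prop where
  syl : SylIn p (autInducedBy ⊤ E) X
  le : autInducedBy ⊤ E ≤ M
  not_le : ¬ X ≤ M
  mem : ∀ g ∈ X, ∀ t ∈ autInducedBy ⊤ E, t ∉ Inn E → g * t * g⁻¹ ∈ M → g ∈ M

/-- `L` is minimal among the overgroups of `Aut_G(E)` that are not contained in `M`. -/
structure MinL (p : ℕ) (E : Subgroup G) (L M : Subgroup (MulAut E)) : Prop
    extends SEm p E L M where
  min : ∀ H, autInducedBy ⊤ E ≤ H → H ≤ L → H ≤ M ∨ H = L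

end Loc

/-! ### The group -/

/-- The involution of `K` is nontrivial. -/
class UF (K : Type*) [Field K] [StarRing K] : Prop where
  nt : ∃ d : K, star d ≠ d

/-- The order of the fixed field. -/
noncomputable def qq (K : Type*) [Field K] [StarRing K] : ℕ := Nat.card {x : K // star x = x}

/-- The upper unitriangular elements of `SU₅` for the antidiagonal form. -/
@[ext] structure U (K : Type*) [Field K] [StarRing K] where
  t : K
  y1 : K
  y2 : K
  x1 : K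
  s : K
  x2 : K
  h1 : star x1 = -x1 - y1 * star y1
  h2 : star x2 = -x2 - y2 * star y2

variable {K : Type*} [Field K] [StarRing K]

namespace U

instance : One (U K) := ⟨⟨0, 0, 0, 0, 0, 0, by simp, by simp⟩⟩

instance : Mul (U K) := ⟨fun g h => ⟨g.t + h.t, g.y1 + h.y1 + g.t * h.y2, g.y2 + h.y2,
  g.x1 + h.x1 + h.s * star g.t - g.t * star h.s + g.t * star g.t * h.x2 - g.t * h.y2 * star h.y1 -
    g.y1 * (star h.y1 + star g.t * star h.y2),
  g.s + h.s + g.t * h.x2 - g.y1 * star h.y2, g.x2 + h.x2 - g.y2 * star h.y2,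
  by simp only [star_add, star_sub, star_mul', star_star, g.h1, h.h1, h.h2]; ring,
  by simp only [star_add, star_sub, star_mul', star_star, g.h2, h.h2]; ring⟩⟩

instance : Inv (U K) := ⟨fun g => ⟨-g.t, -g.y1 + g.t * g.y2, -g.y2,
  -g.x1 - g.y1 * star g.y1 + g.s * star g.t + g.y1 * star g.y2 * star g.t - g.t * star g.s -
    g.t * star g.t * (g.x2 + g.y2 * star g.y2),
  -g.s - g.y1 * star g.y2 + g.t * (g.x2 + g.y2 * star g.y2), -g.x2 - g.y2 * star g.y2,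
  by simp only [star_add, star_sub, star_neg, star_mul', star_star, g.h1, g.h2]; ring,
  by simp only [star_sub, star_neg, star_mul', star_star, g.h2]; ring⟩⟩

@[simp] theorem one_t : (1 : U K).t = 0 := rfl
@[simp] theorem one_y1 : (1 : U K).y1 = 0 := rfl
@[simp] theorem one_y2 : (1 : U K).y2 = 0 := rfl
@[simp] theorem one_x1 : (1 : U K).x1 = 0 := rfl
@[simp] theorem one_s : (1 : U K).s = 0 := rfl
@[simp] theorem one_x2 : (1 : U K).x2 = 0 := rfl

variable (g h : U K)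

@[simp] theorem mul_t : (g * h).t = g.t + h.t := rfl
@[simp] theorem mul_y1 : (g * h).y1 = g.y1 + h.y1 + g.t * h.y2 := rfl
@[simp] theorem mul_y2 : (g * h).y2 = g.y2 + h.y2 := rfl
@[simp] theorem mul_x1 : (g * h).x1 = g.x1 + h.x1 + h.s * star g.t - g.t * star h.s +
  g.t * star g.t * h.x2 - g.t * h.y2 * star h.y1 - g.y1 * (star h.y1 + star g.t * star h.y2) := rfl
@[simp] theorem mul_s : (g * h).s = g.s + h.s + g.t * h.x2 - g.y1 * star h.y2 := rfl
@[simp] theorem mul_x2 : (g * h).x2 = g.x2 + h.x2 - g.y2 * star h.y2 := rfl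
@[simp] theorem inv_t : g⁻¹.t = -g.t := rfl
@[simp] theorem inv_y1 : g⁻¹.y1 = -g.y1 + g.t * g.y2 := rfl
@[simp] theorem inv_y2 : g⁻¹.y2 = -g.y2 := rfl
@[simp] theorem inv_x1 : g⁻¹.x1 = -g.x1 - g.y1 * star g.y1 + g.s * star g.t +
  g.y1 * star g.y2 * star g.t - g.t * star g.s - g.t * star g.t * (g.x2 + g.y2 * star g.y2) := rfl
@[simp] theorem inv_s : g⁻¹.s = -g.s - g.y1 * star g.y2 + g.t * (g.x2 + g.y2 * star g.y2) := rfl
@[simp] theorem inv_x2 : g⁻¹.x2 = -g.x2 - g.y2 * star g.y2 := rfl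

instance : Group (U K) := Group.ofLeftAxioms
  (fun a b c => by
    ext <;> simp only [mul_t, mul_y1, mul_y2, mul_x1, mul_s, mul_x2, star_add, star_sub, star_mul',
      star_star, c.h2] <;> ring)
  (fun a => by ext <;> simp)
  (fun a => by
    ext <;> simp only [mul_t, mul_y1, mul_y2, mul_x1, mul_s, mul_x2, inv_t, inv_y1, inv_y2, inv_x1,
      inv_s, inv_x2, one_t, one_y1, one_y2, one_x1, one_s, one_x2, star_neg] <;> ring)

instance [Finite K] : Finite (U K) :=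
  Finite.of_injective (fun g : U K => (g.t, g.y1, g.y2, g.x1, g.s, g.x2)) fun a b e => by
    simp only [Prod.mk.injEq] at e
    exact U.ext e.1 e.2.1 e.2.2.1 e.2.2.2.1 e.2.2.2.2.1 e.2.2.2.2.2

end U

open U

/-- The subgroup cut out by the vanishing of coordinates. -/
def sub (K : Type*) [Field K] [StarRing K] (P : U K → Prop) (h1 : P 1)
    (hm : ∀ g h, P g → P h → P (g * h)) (hi : ∀ g, P g → P g⁻¹) : Subgroup (U K) where
  carrier := {g | P g}
  one_mem' := h1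
  mul_mem' := hm _ _
  inv_mem' := hi _

variable (K) in
/-- The unipotent radical of the stabiliser of an isotropic line of the geometry, order `q⁸`. -/
def Q2 : Subgroup (U K) := sub K (fun g => g.t = 0) rfl (fun g h a b => by simp [a, b])
  fun g a => by simp [a]

variable (K) in
/-- `Q₁ A`, order `q⁸`. -/
def R : Subgroup (U K) := sub K (fun g => g.y2 = 0) rfl (fun g h a b => by simp [a, b])
  fun g a => by simp [a]

variable (K) in
/-- The unipotent radical of the stabiliser of an isotropic point, order `q⁷`. -/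
def Q1 : Subgroup (U K) := sub K (fun g => g.y2 = 0 ∧ g.x2 = 0) ⟨rfl, rfl⟩
  (fun g h a b => by simp [a.1, a.2, b.1, b.2]) fun g a => by simp [a.1, a.2]

variable (K) in
/-- The commutator subgroup, order `q⁶`. -/
def Z3 : Subgroup (U K) := sub K (fun g => g.t = 0 ∧ g.y2 = 0) ⟨rfl, rfl⟩
  (fun g h a b => by simp [a.1, a.2, b.1, b.2]) fun g a => by simp [a.1, a.2]

variable (K) in
/-- `Q₁ ∩ Q₂`, order `q⁵`. -/
def D1 : Subgroup (U K) := sub K (fun g => g.t = 0 ∧ g.y2 = 0 ∧ g.x2 = 0) ⟨rfl, rfl, rfl⟩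
  (fun g h a b => by simp [a.1, a.2, b.1, b.2]) fun g a => by simp [a.1, a.2]

variable (K) in
/-- The centre of `Q₂`, order `q⁴`. -/
def A : Subgroup (U K) := sub K (fun g => g.t = 0 ∧ g.y1 = 0 ∧ g.y2 = 0) ⟨rfl, rfl, rfl⟩
  (fun g h a b => by simp [a.1, a.2, b.1, b.2]) fun g a => by simp [a.1, a.2]

variable (K) in
/-- The second centre, order `q³`. -/
def Z2 : Subgroup (U K) := sub K (fun g => g.t = 0 ∧ g.y1 = 0 ∧ g.y2 = 0 ∧ g.x2 = 0)
  ⟨rfl, rfl, rfl, rfl⟩ (fun g h a b => by simp [a.1, a.2, b.1, b.2]) fun g a => by simp [a.1, a.2]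

variable (K) in
/-- The centre, order `q`. -/
def Z1 : Subgroup (U K) := sub K (fun g => g.t = 0 ∧ g.y1 = 0 ∧ g.y2 = 0 ∧ g.s = 0 ∧ g.x2 = 0)
  ⟨rfl, rfl, rfl, rfl, rfl⟩ (fun g h a b => by simp [a.1, a.2, b.1, b.2])
  fun g a => by simp [a.1, a.2]

variable {g : U K}

theorem mem_Q2 : g ∈ Q2 K ↔ g.t = 0 := Iff.rfl
theorem mem_R : g ∈ R K ↔ g.y2 = 0 := Iff.rfl
theorem mem_Q1 : g ∈ Q1 K ↔ g.y2 = 0 ∧ g.x2 = 0 := Iff.rfl
theorem mem_Z3 : g ∈ Z3 K ↔ g.t = 0 ∧ g.y2 = 0 := Iff.rfl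
theorem mem_D1 : g ∈ D1 K ↔ g.t = 0 ∧ g.y2 = 0 ∧ g.x2 = 0 := Iff.rfl
theorem mem_A : g ∈ A K ↔ g.t = 0 ∧ g.y1 = 0 ∧ g.y2 = 0 := Iff.rfl
theorem mem_Z2 : g ∈ Z2 K ↔ g.t = 0 ∧ g.y1 = 0 ∧ g.y2 = 0 ∧ g.x2 = 0 := Iff.rfl
theorem mem_Z1 : g ∈ Z1 K ↔ g.t = 0 ∧ g.y1 = 0 ∧ g.y2 = 0 ∧ g.s = 0 ∧ g.x2 = 0 := Iff.rfl

/-! ### Diagonal and field automorphisms, Weyl elements -/

/-- A field automorphism commuting with the involution. -/
def SC (σ : K ≃+* K) : Prop := ∀ x, σ (star x) = star (σ x)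

/-- Conjugation by `diag (a, b, 1, b⁻*, a⁻*)` after the field automorphism `σ`. -/
def gam (a b : K) (σ : K ≃+* K) (hσ : SC σ) (g : U K) : U K :=
  ⟨a / b * σ g.t, a * σ g.y1, b * σ g.y2, a * star a * σ g.x1, a * star b * σ g.s,
    b * star b * σ g.x2,
    by rw [star_mul', star_mul', star_star, ← hσ, g.h1, star_mul', ← hσ]
       simp only [map_sub, map_neg, map_mul]; ring,
    by rw [star_mul', star_mul', star_star, ← hσ, g.h2, star_mul', ← hσ]
       simp only [map_sub, map_neg, map_mul]; ring⟩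

theorem sc_refl : SC (RingEquiv.refl K) := fun _ => rfl

/-- The diagonal automorphisms. -/
abbrev dia (a b : K) : U K → U K := gam a b (RingEquiv.refl K) sc_refl

/-- The Weyl element acting on `Q₁`. -/
def nu1 : Perm (U K) := Function.Involutive.toPerm
  (fun g => ⟨g.s, -g.y1, g.y2, g.x1 - g.s * star g.t + g.t * star g.s, g.t, g.x2,
    by simp only [star_add, star_sub, star_neg, star_mul', star_star, g.h1]; ring, g.h2⟩)
  fun g => by ext <;> simp

/-- The Weyl element acting on `Q₂`. -/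
def nu2 : Perm (U K) where
  toFun g := ⟨g.t, g.y2, -g.y1, g.x2, star g.s + g.y2 * star g.y1, g.x1, g.h2,
    by rw [star_neg, g.h1]; ring⟩
  invFun g := ⟨g.t, -g.y2, g.y1, g.x2, star g.s + g.y2 * star g.y1, g.x1,
    by rw [star_neg, g.h2]; ring, g.h1⟩
  left_inv g := by ext <;> simp [mul_comm]
  right_inv g := by ext <;> simp [mul_comm]

theorem nu1_apply (g : U K) : (nu1 g).t = g.s ∧ (nu1 g).y1 = -g.y1 ∧ (nu1 g).y2 = g.y2 ∧
    (nu1 g).x1 = g.x1 - g.s * star g.t + g.t * star g.s ∧ (nu1 g).s = g.t ∧ (nu1 g).x2 = g.x2 :=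
  ⟨rfl, rfl, rfl, rfl, rfl, rfl⟩

theorem nu2_apply (g : U K) : (nu2 g).t = g.t ∧ (nu2 g).y1 = g.y2 ∧ (nu2 g).y2 = -g.y1 ∧
    (nu2 g).x1 = g.x2 ∧ (nu2 g).s = star g.s + g.y2 * star g.y1 ∧ (nu2 g).x2 = g.x1 :=
  ⟨rfl, rfl, rfl, rfl, rfl, rfl⟩

/-! ### The sections `Q₂ / A = K²` and `Q₁ / Z₁ = K³` -/

/-- The root elements on `K²`. -/
def u2 (t : K) : Perm (K × K) where
  toFun v := (v.1 + t * v.2, v.2)
  invFun v := (v.1 - t * v.2, v.2)
  left_inv v := by simp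
  right_inv v := by simp

/-- The Weyl element on `K²`. -/
def n2 : Perm (K × K) where
  toFun v := (v.2, -v.1)
  invFun v := (-v.2, v.1)
  left_inv v := by simp
  right_inv v := by simp

/-- The root elements on `K³` (admissible when `star x = -x - y * star y`). -/
def u3 (y x : K) : Perm (K × K × K) where
  toFun v := (v.1, v.2.1 + y * v.1, v.2.2 - star y * v.2.1 + x * v.1)
  invFun v := (v.1, v.2.1 - y * v.1, v.2.2 + star y * v.2.1 - (x + y * star y) * v.1)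
  left_inv v := by ext <;> simp only <;> ring
  right_inv v := by ext <;> simp only <;> ring

/-- The Weyl element on `K³`. -/
def n3 : Perm (K × K × K) := Function.Involutive.toPerm (fun v => (v.2.2, -v.2.1, v.1))
  fun v => by simp

/-- The change of coordinates on `K³`. -/
def sg (l l' m m' : K) : Perm (K × K × K) where
  toFun v := (v.1, v.2.1 + l * v.1 + l' * star v.1,
    v.2.2 + m * v.1 + m' * star v.1 - star l * v.2.1 + l' * star v.2.1)
  invFun v := (v.1, v.2.1 - l * v.1 - l' * star v.1, v.2.2 - m * v.1 - m' * star v.1 +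
    star l * (v.2.1 - l * v.1 - l' * star v.1) - l' * star (v.2.1 - l * v.1 - l' * star v.1))
  left_inv v := by
    have : v.2.1 + l * v.1 + l' * star v.1 - l * v.1 - l' * star v.1 = v.2.1 := by ring
    ext <;> simp only [this] <;> ring
  right_inv v := by ext <;> simp only <;> ring

theorem sg_apply (l l' m m' a b c : K) : sg l l' m m' (a, b, c) =
    (a, b + l * a + l' * star a, c + m * a + m' * star a - star l * b + l' * star b) := rfl

theorem u2_apply (t a b : K) : u2 t (a, b) = (a + t * b, b) := rfl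
theorem n2_apply (a b : K) : n2 (a, b) = (b, -a) := rfl
theorem u3_apply (y x a b c : K) :
    u3 y x (a, b, c) = (a, b + y * a, c - star y * b + x * a) := rfl
theorem n3_apply (a b c : K) : n3 (a, b, c) = (c, -b, a) := rfl

/-- The hermitian form on `K³`. -/
def hf (v w : K × K × K) : K := v.1 * star w.2.2 + v.2.1 * star w.2.1 + v.2.2 * star w.1

/-- `g` preserves the line `K × 0`. -/
def P2 (g : Perm (K × K)) : Prop := ∀ a, (g (a, 0)).2 = 0

/-- `g` preserves the line `0 × 0 × K`. -/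
def P3 (g : Perm (K × K × K)) : Prop := ∀ c, (g (0, 0, c)).1 = 0 ∧ (g (0, 0, c)).2.1 = 0

/-- The hypotheses on the group induced on `Q₂ / A`. -/
structure Hy2 (X : Subgroup (Perm (K × K))) : Prop where
  add : ∀ g ∈ X, ∀ v w, g (v + w) = g v + g w
  u : ∀ t, u2 t ∈ X
  line : ∀ g ∈ X, ∃ v : K × K, ∀ a, ∃ c : K, g (a, 0) = c • v
  mv : ∃ g ∈ X, ¬ P2 g

/-- The hypotheses on the group induced on `Q₁ / Z₁`. -/
structure Hy3 (X : Subgroup (Perm (K × K × K))) : Prop where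
  add : ∀ g ∈ X, ∀ v w, g (v + w) = g v + g w
  u : ∀ y x, star x = -x - y * star y → u3 y x ∈ X
  comm : ∀ g ∈ X, ∀ v w, hf v w = hf w v → hf (g v) (g w) = hf (g w) (g v)
  ti : ∀ g ∈ X, P3 g ∨ ∀ c, c ≠ 0 → (g (0, 0, c)).1 ≠ 0
  mv : ∃ g ∈ X, ¬ P3 g

/-- The images of the line `0 × 0 × K` are the isotropic points. -/
structure Iso3 (X : Subgroup (Perm (K × K × K))) : Prop extends Hy3 X where
  f : ∃ g ∈ X, ∀ c, (g (0, 0, c)).2 = 0
  orb : ∀ g ∈ X, P3 g ∨ ∃ y x, star x = -x - y * star y ∧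
    ∀ c, g (0, 0, c) = u3 y x ((g (0, 0, c)).1, 0, 0)

/-- The stabiliser of the line `0 × 0 × K` consists of standard elements. -/
def Bo3 (X : Subgroup (Perm (K × K × K))) : Prop :=
  ∀ g ∈ X, P3 g → ∃ (y x a b : K) (σ : K ≃+* K), star x = -x - y * star y ∧
    ∀ t z c, g (t, z, c) = u3 y x (a / b * σ t, a * σ z, a * star b * σ c)

/-- The coordinates of `Q₂ / A`. -/
def pi2 (g : U K) : K × K := (g.y1, g.y2)

/-- The coordinates of `Q₁ / Z₁`. -/
def pi3 (g : U K) : K × K × K := (g.t, g.y1, g.s)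

/-! ### Fusion systems over `U K` -/

variable (F : FusionSystem (⊤ : Subgroup (U K)))

/-- The group induced by `Aut_F(Q₂)` on `Q₂ / A`. -/
def X2 : Subgroup (Perm (K × K)) where
  carrier := {φ | ∃ f, PIso F f (Q2 K) (Q2 K) ∧ ∀ g ∈ Q2 K, pi2 (f g) = φ (pi2 g)}
  one_mem' := ⟨1, PIso.refl F le_top, fun _ _ => rfl⟩
  mul_mem' := by
    rintro φ ψ ⟨f, hf, e⟩ ⟨k, hk, e'⟩
    exact ⟨f * k, hk.trans hf, fun g hg => by
      rw [Perm.mul_apply, e _ (hk.maps hg), e' g hg, Perm.mul_apply]⟩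
  inv_mem' := by
    rintro φ ⟨f, hf, e⟩
    exact ⟨f⁻¹, hf.symm, fun g hg => by
      rw [Perm.eq_inv_iff_eq, ← e _ (hf.inv_maps hg), perm_apply_inv]⟩

/-- The group induced by `Aut_F(Q₁)` on `Q₁ / Z₁`. -/
def X3 : Subgroup (Perm (K × K × K)) where
  carrier := {φ | ∃ f, PIso F f (Q1 K) (Q1 K) ∧ ∀ g ∈ Q1 K, pi3 (f g) = φ (pi3 g)}
  one_mem' := ⟨1, PIso.refl F le_top, fun _ _ => rfl⟩
  mul_mem' := by
    rintro φ ψ ⟨f, hf, e⟩ ⟨k, hk, e'⟩
    exact ⟨f * k, hk.trans hf, fun g hg => by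
      rw [Perm.mul_apply, e _ (hk.maps hg), e' g hg, Perm.mul_apply]⟩
  inv_mem' := by
    rintro φ ⟨f, hf, e⟩
    exact ⟨f⁻¹, hf.symm, fun g hg => by
      rw [Perm.eq_inv_iff_eq, ← e _ (hf.inv_maps hg), perm_apply_inv]⟩

/-- `Aut_F(U)` consists of products of inner, diagonal and field automorphisms. -/
def Std : Prop := ∀ f, PIso F f ⊤ ⊤ → ∃ (k : U K) (a b : K) (σ : K ≃+* K) (hσ : SC σ),
  a ≠ 0 ∧ b ≠ 0 ∧ ∀ g, f g = k * gam a b σ hσ g * k⁻¹

/-- `Aut_F(U)` contains the torus of the Levi factor `SL₂(q²)`. -/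
def Tor2 : Prop := ∀ m : K, m ≠ 0 → Mor F ⊤ (dia m m⁻¹)

/-- `Aut_F(U)` contains the torus of the Levi factor `SU₃(q)`. -/
def Tor1 : Prop := ∀ m : K, m ≠ 0 → Mor F ⊤ (dia (m / star m) (m ^ 2 / star m))

/-- `F` contains the Weyl elements. -/
def Wey : Prop := PIso F nu1 (Q1 K) (Q1 K) ∧ PIso F nu2 (Q2 K) (Q2 K)

/-- `f` agrees on `Q` with an element of `Aut_F(U)`. -/
def Ext (Q : Subgroup (U K)) (f : Perm (U K)) : Prop := ∃ k, PIso F k ⊤ ⊤ ∧ ∀ g ∈ Q, f g = k g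

end Cfsg.Lib.U5F
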