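import Cfsg.Agent.U5F.Defs
import Cfsg.Agent.Trans.MPLData

/-! Failure of factorization for groups with a strongly `p`-embedded subgroup, module form. -/

set_option autoImplicit false
set_option linter.unusedSectionVars false

namespace Cfsg.Lib.U5F

open Cfsg Cfsg.FusionSystem Subgroup Equiv Cfsg.Lib.Fus

namespace FF

open Cfsg.Lib.Solv Cfsg.Lib.Trans Cfsg.Lib.Trans.MP Cfsg.Lib.Trans.TJ SemidirectProduct Matrix

theorem card_map {A B : Type*} [Group A] [Group B] (f : A →* B) (K : Subgroup A) :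
    Nat.card K = Nat.card (K.map f) * Nat.card ↥(K ⊓ f.ker) := by
  rw [← (f.comp K.subtype).ker.card_mul_index, index_ker, MonoidHom.range_comp, range_subtype,
    mul_comm, show (f.comp K.subtype).ker = (K ⊓ f.ker).subgroupOf K from
      Subgroup.ext fun x => ⟨fun e => ⟨x.2, e⟩, fun e => e.2⟩,
    Nat.card_congr (subgroupOfEquivOfLe inf_le_left).toEquiv]

theorem card_fix {F : Type*} [Field F] [Fintype F] {a : SpecialLinearGroup (Fin 2) F} (ha : a ≠ 1) :
    Nat.card {y : Fin 2 → F // a.1 *ᵥ y = y} ≤ Fintype.card F := by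
  let W := LinearMap.ker (toLin' a.1 - LinearMap.id)
  have hW : ∀ y, y ∈ W ↔ a.1 *ᵥ y = y := fun y => by
    rw [LinearMap.mem_ker, LinearMap.sub_apply, sub_eq_zero, toLin'_apply, LinearMap.id_apply]
  have h1 : W ≠ ⊤ := fun e => ha (Subtype.ext (toLin'.injective (LinearMap.ext fun y => by
    simpa using (hW y).1 (e.ge trivial))))
  have h2 := Submodule.finrank_lt h1
  rw [Module.finrank_fin_fun] at h2
  rw [← Nat.card_congr (Equiv.subtypeEquivRight hW), Module.natCard_eq_pow_finrank (K := F),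
    Nat.card_eq_fintype_card]
  exact (Nat.pow_le_pow_right Fintype.card_pos (Nat.lt_succ_iff.1 h2)).trans (pow_one _).le

theorem exists_model {p : ℕ} [Fact p.Prime] {V : Type*} [Group V] [Finite V]
    (hc : ∀ a b : V, a * b = b * a)
    (hp : ∀ a : V, a ^ p = 1) {H T M B : Subgroup (MulAut V)} (hT : SylIn p T H) (hTM : T ≤ M)
    (hM : ¬ H ≤ M) (hse : ∀ g ∈ H, ∀ t ∈ T, t ≠ 1 → g * t * g⁻¹ ∈ M → g ∈ M)
    (hgen : ∀ N, T ≤ N → N ≤ H → (∀ h ∈ H, ∀ n ∈ N, h * n * h⁻¹ ∈ N) → N = H)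
    (hB : B ≤ T) (hB1 : B ≠ ⊥) (hBc : ∀ a ∈ B, ∀ b ∈ B, a * b = b * a) (hBp : ∀ a ∈ B, a ^ p = 1)
    {C : Subgroup V} (hC : ∀ b ∈ B, ∀ c ∈ C, b c = c)
    (hle : Nat.card V ≤ Nat.card B * Nat.card C) :
    ∃ (F : Type) (_ : Field F) (_ : Fintype F) (θ : H →* SpecialLinearGroup (Fin 2) F)
      (χ : V →* Multiplicative (Fin 2 → F)), Function.Bijective θ ∧ Function.Surjective χ ∧
      (∀ v, χ v = 1 ↔ ∀ h ∈ H, h v = v) ∧
        ∀ (h : H) v, (χ (h.1 v)).toAdd = (θ h).1 *ᵥ (χ v).toAdd := by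
  have := Ess.finite_mulAut' (E := V)
  let G := V ⋊[MonoidHom.id (MulAut V)] MulAut V
  have : Finite G := Finite.of_equiv _ SemidirectProduct.equivProd.symm
  let i : V →* G := inl
  let j : MulAut V →* G := inr
  have ij : ∀ h v, j h * i v * (j h)⁻¹ = i (h v) := fun h v => by
    rw [← map_inv]; exact (inl_aut h v).symm
  have cm : ∀ h v, i v * j h = j h * i v ↔ h v = v := fun h v => by
    rw [eq_comm, ← mul_inv_eq_iff_eq_mul, ij]; exact inl_injective.eq_iff
  have hj : ∀ {K : Subgroup (MulAut V)} {h}, j h ∈ K.map j ↔ h ∈ K := mem_map_iff_mem inr_injective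
  have se : SEIn p (M.map j) (H.map j) := by
    refine ⟨fun e => hM fun h hh => hj.1 (e (hj.2 hh)), ?_, T.map j, ?_, map_mono hTM⟩
    · rintro _ ⟨x, hx, rfl⟩ xH x1 xp _ ⟨g, hg, rfl⟩ e
      rw [← map_inv, ← map_mul, ← map_mul, hj] at e
      rw [hj] at xH ⊢
      rw [← map_pow, ← map_one j, inr_injective.eq_iff] at xp
      obtain ⟨m, hm, k⟩ := (hT.mono (le_inf hTM hT.le) inf_le_right).exists_conj
        (zpowers_le.2 ⟨hx, xH⟩) (isPGroup_zpowers_of_pow (p := p) (j := 1) (by rwa [pow_one]))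
      have := hse (g * m⁻¹) (mul_mem hg (H.inv_mem hm.2)) _ (k x (mem_zpowers x))
        (fun k => x1 (by rw [conj_eq_one_iff.1 k, map_one])) (by simpa [mul_assoc] using e)
      exact (mul_mem_cancel_right (M.inv_mem hm.1)).1 this
    · have h := hT.map j
      exact ⟨h.le, h.pgroup, h.not_dvd_relIndex⟩
  have gen : pElementClosure p (H.map j) = H.map j := by
    have le : pElementClosure p (H.map j) ≤ H.map j := (closure_le _).2 fun x hx => hx.1
    refine le_antisymm le (map_le_iff_le_comap.2 (hgen (comap j (pElementClosure p (H.map j)))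
      (fun t ht => Subgroup.subset_closure ⟨hj.2 (hT.le ht), ?_⟩) (fun h hh => hj.1 (le hh))
      fun h hh n hn => ?_).ge)
    · obtain ⟨k, hk⟩ := (IsPGroup.iff_orderOf.1 hT.pgroup) ⟨t, ht⟩
      exact ⟨k, by rw [orderOf_injective j inr_injective, ← hk, orderOf_mk]⟩
    · rw [mem_comap, map_mul, map_mul, map_inv] at *
      generalize j n = x at hn
      induction hn using closure_induction with
      | mem x hx =>
        obtain ⟨k, hk⟩ := hx.2
        exact subset_closure ⟨mul_mem (mul_mem (hj.2 hh) hx.1) (inv_mem (hj.2 hh)), k, by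
          rw [← hk]; exact (MulAut.conj (j h)).orderOf_eq x⟩
      | one => simp
      | mul x y _ _ h1 h2 => simpa [mul_assoc] using mul_mem h1 h2
      | inv x _ h1 => rw [← conj_inv]; exact inv_mem h1
  have c1 : Nat.card i.range = Nat.card V := (Nat.card_congr (MonoidHom.ofInjective
    inl_injective).toEquiv).symm
  obtain ⟨A, Y, h5, h6⟩ := se.exists_pair (V := i.range) (B := B.map j)
    (ea_iff.2 ⟨by rintro _ ⟨a, rfl⟩ _ ⟨b, rfl⟩; rw [← map_mul, hc, map_mul],
      by rintro _ ⟨a, rfl⟩; rw [← map_pow, hp, map_one]⟩)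
    (by
      rintro _ ⟨h, -, rfl⟩
      refine mem_normalizer_of_finite ?_
      rintro _ ⟨v, rfl⟩
      exact ⟨_, (ij h v).symm⟩)
    (eq_bot_iff.2 (by
      rintro _ ⟨⟨h, -, rfl⟩, k⟩
      rw [show h = 1 from MulEquiv.ext fun v => (cm h v).1 (k _ ⟨v, rfl⟩), map_one]
      exact one_mem _))
    gen (map_mono (hB.trans hT.le))
    (ea_iff.2 ⟨by rintro _ ⟨a, ha, rfl⟩ _ ⟨b, hb, rfl⟩; rw [← map_mul, hBc a ha b hb, map_mul],
      by rintro _ ⟨a, ha, rfl⟩; rw [← map_pow, hBp a ha, map_one]⟩)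
    (fun e => hB1 ((map_eq_bot_iff_of_injective _ inr_injective).1 e))
    (by
      rw [c1, card_map_of_injective inr_injective]
      refine hle.trans (Nat.mul_le_mul_left _ ?_)
      rw [← card_map_of_injective (f := i) inl_injective]
      refine card_le_card_of_le ?_
      rintro _ ⟨c, hc, rfl⟩
      refine ⟨⟨c, rfl⟩, ?_⟩
      rintro _ ⟨b, hb, rfl⟩
      exact ((cm b c).2 (hC b hb c hc)).symm)
  obtain ⟨F, _, _, -, ⟨e⟩, θ, ψ, h8⟩ := h5.exists_sl2
  rw [h6] at e h8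
  let a := equivMapOfInjective H j inr_injective
  refine ⟨F, inferInstance, inferInstance, h8.hom.comp a.toMonoidHom,
    h8.homV.comp i.rangeRestrict, ?_, fun y => ?_, fun v => ?_, fun h v => ?_⟩
  · have : Finite (SpecialLinearGroup (Fin 2) F) := Finite.of_equiv _ e.toEquiv
    exact (Nat.bijective_iff_surjective_and_card _).2 ⟨h8.hom_surjective.comp a.surjective,
      Nat.card_congr (a.trans e).toEquiv⟩
  · obtain ⟨_, ⟨v, rfl⟩, k⟩ := h8.surj y.toAdd
    exact ⟨v, congrArg Multiplicative.ofAdd k⟩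
  · refine (h8.ker _ ⟨v, rfl⟩).trans ⟨fun k h hh => (cm h v).1 (k.2 _ (hj.2 hh)).symm,
      fun k => ⟨⟨v, rfl⟩, ?_⟩⟩
    rintro _ ⟨h, hh, rfl⟩
    exact ((cm h v).2 (k h hh)).symm
  · have := h8.act _ (hj.2 h.2) _ ⟨v, rfl⟩
    rw [ij] at this
    exact this

end FF

open FF Matrix

theorem ffMod {p : ℕ} [Fact p.Prime] {V : Type*} [Group V] [Finite V] (hc : ∀ a b : V, a * b = b * a)
    (hp : ∀ a : V, a ^ p = 1) {H T M B : Subgroup (MulAut V)} (hT : SylIn p T H) (hTM : T ≤ M)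
    (hM : ¬ H ≤ M) (hse : ∀ g ∈ H, ∀ t ∈ T, t ≠ 1 → g * t * g⁻¹ ∈ M → g ∈ M)
    (hgen : ∀ N, T ≤ N → N ≤ H → (∀ h ∈ H, ∀ n ∈ N, h * n * h⁻¹ ∈ N) → N = H)
    (hB : B ≤ T) (hB1 : B ≠ ⊥) (hBc : ∀ a ∈ B, ∀ b ∈ B, a * b = b * a) (hBp : ∀ a ∈ B, a ^ p = 1)
    {C : Subgroup V} (hC : ∀ b ∈ B, ∀ c ∈ C, b c = c)
    (hle : Nat.card V ≤ Nat.card B * Nat.card C) :
    B = T ∧ Nat.card V = Nat.card B * Nat.card C ∧
      ∀ v, v ∉ C → ∀ b ∈ B, (∀ h ∈ H, h (v⁻¹ * b v) = v⁻¹ * b v) → b = 1 := by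
  obtain ⟨F, _, _, θ, χ, h1, h2, h3, h4⟩ := exists_model hc hp hT hTM hM hse hgen hB hB1 hBc hBp hC hle
  have := Ess.finite_mulAut' (E := V)
  have BH := hB.trans hT.le
  have cV := card_map χ ⊤
  rw [card_top, map_top_of_surjective _ h2, card_top, top_inf_eq, Nat.card_congr
    Multiplicative.toAdd, Nat.card_fun, Nat.card_fin, Nat.card_eq_fintype_card (α := F)] at cV
  have pF : p ∣ Fintype.card F := by
    obtain ⟨v, hv⟩ := h2 (Multiplicative.ofAdd 1)
    have := congrFun (congrArg Multiplicative.toAdd (map_pow χ v p)) 0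
    rw [hp, map_one, hv] at this
    have : CharP F p := (CharP.charP_iff_prime_eq_zero Fact.out).2 (by simpa using this.symm)
    obtain ⟨n, -, hn⟩ := FiniteField.card F p
    exact hn ▸ dvd_pow_self p n.ne_zero
  have cT : Nat.card T ≤ Fintype.card F := by
    obtain ⟨k, hk⟩ := IsPGroup.iff_card.1 hT.pgroup
    have := card_dvd_of_le hT.le
    rw [Nat.card_eq_of_bijective θ h1, Class.card_SL_fin_two rfl, hk] at this
    refine hk ▸ Nat.le_of_dvd Fintype.card_pos (Nat.Coprime.dvd_of_dvd_mul_right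
      (Nat.Coprime.pow_left k ((Nat.Prime.coprime_iff_not_dvd Fact.out).2 fun d => ?_)) this)
    have := (Nat.dvd_sub_iff_right (Nat.one_le_pow 2 _ Fintype.card_pos)
      (pF.trans (dvd_pow_self _ two_ne_zero))).1 d
    exact (Fact.out : p.Prime).one_lt.ne' (Nat.dvd_one.1 this)
  have key : ∀ b ∈ B, b ≠ 1 → ∀ D : Subgroup V, (∀ v ∈ D, χ (b v) = χ v) →
      Nat.card D ≤ Fintype.card F * Nat.card χ.ker := fun b hb b1 D hD => by
    rw [card_map χ D]
    refine Nat.mul_le_mul (le_trans ?_ (card_fix (a := θ ⟨b, BH hb⟩) fun e =>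
      b1 (congrArg Subtype.val (h1.1 (e.trans (map_one θ).symm))))) (card_le_card_of_le inf_le_right)
    refine Nat.card_le_card_of_injective (fun y => ⟨y.1.toAdd, ?_⟩) fun x y e =>
      Subtype.ext (Subtype.mk.inj e)
    obtain ⟨_, v, hv, rfl⟩ := y
    rw [← h4, hD v hv]
  obtain ⟨⟨b, hb⟩, b1⟩ := ne_bot_iff_exists_ne_one.1 hB1
  have k1 := key b hb (fun e => b1 (Subtype.ext e)) C fun v hv => by rw [hC b hb v hv]
  have k2 := card_le_card_of_le hB
  have p1 : 0 < Fintype.card F := Fintype.card_pos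
  have p2 : 0 < Nat.card χ.ker := Nat.card_pos
  have k3 : Fintype.card F ≤ Nat.card B := Nat.le_of_mul_le_mul_right
    (by have := hle.trans (Nat.mul_le_mul_left _ k1); rwa [cV, pow_two, mul_assoc] at this)
    (mul_pos p1 p2)
  have k4 : Nat.card B = Fintype.card F := by omega
  have k5 : Fintype.card F * Nat.card χ.ker ≤ Nat.card C := Nat.le_of_mul_le_mul_left
    (by rwa [cV, k4, pow_two, mul_assoc] at hle) p1
  refine ⟨eq_of_le_of_card_le hB (by omega), by rw [cV, k4, le_antisymm k1 k5]; ring,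
    fun v hv a ha e => by_contra fun a1 => hv ?_⟩
  let D := (χ.comp a.toMonoidHom).eqLocus χ
  have CD : C ≤ D := fun c hc => congrArg χ (hC a ha c hc)
  rw [eq_of_le_of_card_le CD ((key a ha a1 D fun _ h => h).trans k5)]
  have := (h3 _).2 e
  rw [map_mul, map_inv, inv_mul_eq_one] at this
  exact this.symm

end Cfsg.Lib.U5F
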