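import Cfsg.Agent.U5F.Defs

/-! The diagonal, field and Weyl automorphisms; the matrix model. -/

set_option autoImplicit false
set_option linter.unusedSectionVars false

namespace Cfsg.Lib.U5F

open Subgroup Equiv U Matrix

variable {K : Type*} [Field K] [StarRing K] {a b a' b' : K} {σ σ' : K ≃+* K}

section

variable (hσ : SC σ) (g h : U K)

@[simp] theorem gam_t : (gam a b σ hσ g).t = a / b * σ g.t := rfl
@[simp] theorem gam_y1 : (gam a b σ hσ g).y1 = a * σ g.y1 := rfl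
@[simp] theorem gam_y2 : (gam a b σ hσ g).y2 = b * σ g.y2 := rfl
@[simp] theorem gam_x1 : (gam a b σ hσ g).x1 = a * star a * σ g.x1 := rfl
@[simp] theorem gam_s : (gam a b σ hσ g).s = a * star b * σ g.s := rfl
@[simp] theorem gam_x2 : (gam a b σ hσ g).x2 = b * star b * σ g.x2 := rfl

theorem gam_mul (hb : b ≠ 0) : gam a b σ hσ (g * h) = gam a b σ hσ g * gam a b σ hσ h := by
  have : star b ≠ 0 := star_ne_zero.2 hb
  ext <;> simp only [gam_t, gam_y1, gam_y2, gam_x1, gam_s, gam_x2, mul_t, mul_y1, mul_y2, mul_x1,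
    mul_s, mul_x2, map_add, map_sub, map_mul, hσ _, star_mul', star_div₀, star_star] <;>
    field_simp

theorem dia_one : dia 1 1 g = g := by ext <;> simp

end

theorem SC.trans (h : SC σ) (h' : SC σ') : SC (σ.trans σ') := fun x => by
  rw [RingEquiv.trans_apply, h, h', RingEquiv.trans_apply]

theorem SC.symm (h : SC σ) : SC σ.symm := fun x => σ.injective (by rw [h]; simp)

theorem gam_gam (hσ : SC σ) (hσ' : SC σ') (g : U K) :
    gam a b σ hσ (gam a' b' σ' hσ' g) = gam (a * σ a') (b * σ b') (σ'.trans σ) (hσ'.trans hσ) g := by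
  ext <;> simp only [gam_t, gam_y1, gam_y2, gam_x1, gam_s, gam_x2, map_mul, map_div₀, hσ _,
    star_mul', RingEquiv.trans_apply] <;> ring

theorem dia_dia (g : U K) : dia a b (dia a' b' g) = dia (a * a') (b * b') g := gam_gam _ _ g

theorem gam_congr {hσ : SC σ} (h : ∀ x, σ x = x) (g : U K) : gam a b σ hσ g = dia a b g := by
  ext <;> simp [h]

/-- `gam` as an automorphism. -/
def gamA (a b : K) (σ : K ≃+* K) (hσ : SC σ) (ha : a ≠ 0) (hb : b ≠ 0) : MulAut (U K) where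
  toFun := gam a b σ hσ
  invFun := gam (σ.symm a⁻¹) (σ.symm b⁻¹) σ.symm hσ.symm
  left_inv g := by
    rw [gam_gam, ← map_mul, ← map_mul, inv_mul_cancel₀ ha, inv_mul_cancel₀ hb, map_one,
      gam_congr (by simp), dia_one]
  right_inv g := by
    rw [gam_gam, RingEquiv.apply_symm_apply, RingEquiv.apply_symm_apply, mul_inv_cancel₀ ha,
      mul_inv_cancel₀ hb, gam_congr (by simp), dia_one]
  map_mul' g h := gam_mul hσ g h hb

theorem gamA_apply (hσ : SC σ) (ha : a ≠ 0) (hb : b ≠ 0) (g : U K) :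
    gamA a b σ hσ ha hb g = gam a b σ hσ g := rfl

section

variable (g : U K)

@[simp] theorem nu1_t : (nu1 g).t = g.s := rfl
@[simp] theorem nu1_y1 : (nu1 g).y1 = -g.y1 := rfl
@[simp] theorem nu1_y2 : (nu1 g).y2 = g.y2 := rfl
@[simp] theorem nu1_x1 : (nu1 g).x1 = g.x1 - g.s * star g.t + g.t * star g.s := rfl
@[simp] theorem nu1_s : (nu1 g).s = g.t := rfl
@[simp] theorem nu1_x2 : (nu1 g).x2 = g.x2 := rfl
@[simp] theorem nu2_t : (nu2 g).t = g.t := rfl
@[simp] theorem nu2_y1 : (nu2 g).y1 = g.y2 := rfl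
@[simp] theorem nu2_y2 : (nu2 g).y2 = -g.y1 := rfl
@[simp] theorem nu2_x1 : (nu2 g).x1 = g.x2 := rfl
@[simp] theorem nu2_s : (nu2 g).s = star g.s + g.y2 * star g.y1 := rfl
@[simp] theorem nu2_x2 : (nu2 g).x2 = g.x1 := rfl

theorem nu1_nu1 : nu1 (nu1 g) = g := by ext <;> simp

theorem nu1_mem : nu1 g ∈ Q1 K ↔ g ∈ Q1 K := Iff.rfl

theorem nu2_mem : nu2 g ∈ Q2 K ↔ g ∈ Q2 K := Iff.rfl

end

theorem nu1_mul {g h : U K} (hg : g ∈ Q1 K) (hh : h ∈ Q1 K) : nu1 (g * h) = nu1 g * nu1 h := by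
  ext <;> simp [hg.1, hg.2, hh.1, hh.2] <;> ring

theorem nu2_mul {g h : U K} (hg : g ∈ Q2 K) (hh : h ∈ Q2 K) : nu2 (g * h) = nu2 g * nu2 h := by
  have h1 : g.t = 0 := hg
  have h2 : h.t = 0 := hh
  ext <;> simp [h1, h2] <;> ring

theorem pi3_nu1 (g : U K) : pi3 (nu1 g) = n3 (pi3 g) := rfl

theorem pi2_nu2 (g : U K) : pi2 (nu2 g) = n2 (pi2 g) := rfl

theorem pi3_conj (k : U K) {g : U K} (hg : g ∈ Q1 K) :
    pi3 (k * g * k⁻¹) = u3 (-k.y2) (star k.x2) (pi3 g) := by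
  simp only [pi3, u3_apply, Prod.mk.injEq]
  refine ⟨?_, ?_, ?_⟩ <;> simp [hg.1, hg.2, k.h2] <;> ring

theorem pi2_conj (k : U K) {g : U K} (hg : g ∈ Q2 K) : pi2 (k * g * k⁻¹) = u2 k.t (pi2 g) := by
  have h1 : g.t = 0 := hg
  simp only [pi2, u2_apply, Prod.mk.injEq]
  refine ⟨?_, ?_⟩ <;> simp [h1] <;> ring

theorem comm_Q1 {g h : U K} (hg : g ∈ Q1 K) (hh : h ∈ Q1 K) :
    g * h = h * g ↔ hf (pi3 g) (pi3 h) = hf (pi3 h) (pi3 g) := by
  simp only [hf, pi3, U.ext_iff, mul_t, mul_y1, mul_y2, mul_x1, mul_s, mul_x2, hg.1, hg.2, hh.1,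
    hh.2, star_zero]
  exact ⟨fun e => by linear_combination -e.2.2.2.1,
    fun e => ⟨by ring, by ring, trivial, by linear_combination -e, by ring, trivial⟩⟩

end Cfsg.Lib.U5F
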