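import Cfsg.Agent.U5F.Fld

/-! Fusion systems over a Sylow subgroup of `SU₅(q)`: the images of the line in `K³`. -/

set_option autoImplicit false
set_option linter.unusedSectionVars false

namespace Cfsg.Lib.U5F

open Cfsg Cfsg.FusionSystem Subgroup Equiv Cfsg.Lib.Fus

universe u v

variable {K : Type u} [Field K] [StarRing K] [Finite K] [UF K]
variable {X : Subgroup (Perm (K × K × K))}

namespace L3a

theorem fst_of {w : K × K × K} (h : ∀ c, hf w (0, 0, c) = hf (0, 0, c) w) : w.1 = 0 := by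
  refine (sep (a := -star w.1) fun c => ?_).2
  have := h c
  simp only [hf, star_zero, mul_zero, add_zero, zero_mul, zero_add] at this
  linear_combination this

theorem snd_of {w : K × K × K} (h : ∀ y, hf w (0, y, 0) = hf (0, y, 0) w) : w.2.1 = 0 := by
  refine (sep (a := -star w.2.1) fun c => ?_).2
  have := h c
  simp only [hf, star_zero, mul_zero, add_zero, zero_mul, zero_add] at this
  linear_combination this

theorem thd_of {w : K × K × K} (h : ∀ t, hf w (t, 0, 0) = hf (t, 0, 0) w) : w.2.2 = 0 := by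
  refine (sep (a := -star w.2.2) fun c => ?_).2
  have := h c
  simp only [hf, star_zero, mul_zero, add_zero, zero_mul, zero_add] at this
  linear_combination this

theorem comm' (h : Hy3 X) {g : Perm (K × K × K)} (hg : g ∈ X) {v w : K × K × K}
    (e : hf v (g w) = hf (g w) v) : hf (g⁻¹ v) w = hf w (g⁻¹ v) := by
  simpa using h.comm _ (inv_mem hg) _ _ e

theorem map_zero' (h : Hy3 X) {g : Perm (K × K × K)} (hg : g ∈ X) : g (0, 0, 0) = 0 := by
  have := h.add g hg 0 0
  rw [add_zero, left_eq_add] at this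
  exact this

theorem add3 (h : Hy3 X) {g : Perm (K × K × K)} (hg : g ∈ X) (a b : K) :
    g (0, 0, a + b) = g (0, 0, a) + g (0, 0, b) := by
  rw [← h.add g hg]
  simp

theorem bij (h : Hy3 X) {g : Perm (K × K × K)} (hg : g ∈ X) (hP : ¬ P3 g) :
    Function.Bijective fun c => (g (0, 0, c)).1 := by
  refine Finite.injective_iff_bijective.1 fun a b e => ?_
  by_contra hne
  refine (h.ti g hg).resolve_left hP (a - b) (sub_ne_zero.2 hne) ?_
  have := congrArg Prod.fst (add3 h hg (a - b) b)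
  rw [sub_add_cancel, Prod.fst_add] at this
  linear_combination e - this

theorem orbit {v w : K × K × K} (h1 : w.1 = v.1) (h0 : v.1 ≠ 0) (h : hf w w = hf v v) :
    ∃ y x : K, star x = -x - y * star y ∧ u3 y x v = w := by
  obtain ⟨t, y, c⟩ := v
  obtain ⟨t', y', c'⟩ := w
  obtain rfl : t' = t := h1
  replace h0 : t' ≠ 0 := h0
  obtain ⟨y0, rfl⟩ : ∃ y0, y' = y + y0 * t' := ⟨(y' - y) / t', by field_simp; ring⟩
  obtain ⟨x0, rfl⟩ : ∃ x0, c' = c - star y0 * y + x0 * t' :=
    ⟨(c' - c + star y0 * y) / t', by field_simp; ring⟩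
  refine ⟨y0, x0, ?_, rfl⟩
  simp only [hf, star_add, star_sub, star_mul', star_star] at h
  have : t' * star t' * (star x0 + x0 + y0 * star y0) = 0 := by linear_combination h
  have := (mul_eq_zero.1 this).resolve_left (mul_ne_zero h0 (star_ne_zero.2 h0))
  linear_combination this

end L3a

open L3a

theorem lin3a (h : Hy3 X) : ∃ l l' m m' : K, 2 * l' = 0 ∧
    (∀ t t', hf (sg l l' m m' (t, 0, 0)) (sg l l' m m' (t', 0, 0)) =
      hf (sg l l' m m' (t', 0, 0)) (sg l l' m m' (t, 0, 0))) ∧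
    (∃ g ∈ X, ∀ c, g (0, 0, c) = sg l l' m m' ((g (0, 0, c)).1, 0, 0)) ∧
    ∀ g ∈ X, P3 g ∨ ∃ y x, star x = -x - y * star y ∧
      ∀ c, g (0, 0, c) = u3 y x (sg l l' m m' ((g (0, 0, c)).1, 0, 0)) := by
  obtain ⟨g0, hg0, hP⟩ := h.mv
  let e := Equiv.ofBijective _ (bij h hg0 hP)
  let v : K → K × K × K := fun t => g0 (0, 0, e.symm t)
  have v1 : ∀ t, (v t).1 = t := fun t => e.apply_symm_apply t
  have gv : ∀ c, g0 (0, 0, c) = v (g0 (0, 0, c)).1 := fun c =>
    congrArg (fun z => g0 (0, 0, z)) (e.symm_apply_apply c).symm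
  have va : ∀ a b, v (a + b) = v a + v b := fun a b => by
    have := gv (e.symm a + e.symm b)
    rw [add3 h hg0, Prod.fst_add] at this
    exact (this.trans (congrArg v (congrArg₂ (· + ·) (v1 a) (v1 b)))).symm
  have vs : ∀ c t, star c = c → v (c * t) = c • v t := fun c t hc => by
    have k : ∀ y z, hf (g0⁻¹ (c • v t)) (0, y, z) = hf (0, y, z) (g0⁻¹ (c • v t)) := by
      intro y z
      apply comm' h hg0
      have := h.comm g0 hg0 (0, 0, e.symm t) (0, y, z) (by simp [hf])
      change hf (v t) _ = hf _ (v t) at this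
      simp only [hf, Prod.smul_fst, Prod.smul_snd, smul_eq_mul, star_mul', hc] at this ⊢
      linear_combination c * this
    have k1 : g0⁻¹ (c • v t) = (0, 0, (g0⁻¹ (c • v t)).2.2) :=
      Prod.ext (fst_of (k 0)) (Prod.ext (snd_of fun y => k y 0) rfl)
    rw [Perm.inv_eq_iff_eq] at k1
    have k2 := gv (g0⁻¹ (c • v t)).2.2
    rw [← k1, Prod.smul_fst, v1, smul_eq_mul] at k2
    exact k2.symm
  obtain ⟨l, l', hl⟩ := f0lin (f := fun t => (v t).2.1) (fun a b => by rw [va]; rfl)
    fun c t hc => by rw [vs c t hc]; rfl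
  obtain ⟨m, m', hm⟩ := f0lin (f := fun t => (v t).2.2) (fun a b => by rw [va]; rfl)
    fun c t hc => by rw [vs c t hc]; rfl
  have vsg : ∀ t, v t = sg l l' m m' (t, 0, 0) := fun t => by
    rw [sg_apply]
    refine Prod.ext (v1 t) (Prod.ext ((hl t).trans ?_) ((hm t).trans ?_)) <;> simp
  have iso : ∀ t t', hf (sg l l' m m' (t, 0, 0)) (sg l l' m m' (t', 0, 0)) =
      hf (sg l l' m m' (t', 0, 0)) (sg l l' m m' (t, 0, 0)) := fun t t' => by
    rw [← vsg, ← vsg]
    exact h.comm g0 hg0 _ _ (by simp [hf])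
  have claim : ∀ g ∈ X, ∀ c0 y, g (0, 0, c0) = sg l l' m m' (1, y, 0) →
      y = 0 ∧ ∀ c, g (0, 0, c) = sg l l' m m' ((g (0, 0, c)).1, 0, 0) := by
    intro g hg c0 y e0
    have c00 : c0 ≠ 0 := by
      rintro rfl
      rw [map_zero' h hg] at e0
      exact zero_ne_one (congrArg Prod.fst e0)
    have k : ((g0⁻¹ * g) (0, 0, c0)).1 = 0 := fst_of fun c => by
      apply comm' h hg0
      rw [e0, gv, vsg]
      have := iso 1 (g0 (0, 0, c)).1
      generalize (g0 (0, 0, c)).1 = t at this ⊢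
      simp only [hf, sg_apply, star_add, star_sub, star_mul', star_star, star_zero, star_one]
        at this ⊢
      linear_combination this
    have k1 : P3 (g0⁻¹ * g) :=
      (h.ti _ (mul_mem (inv_mem hg0) hg)).resolve_right fun k' => k' c0 c00 k
    have k2 : ∀ c, g (0, 0, c) = sg l l' m m' ((g (0, 0, c)).1, 0, 0) := fun c => by
      have k3 : g0⁻¹ (g (0, 0, c)) = (0, 0, (g0⁻¹ (g (0, 0, c))).2.2) :=
        Prod.ext (k1 c).1 (Prod.ext (k1 c).2 rfl)
      rw [Perm.inv_eq_iff_eq] at k3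
      have k4 := gv (g0⁻¹ (g (0, 0, c))).2.2
      rwa [← k3, vsg] at k4
    refine ⟨?_, k2⟩
    have k5 := k2 c0
    rw [e0] at k5
    have := (sg l l' m m').injective k5
    exact congrArg (·.2.1) this
  have nrm : ∀ y, hf (sg l l' m m' (1, y, 0)) (sg l l' m m' (1, y, 0)) =
      hf (sg l l' m m' (1, 0, 0)) (sg l l' m m' (1, 0, 0)) + y * star y +
        (2 * l' * star y + star (2 * l') * y) := fun y => by
    simp only [hf, sg_apply, star_add, star_sub, star_mul', star_star, star_zero, star_one,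
      star_ofNat]
    ring
  have l2 : 2 * l' = 0 := by
    by_contra hc
    obtain ⟨z, z1, z2⟩ := exists_norm_one (K := K)
    obtain ⟨y, x, hx, e0⟩ := orbit (v := sg l l' m m' (1, 0, 0))
      (w := sg l l' m m' (1, (z - 1) * (2 * l'), 0)) rfl one_ne_zero (by
        rw [nrm]
        generalize 2 * l' = c
        simp only [star_mul', star_sub, star_one]
        linear_combination c * star c * z2)
    rw [← vsg] at e0
    have := (claim (u3 y x * g0) (mul_mem (h.u y x hx) hg0) _ _ e0).1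
    exact mul_ne_zero (sub_ne_zero.2 z1) hc this
  refine ⟨l, l', m, m', l2, iso, ⟨g0, hg0, fun c => (gv c).trans (vsg _)⟩, fun g hg => ?_⟩
  refine or_iff_not_imp_left.2 fun hP' => ?_
  obtain ⟨c0, e0⟩ := (bij h hg hP').2 1
  obtain ⟨y, hy⟩ := exists_norm (c := hf (g (0, 0, c0)) (g (0, 0, c0)) -
      hf (sg l l' m m' (1, 0, 0)) (sg l l' m m' (1, 0, 0))) (by
    simp only [hf, star_add, star_sub, star_mul', star_star]
    ring)
  obtain ⟨y0, x0, hx, e1⟩ := orbit (v := sg l l' m m' (1, y, 0)) (w := g (0, 0, c0)) e0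
    one_ne_zero (by rw [nrm, l2, hy]; simp)
  refine ⟨y0, x0, hx, fun c => ?_⟩
  have := (claim ((u3 y0 x0)⁻¹ * g) (mul_mem (inv_mem (h.u y0 x0 hx)) hg) c0 y
    (by rw [Perm.mul_apply, ← e1, perm_inv_apply])).2 c
  rw [Perm.mul_apply, Perm.inv_eq_iff_eq] at this
  exact this

end Cfsg.Lib.U5F
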