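import Cfsg.Agent.U5F.Defs
import Cfsg.Agent.Fus.EssBridge

/-! Minimal groups of automorphisms with a strongly `p`-embedded subgroup. -/

set_option autoImplicit false
set_option linter.unusedSectionVars false

namespace Cfsg.Lib.U5F

open Cfsg Cfsg.FusionSystem Subgroup Equiv Cfsg.Lib.Fus Cfsg.Lib.Fus.Ess Cfsg.Lib.Solv

variable {G : Type*} [Group G] [Finite G] {p : ℕ} [Fact p.Prime] {E : Subgroup G}
  {X L M : Subgroup (MulAut E)}

theorem SEm.exists_minL (h : SEm p E X M) : ∃ L, L ≤ X ∧ MinL p E L M := by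
  obtain ⟨L, ⟨h1, h2, h3⟩, hm⟩ := (wellFounded_lt (α := Subgroup (MulAut E))).has_min
    {L | autInducedBy ⊤ E ≤ L ∧ L ≤ X ∧ ¬ L ≤ M} ⟨X, h.syl.le, le_rfl, h.not_le⟩
  refine ⟨L, h2, ⟨h.syl.mono h1 h2, h.le, h3, fun g hg => h.mem g (h2 hg)⟩, fun H k1 k2 => ?_⟩
  by_contra! k
  exact hm H ⟨k1, k2.trans h2, k.1⟩ (lt_of_le_of_ne k2 k.2)

theorem MinL.sup_eq (h : MinL p E L M) {N : Subgroup (MulAut E)} (hN : N ≤ L)
    (hn : ∀ l ∈ L, ∀ n ∈ N, l * n * l⁻¹ ∈ N) {t : MulAut E} (ht : t ∈ autInducedBy ⊤ E)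
    (ht' : t ∉ Inn E) (htN : t ∈ N) : N ⊔ autInducedBy ⊤ E = L :=
  (h.min _ le_sup_right (sup_le hN h.syl.le)).resolve_left fun k => h.not_le fun l hl =>
    h.mem l hl t ht ht' (k (mem_sup_left (hn l hl t htN)))

theorem Iv.aInv {Y : Subgroup G} (h : Iv (L.map (pext E)) Y) : AInv L (Y.subgroupOf E) :=
  fun a ha x hx => by
    have := h _ (mem_map_of_mem _ ha) x hx
    rwa [pext_coe] at this

theorem MinL.rad (hG : IsPGroup p G) (hC : centralizer (E : Set G) ≤ E) (h : MinL p E L M) :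
    ∀ g ∈ normalizer (E : Set G), ∀ X₁ X₂ X₃ : Subgroup G, Iv (L.map (pext E)) X₁ →
      Iv (L.map (pext E)) X₂ → Iv (L.map (pext E)) X₃ → X₁ ≤ E → X₂ ≤ X₁ → X₃ ≤ X₂ → Tr g E X₁ →
      Tr g X₁ X₂ → Tr g X₂ X₃ → Tr g X₃ ⊥ → g ∈ E := by
  intro g hg X₁ X₂ X₃ i1 i2 i3 _ _ _ t0 t1 t2 t3
  have ht := conjAut_mem_autInducedBy (mem_top g) hg
  have hL := h.syl.le ht
  have hE := hG.to_subgroup E
  have k := (((ptr_of_triv aInv_top i1.aInv hL (triv_conjAut_top_iff.2 t0)).trans hE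
    (ptr_of_triv i1.aInv i2.aInv hL (triv_conjAut_iff.2 fun x _ => t1 x)) i2.aInv).trans hE
    (ptr_of_triv i2.aInv i3.aInv hL (triv_conjAut_iff.2 fun x _ => t2 x)) i3.aInv).trans hE
    (ptr_of_triv i3.aInv aInv_bot hL (triv_conjAut_bot_iff.2 fun x _ hx =>
      (inv_mul_eq_one.1 (mem_bot.1 (t3 x hx))).symm)) aInv_bot
  refine (conjAut_mem_inn_iff (S := ⊤) (fun x hx => hC hx.2) le_top ⟨mem_top _, hg⟩).1
    (by_contra fun n => h.not_le ?_)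
  rw [← h.sup_eq (pCoreIn_le L) (fun _ ha _ hb => conj_mem_pCoreIn ha hb) ht n k.mem_pCoreIn]
  exact (sup_le h.syl.pCoreIn_le le_rfl).trans h.le

theorem MinL.gen (hG : IsPGroup p G) (hC : centralizer (E : Set G) ≤ E) (hE : E ≠ ⊤)
    (h : MinL p E L M) : ∀ X Y : Subgroup G, Iv (L.map (pext E)) X → Iv (L.map (pext E)) Y →
      X ≤ E → Y ≤ X → (∀ g ∈ normalizer (E : Set G), Tr g X Y) → LTr (L.map (pext E)) X Y := by
  rintro X Y hX hY XE - tr _ ⟨l, hl, rfl⟩ x hx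
  obtain ⟨t, ht, ht'⟩ := SetLike.not_le_iff_exists.1 (not_autInducedBy_le_inn (p := p) (S := ⊤)
    (hG.to_subgroup _) (fun x hx => hC hx.2) (lt_top_iff_ne_top.2 hE))
  have TN : autInducedBy ⊤ E ≤ trivSub hX.aInv (Y.subgroupOf E) := fun t ht => by
    refine mem_trivSub.2 ⟨h.syl.le ht, ?_⟩
    obtain ⟨g, -, hg, rfl⟩ := mem_autInducedBy'.1 ht
    exact triv_conjAut_iff.2 fun x _ => tr g hg x
  have := h.sup_eq (N := trivSub hX.aInv (Y.subgroupOf E)) (fun a ha => (mem_trivSub.1 ha).1)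
    (fun a ha n hn => mem_trivSub.2 ⟨mul_mem (mul_mem ha (mem_trivSub.1 hn).1) (inv_mem ha),
      (mem_trivSub.1 hn).2.conj (hX.aInv _ (inv_mem ha)) (hY.aInv _ ha)⟩) ht ht' (TN ht)
  rw [sup_eq_left.2 TN] at this
  exact triv_subgroupOf_iff.1 (mem_trivSub.1 (this.ge hl)).2 x (XE hx) hx

end Cfsg.Lib.U5F
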