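import Cfsg.Agent.U5F.LocA
import Cfsg.Agent.U5F.FF

/-! The module generated by a centralized section. -/

set_option autoImplicit false
set_option linter.unusedSectionVars false

namespace Cfsg.Lib.U5F

open Cfsg Cfsg.FusionSystem Subgroup Equiv Cfsg.Lib.Fus

universe u

variable {G : Type*} [Group G] [Finite G] {p : ℕ} [Fact p.Prime] {E : Subgroup G}
  {X L M : Subgroup (MulAut E)}

namespace LocB

/-- The action of `L` on an invariant section. -/
theorem exists_rep {G : Type u} [Group G] [Finite G] {E : Subgroup G} {L : Subgroup (MulAut E)}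
    {W Y : Subgroup G} (WE : W ≤ E) (hW : Iv (L.map (pext E)) W)
    (hY : Iv (L.map (pext E)) Y) (nY : ∀ w ∈ W, ∀ y ∈ Y, w * y * w⁻¹ ∈ Y) :
    ∃ (V : Type u) (_ : Group V) (_ : Finite V) (π : W →* V) (ρ : L →* MulAut V),
      Function.Surjective π ∧ (∀ w, π w = 1 ↔ w.1 ∈ Y) ∧
        ∀ (l : L) (w w' : W), pext E l.1 w = w' → ρ l (π w) = π w' := by
  have : (Y.subgroupOf W).Normal := ⟨fun y hy w => nY _ w.2 _ hy⟩
  let r : L → W →* W := fun l =>
    { toFun := fun w => ⟨pext E l.1 w, hW _ (mem_map_of_mem _ l.2) _ w.2⟩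
      map_one' := Subtype.ext ((pext_of_mem _ E.one_mem).trans (congrArg _ (map_one l.1)))
      map_mul' := fun a b => Subtype.ext (mulOn_pext l.1 _ (WE a.2) _ (WE b.2)) }
  let q : L → (W ⧸ Y.subgroupOf W) →* (W ⧸ Y.subgroupOf W) := fun l =>
    QuotientGroup.map _ _ (r l) fun y hy => hY _ (mem_map_of_mem _ l.2) _ hy
  have q1 : q 1 = MonoidHom.id _ := QuotientGroup.monoidHom_ext _ (MonoidHom.ext fun w =>
    congrArg QuotientGroup.mk (Subtype.ext (by simp [r])))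
  have qm : ∀ a b, q (a * b) = (q a).comp (q b) := fun a b => QuotientGroup.monoidHom_ext _
    (MonoidHom.ext fun w => congrArg QuotientGroup.mk (Subtype.ext (by simp [r])))
  let ρ : L →* MulAut (W ⧸ Y.subgroupOf W) :=
    { toFun := fun l => MonoidHom.toMulEquiv (q l) (q l⁻¹) (by rw [← qm, inv_mul_cancel, q1])
        (by rw [← qm, mul_inv_cancel, q1])
      map_one' := MulEquiv.ext fun v => DFunLike.congr_fun q1 v
      map_mul' := fun a b => MulEquiv.ext fun v => DFunLike.congr_fun (qm a b) v }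
  exact ⟨_, inferInstance, inferInstance, QuotientGroup.mk' _, ρ, QuotientGroup.mk'_surjective _,
    fun w => QuotientGroup.eq_one_iff w, fun l w w' e =>
      congrArg QuotientGroup.mk (Subtype.ext e)⟩

end LocB

open LocB FF

theorem MinL.sec (hG : IsPGroup p G) (hC : centralizer (E : Set G) ≤ E) (hE : E ≠ ⊤)
    (h : MinL p E L M) : ∀ Y Z : Subgroup G, Iv (L.map (pext E)) Y → Y ≤ Z → Z ≤ E →
      (∀ g ∈ normalizer (E : Set G), Tr g Z Y) → (∀ z ∈ Z, z ^ p ∈ Y) → ¬ Iv (L.map (pext E)) Z →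
      ∃ W, Sec p E (L.map (pext E)) Y Z W := by
  intro Y Z hY YZ ZE tr zp nZ
  have TL := h.syl.le
  have cT : ∀ g (hg : g ∈ normalizer (E : Set G)), conjAut E g hg ∈ autInducedBy ⊤ E :=
    fun g hg => conjAut_mem_autInducedBy (mem_top g) hg
  have iv : ∀ {X : Subgroup G}, X ≤ E → Iv (L.map (pext E)) X →
      ∀ g ∈ normalizer (E : Set G), ∀ x ∈ X, g * x * g⁻¹ ∈ X := fun XE hX g hg x hx =>
    pext_conjAut hg (XE hx) ▸ hX _ (mem_map_of_mem _ (TL (cT g hg))) x hx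
  have YE := YZ.trans ZE
  have nY := iv YE hY
  let W := closure {w | ∃ l ∈ L, ∃ z ∈ Z, pext E l z = w}
  have WE : W ≤ E := (closure_le _).2 (by
    rintro _ ⟨l, -, z, hz, rfl⟩
    exact (pext_mem_iff l z).2 (ZE hz))
  have ZW : Z ≤ W := fun z hz => subset_closure ⟨1, one_mem _, z, hz, by simp⟩
  have hW : Iv (L.map (pext E)) W := by
    rintro _ ⟨l, hl, rfl⟩ x hx
    induction hx using closure_induction with
    | mem x hx =>
      obtain ⟨k, hk, z, hz, rfl⟩ := hx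
      exact subset_closure ⟨l * k, mul_mem hl hk, z, hz, by simp⟩
    | one =>
      rw [pext_of_mem _ E.one_mem, show (⟨1, E.one_mem⟩ : E) = 1 from rfl, map_one]
      exact one_mem W
    | mul x y hx hy h1 h2 => rw [mulOn_pext l _ (WE hx) _ (WE hy)]; exact mul_mem h1 h2
    | inv x hx h1 =>
      rw [pext_of_mem _ (inv_mem (WE hx)), show (⟨x⁻¹, inv_mem (WE hx)⟩ : E) = ⟨x, WE hx⟩⁻¹ from rfl,
        map_inv]
      rw [pext_of_mem _ (WE hx)] at h1
      exact inv_mem h1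
  have cen : ∀ g ∈ E, Tr g W Y := fun g hg x hx => by
    induction hx using closure_induction generalizing g with
    | mem x hx =>
      obtain ⟨l, hl, z, hz, rfl⟩ := hx
      have := hY _ (mem_map_of_mem _ hl) _ (tr _ (le_normalizer (l⁻¹ ⟨g, hg⟩).2) z hz)
      rw [show z⁻¹ * ((l⁻¹ ⟨g, hg⟩ : E) * z * ((l⁻¹ ⟨g, hg⟩ : E) : G)⁻¹) = ((⟨z, ZE hz⟩⁻¹ *
        (l⁻¹ ⟨g, hg⟩ * ⟨z, ZE hz⟩ * (l⁻¹ ⟨g, hg⟩)⁻¹) : E) : G) from rfl, pext_coe] at this
      simpa [pext_of_mem l (ZE hz)] using this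
    | one => simp
    | mul x y hx hy h1 h2 =>
      have := mul_mem (nY _ (le_normalizer (inv_mem (WE hy))) _ (h1 g hg)) (h2 g hg)
      convert this using 1
      group
    | inv x hx h1 =>
      have := nY _ (le_normalizer (WE hx)) _ (inv_mem (h1 g hg))
      convert this using 1
      group
  obtain ⟨V, _, _, π, ρ, su, ker, act⟩ := exists_rep WE hW hY
    fun w hw => nY w (le_normalizer (WE hw))
  have eq : ∀ {a b : W}, π a = π b ↔ a.1⁻¹ * b.1 ∈ Y := fun {a b} => by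
    rw [← inv_mul_eq_one, ← map_inv, ← map_mul, ker]; rfl
  have nW := iv WE hW
  let c : normalizer (E : Set G) →* L := E.normalizerMonoidHom.codRestrict L fun g => TL (cT g g.2)
  let σ := ρ.comp c
  have aσ : ∀ (g : normalizer (E : Set G)) (w : W), σ g (π w) = π ⟨_, nW g g.2 w w.2⟩ :=
    fun g w => act _ _ _ (pext_conjAut g.2 (WE w.2))
  have kσ : ∀ g : normalizer (E : Set G), σ g = 1 ↔ Tr g.1 W Y := fun g =>
    ⟨fun e w hw => eq.1 (show π ⟨w, hw⟩ = π ⟨_, nW g g.2 w hw⟩ by rw [← aσ g ⟨w, hw⟩, e]; rfl),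
      fun e => MulEquiv.ext fun v => by
        obtain ⟨w, rfl⟩ := su v
        rw [aσ]
        exact (eq.2 (e w w.2)).symm⟩
  let Kr := ρ.ker.map L.subtype
  have KL : Kr ≤ L := map_subtype_le _
  have key : Kr ⊔ autInducedBy ⊤ E ≠ L := fun e => nZ (by
    rintro _ ⟨l, hl, rfl⟩ z hz
    have : L ≤ ((MulAction.stabilizer (MulAut V) (π ⟨z, ZW hz⟩)).comap ρ).map L.subtype := by
      refine e.ge.trans (sup_le (map_mono fun k hk => ?_) fun t ht => ⟨⟨t, TL ht⟩, ?_, rfl⟩)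
      · exact mem_comap.2 ((show ρ k = 1 from hk).symm ▸ one_mem _)
      · obtain ⟨g, -, hg, rfl⟩ := mem_autInducedBy'.1 ht
        exact (aσ ⟨g, hg⟩ _).trans (eq.2 (tr g hg z hz)).symm
    obtain ⟨k, hk, rfl⟩ := this hl
    have := eq.1 ((show ρ k (π ⟨z, ZW hz⟩) = _ from hk).symm.trans
      (act k _ ⟨_, hW _ (mem_map_of_mem _ k.2) _ (ZW hz)⟩ rfl))
    exact (mul_mem_cancel_left (inv_mem hz)).1 (YZ this))
  have nm : ∀ (N : Subgroup L), (∀ l n, n ∈ N → l * n * l⁻¹ ∈ N) →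
      ∀ l ∈ L, ∀ n ∈ N.map L.subtype, l * n * l⁻¹ ∈ N.map L.subtype := by
    rintro N hN l hl _ ⟨n, hn, rfl⟩
    exact ⟨_, hN ⟨l, hl⟩ n hn, rfl⟩
  have hC' : centralizerIn ⊤ E ≤ E := fun x hx => hC hx.2
  have faith : ∀ g : normalizer (E : Set G), σ g = 1 → g.1 ∈ E := fun g e =>
    (conjAut_mem_inn_iff hC' le_top ⟨mem_top _, g.2⟩).1 (by_contra fun k => key
      (h.sup_eq KL (nm _ fun l n hn => ρ.normal_ker.conj_mem n hn l) (cT g g.2) k ⟨c g, e, rfl⟩))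
  have KM : Kr ≤ M := le_sup_left.trans
    ((h.min _ le_sup_right (sup_le KL TL)).resolve_right key)
  have kE : ∀ g : normalizer (E : Set G), g.1 ∈ E → σ g = 1 := fun g e => (kσ g).2 (cen _ e)
  refine ⟨W, hW, ZW, WE, fun W' h1 h2 => (closure_le _).2 ?_, cen,
    fun g hg e => faith ⟨g, hg⟩ ((kσ _).2 e), fun B C BN BE Bc Bp YC CW BC le => ?_⟩
  · rintro _ ⟨l, hl, z, hz, rfl⟩
    exact h1 _ (mem_map_of_mem _ hl) z (h2 hz)
  have comm : ∀ a b : V, a * b = b * a := fun a b => by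
    obtain ⟨a, rfl⟩ := su a
    obtain ⟨b, rfl⟩ := su b
    rw [← map_mul, ← map_mul, eq]
    have := nY _ (le_normalizer (inv_mem (WE b.2))) _ (cen _ (WE b.2) _ a.2)
    convert this using 1
    simp [mul_assoc]
  have pw : ∀ w (hw : w ∈ W), π ⟨w, hw⟩ ^ p = 1 := fun w hw => by
    induction hw using closure_induction with
    | mem x hx =>
      obtain ⟨l, hl, z, hz, rfl⟩ := hx
      rw [← act ⟨l, hl⟩ ⟨z, ZW hz⟩ _ rfl, ← map_pow, ← map_pow, (ker _).2 (zp z hz), map_one]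
    | one => exact (congrArg (· ^ p) (map_one π)).trans (one_pow p)
    | mul x y hx hy h1 h2 =>
      rw [show π ⟨x * y, _⟩ = π ⟨x, hx⟩ * π ⟨y, hy⟩ from map_mul π ⟨x, hx⟩ ⟨y, hy⟩,
        (show Commute _ _ from comm _ _).mul_pow, h1, h2, mul_one]
    | inv x hx h1 => rw [show π ⟨x⁻¹, _⟩ = (π ⟨x, hx⟩)⁻¹ from map_inv π ⟨x, hx⟩, inv_pow, h1, inv_one]
  have pull : ∀ l : L, ρ l ∈ (M.subgroupOf L).map ρ → l.1 ∈ M := by
    rintro l ⟨m, hm, e⟩
    exact (mul_mem_cancel_left (inv_mem hm)).1 (KM ⟨m⁻¹ * l, by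
      rw [SetLike.mem_coe, MonoidHom.mem_ker, map_mul, map_inv, e, inv_mul_cancel], rfl⟩)
  obtain ⟨R, hR⟩ := h.syl.exists_sylow
  have hT := (sylIn_top R).map ρ
  rw [hR] at hT
  have c1 := card_map σ (B.subgroupOf _)
  rw [Nat.card_congr (subgroupOfEquivOfLe BN).toEquiv, show B.subgroupOf _ ⊓ σ.ker =
    (B ⊓ E).subgroupOf _ from Subgroup.ext fun g => and_congr_right' ⟨faith g, kE g⟩,
    Nat.card_congr (subgroupOfEquivOfLe (inf_le_left.trans BN)).toEquiv] at c1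
  have c2 := card_map π (C.subgroupOf W)
  rw [Nat.card_congr (subgroupOfEquivOfLe CW).toEquiv, show C.subgroupOf W ⊓ π.ker =
    Y.subgroupOf W from Subgroup.ext fun w => ⟨fun k => (ker w).1 k.2,
      fun k => ⟨YC k, (ker w).2 k⟩⟩] at c2
  have c3 := card_map π ⊤
  rw [card_top, map_top_of_surjective _ su, card_top, top_inf_eq, show π.ker = Y.subgroupOf W from
    Subgroup.ext ker] at c3
  have p1 : 0 < Nat.card (Y.subgroupOf W) * Nat.card ↥(B ⊓ E) := mul_pos Nat.card_pos Nat.card_pos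
  obtain ⟨f1, f2, f3⟩ := ffMod comm (fun a => by obtain ⟨w, rfl⟩ := su a; exact pw w w.2) hT
    (M := (M.subgroupOf L).map ρ) (B := (B.subgroupOf _).map σ) (map_mono (comap_mono h.le))
    (fun k => h.not_le fun l hl => pull ⟨l, hl⟩ (k ⟨_, mem_top _, rfl⟩))
    (by
      rintro _ ⟨l, -, rfl⟩ _ ⟨t, ht, rfl⟩ t1 e
      rw [← map_inv, ← map_mul, ← map_mul] at e
      refine ⟨l, h.mem l l.2 t ht (fun k => t1 ?_) (pull _ e), rfl⟩
      obtain ⟨g, hg, hg', e⟩ := mem_autInducedBy'.1 (autInducedBy_self E ▸ k)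
      rw [show t = c ⟨g, hg'⟩ from Subtype.ext e]
      exact kE _ hg)
    (fun N h1 h2 h3 => by
      obtain ⟨t, ht, ht'⟩ := SetLike.not_le_iff_exists.1 (not_autInducedBy_le_inn (p := p) (S := ⊤)
        (hG.to_subgroup _) hC' (lt_top_iff_ne_top.2 hE))
      have TN : autInducedBy ⊤ E ≤ (N.comap ρ).map L.subtype := fun t ht =>
        ⟨⟨t, TL ht⟩, h1 ⟨_, ht, rfl⟩, rfl⟩
      have := h.sup_eq (map_subtype_le _) (nm (N.comap ρ) fun l n hn => by
        rw [mem_comap, map_mul, map_mul, map_inv]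
        exact h3 _ ⟨l, mem_top _, rfl⟩ _ hn) ht ht' (TN ht)
      rw [sup_eq_left.2 TN] at this
      refine le_antisymm h2 ?_
      rintro _ ⟨l, -, rfl⟩
      obtain ⟨k, hk, e⟩ := this.ge l.2
      exact Subtype.ext e ▸ hk)
    (by rintro _ ⟨g, -, rfl⟩; exact ⟨c g, cT g g.2, rfl⟩)
    (fun e => BE fun b hb => faith ⟨b, BN hb⟩ (mem_bot.1 (e.le ⟨_, hb, rfl⟩)))
    (by
      rintro _ ⟨a, ha, rfl⟩ _ ⟨b, hb, rfl⟩
      have := kE (b⁻¹ * (a * b * a⁻¹)) (Bc _ ha _ hb)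
      rwa [map_mul, map_mul, map_mul, map_inv, map_inv, inv_mul_eq_one, eq_mul_inv_iff_mul_eq,
        eq_comm] at this)
    (by rintro _ ⟨a, ha, rfl⟩; rw [← map_pow]; exact kE _ (Bp _ ha))
    (C := (C.subgroupOf W).map π)
    (by
      rintro _ ⟨b, hb, rfl⟩ _ ⟨w, hw, rfl⟩
      rw [aσ]
      exact (eq.2 (BC _ hb _ hw)).symm)
    (Nat.le_of_mul_le_mul_right (by
      rw [c3, c1, c2] at le
      convert le using 1 <;> ring) p1)
  refine ⟨fun g hg => ?_, by rw [c3, c2, f2, c1]; ring, fun w hw wC b hb e => ?_⟩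
  · obtain ⟨b, hb, e⟩ := f1.ge ⟨c ⟨g, hg⟩, cT g hg, rfl⟩
    refine ⟨b, hb, b.1⁻¹ * g, faith (b⁻¹ * ⟨g, hg⟩) ?_, by group⟩
    rw [map_mul, map_inv, e]
    exact inv_mul_cancel _
  · refine faith ⟨b, BN hb⟩ (f3 (π ⟨w, hw⟩) ?_ _ ⟨⟨b, BN hb⟩, hb, rfl⟩ ?_)
    · rintro ⟨u, hu, k⟩
      exact wC ((mul_mem_cancel_left (inv_mem hu)).1 (YC (eq.1 k)))
    · rintro _ ⟨l, -, rfl⟩
      rw [aσ, ← map_inv, ← map_mul, act l _ ⟨_, hW _ (mem_map_of_mem _ l.2) _ (Subtype.prop _)⟩ rfl]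
      exact (eq.2 (e _ (mem_map_of_mem _ l.2))).symm

theorem SEm.exists_loc (hG : IsPGroup p G) (hC : centralizer (E : Set G) ≤ E) (hE : E ≠ ⊤)
    (h : SEm p E X M) : ∃ L, L ≤ X ∧ Loc p E (L.map (pext E)) := by
  obtain ⟨L, hL, k⟩ := h.exists_minL
  refine ⟨L, hL, hE, ?_, ?_, fun g hg => ⟨_, mem_map_of_mem _
    (k.syl.le (conjAut_mem_autInducedBy (mem_top g) hg)), fun x hx => pext_conjAut hg hx⟩,
    k.rad hG hC, k.gen hG hC hE, k.sec hG hC hE⟩
  · rintro _ ⟨l, -, rfl⟩ x hx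
    exact (pext_mem_iff l x).2 hx
  · rintro _ ⟨l, -, rfl⟩
    exact mulOn_pext l

end Cfsg.Lib.U5F
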