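import Cfsg.Agent.U5F.Gam

/-! The matrix model. -/

set_option autoImplicit false
set_option linter.unusedSectionVars false

namespace Cfsg.Lib.U5F

open Subgroup Equiv U Matrix

variable {K : Type*} [Field K] [StarRing K]

theorem mul_five {R : Type*} [CommRing R]
    (a00 a01 a02 a03 a04 a10 a11 a12 a13 a14 a20 a21 a22 a23 a24 a30 a31 a32 a33 a34
      a40 a41 a42 a43 a44 b00 b01 b02 b03 b04 b10 b11 b12 b13 b14 b20 b21 b22 b23 b24
      b30 b31 b32 b33 b34 b40 b41 b42 b43 b44 : R) :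
    !![a00, a01, a02, a03, a04; a10, a11, a12, a13, a14; a20, a21, a22, a23, a24;
      a30, a31, a32, a33, a34; a40, a41, a42, a43, a44] *
    !![b00, b01, b02, b03, b04; b10, b11, b12, b13, b14; b20, b21, b22, b23, b24;
      b30, b31, b32, b33, b34; b40, b41, b42, b43, b44] =
    !![a00 * b00 + a01 * b10 + a02 * b20 + a03 * b30 + a04 * b40, a00 * b01 + a01 * b11 + a02 * b21 + a03 * b31 + a04 * b41, a00 * b02 + a01 * b12 + a02 * b22 + a03 * b32 + a04 * b42, a00 * b03 + a01 * b13 + a02 * b23 + a03 * b33 + a04 * b43, a00 * b04 + a01 * b14 + a02 * b24 + a03 * b34 + a04 * b44;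
      a10 * b00 + a11 * b10 + a12 * b20 + a13 * b30 + a14 * b40, a10 * b01 + a11 * b11 + a12 * b21 + a13 * b31 + a14 * b41, a10 * b02 + a11 * b12 + a12 * b22 + a13 * b32 + a14 * b42, a10 * b03 + a11 * b13 + a12 * b23 + a13 * b33 + a14 * b43, a10 * b04 + a11 * b14 + a12 * b24 + a13 * b34 + a14 * b44;
      a20 * b00 + a21 * b10 + a22 * b20 + a23 * b30 + a24 * b40, a20 * b01 + a21 * b11 + a22 * b21 + a23 * b31 + a24 * b41, a20 * b02 + a21 * b12 + a22 * b22 + a23 * b32 + a24 * b42, a20 * b03 + a21 * b13 + a22 * b23 + a23 * b33 + a24 * b43, a20 * b04 + a21 * b14 + a22 * b24 + a23 * b34 + a24 * b44;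
      a30 * b00 + a31 * b10 + a32 * b20 + a33 * b30 + a34 * b40, a30 * b01 + a31 * b11 + a32 * b21 + a33 * b31 + a34 * b41, a30 * b02 + a31 * b12 + a32 * b22 + a33 * b32 + a34 * b42, a30 * b03 + a31 * b13 + a32 * b23 + a33 * b33 + a34 * b43, a30 * b04 + a31 * b14 + a32 * b24 + a33 * b34 + a34 * b44;
      a40 * b00 + a41 * b10 + a42 * b20 + a43 * b30 + a44 * b40, a40 * b01 + a41 * b11 + a42 * b21 + a43 * b31 + a44 * b41, a40 * b02 + a41 * b12 + a42 * b22 + a43 * b32 + a44 * b42, a40 * b03 + a41 * b13 + a42 * b23 + a43 * b33 + a44 * b43, a40 * b04 + a41 * b14 + a42 * b24 + a43 * b34 + a44 * b44] := by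
  ext i j
  rw [Matrix.mul_apply, Fin.sum_univ_five]
  fin_cases i <;> fin_cases j <;> rfl

theorem ct_five {R : Type*} [Star R]
    (a00 a01 a02 a03 a04 a10 a11 a12 a13 a14 a20 a21 a22 a23 a24 a30 a31 a32 a33 a34
      a40 a41 a42 a43 a44 : R) :
    !![a00, a01, a02, a03, a04; a10, a11, a12, a13, a14; a20, a21, a22, a23, a24;
      a30, a31, a32, a33, a34; a40, a41, a42, a43, a44]ᴴ =
    !![star a00, star a10, star a20, star a30, star a40;
      star a01, star a11, star a21, star a31, star a41;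
      star a02, star a12, star a22, star a32, star a42;
      star a03, star a13, star a23, star a33, star a43;
      star a04, star a14, star a24, star a34, star a44] := by
  ext i j
  fin_cases i <;> fin_cases j <;> rfl

theorem ext_five {R : Type*}
    {a00 a01 a02 a03 a04 a10 a11 a12 a13 a14 a20 a21 a22 a23 a24 a30 a31 a32 a33 a34
      a40 a41 a42 a43 a44 b00 b01 b02 b03 b04 b10 b11 b12 b13 b14 b20 b21 b22 b23 b24
      b30 b31 b32 b33 b34 b40 b41 b42 b43 b44 : R}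
    (h : a00 = b00 ∧ a01 = b01 ∧ a02 = b02 ∧ a03 = b03 ∧ a04 = b04 ∧ a10 = b10 ∧ a11 = b11 ∧ a12 = b12 ∧ a13 = b13 ∧ a14 = b14 ∧ a20 = b20 ∧ a21 = b21 ∧ a22 = b22 ∧ a23 = b23 ∧ a24 = b24 ∧ a30 = b30 ∧ a31 = b31 ∧ a32 = b32 ∧ a33 = b33 ∧ a34 = b34 ∧ a40 = b40 ∧ a41 = b41 ∧ a42 = b42 ∧ a43 = b43 ∧ a44 = b44) :
    !![a00, a01, a02, a03, a04; a10, a11, a12, a13, a14; a20, a21, a22, a23, a24;
      a30, a31, a32, a33, a34; a40, a41, a42, a43, a44] =
    !![b00, b01, b02, b03, b04; b10, b11, b12, b13, b14; b20, b21, b22, b23, b24;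
      b30, b31, b32, b33, b34; b40, b41, b42, b43, b44] := by
  obtain ⟨rfl, rfl, rfl, rfl, rfl, rfl, rfl, rfl, rfl, rfl, rfl, rfl, rfl, rfl, rfl, rfl, rfl, rfl, rfl, rfl, rfl, rfl, rfl, rfl, rfl⟩ := h
  rfl

variable (K) in
/-- The antidiagonal Gram matrix. -/
def J5 : Matrix (Fin 5) (Fin 5) K :=
  !![0, 0, 0, 0, 1; 0, 0, 0, 1, 0; 0, 0, 1, 0, 0; 0, 1, 0, 0, 0; 1, 0, 0, 0, 0]

variable (K) in
/-- The special unitary group of the antidiagonal form. -/
def SJ : Subgroup (SpecialLinearGroup (Fin 5) K) where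
  carrier := {g | g.1ᴴ * J5 K * g.1 = J5 K}
  one_mem' := by simp
  mul_mem' := fun {g h} hg hh => by
    have hg : g.1ᴴ * J5 K * g.1 = J5 K := hg
    have hh : h.1ᴴ * J5 K * h.1 = J5 K := hh
    change (g.1 * h.1)ᴴ * J5 K * (g.1 * h.1) = J5 K
    calc _ = h.1ᴴ * (g.1ᴴ * J5 K * g.1) * h.1 := by simp only [conjTranspose_mul, Matrix.mul_assoc]
      _ = _ := by rw [hg, hh]
  inv_mem' := fun {g} hg => by
    have hg : g.1ᴴ * J5 K * g.1 = J5 K := hg
    have e : g.1 * (g⁻¹).1 = 1 := congrArg Subtype.val (mul_inv_cancel g)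
    change (g⁻¹).1ᴴ * J5 K * (g⁻¹).1 = J5 K
    calc _ = (g⁻¹).1ᴴ * (g.1ᴴ * J5 K * g.1) * (g⁻¹).1 := by rw [hg]
      _ = (g.1 * (g⁻¹).1)ᴴ * J5 K * (g.1 * (g⁻¹).1) := by
        simp only [conjTranspose_mul, Matrix.mul_assoc]
      _ = _ := by rw [e]; simp

theorem mem_SJ {g : SpecialLinearGroup (Fin 5) K} : g ∈ SJ K ↔ g.1ᴴ * J5 K * g.1 = J5 K := Iff.rfl

/-- The matrix of an element of `U K`. -/
def mat (g : U K) : Matrix (Fin 5) (Fin 5) K :=
  !![1, g.t, g.y1, g.s, g.x1 - g.s * star g.t;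
    0, 1, g.y2, g.x2, -star g.s - g.y2 * star g.y1 - g.x2 * star g.t;
    0, 0, 1, -star g.y2, -star g.y1 + star g.y2 * star g.t;
    0, 0, 0, 1, -star g.t;
    0, 0, 0, 0, 1]

theorem det_mat (g : U K) : (mat g).det = 1 := by
  rw [det_of_isUpperTriangular]
  · rw [Fin.prod_univ_five]
    exact (by simp : (1 : K) * 1 * 1 * 1 * 1 = 1)
  · intro i j h
    fin_cases i <;> fin_cases j <;> first | rfl | exact absurd h (by decide)

theorem mat_mul (g h : U K) : mat (g * h) = mat g * mat h := by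
  rw [mat, mat, mat, mul_five]
  refine ext_five ?_
  simp only [mul_t, mul_y1, mul_y2, mul_x1, mul_s, mul_x2, star_add, star_sub, star_mul', star_star,
    h.h2]
  refine ⟨?_, ?_, ?_, ?_, ?_, ?_, ?_, ?_, ?_, ?_, ?_, ?_, ?_, ?_, ?_, ?_, ?_, ?_, ?_, ?_, ?_, ?_, ?_, ?_, ?_⟩ <;> ring

theorem mat_unitary (g : U K) : (mat g)ᴴ * J5 K * mat g = J5 K := by
  rw [mat, J5, ct_five, mul_five, mul_five]
  refine ext_five ?_
  simp only [star_add, star_sub, star_neg, star_mul', star_star, star_zero, star_one, g.h1, g.h2]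
  refine ⟨?_, ?_, ?_, ?_, ?_, ?_, ?_, ?_, ?_, ?_, ?_, ?_, ?_, ?_, ?_, ?_, ?_, ?_, ?_, ?_, ?_, ?_, ?_, ?_, ?_⟩ <;> ring

/-- The embedding of `U K` into the special unitary group. -/
def emb : U K →* SJ K := MonoidHom.mk' (fun g => ⟨⟨mat g, det_mat g⟩, mat_unitary g⟩)
  fun g h => Subtype.ext (Subtype.ext (mat_mul g h))

theorem coe_emb (g : U K) : (emb g).1.1 = mat g := rfl

theorem emb_injective : Function.Injective (emb : U K →* SJ K) := fun g h e => by
  have e : ∀ i j, mat g i j = mat h i j := fun i j => by rw [← coe_emb, e, coe_emb]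
  have h1 : g.t = h.t := e 0 1
  have h2 : g.s = h.s := e 0 3
  have h3 : g.x1 - g.s * star g.t = h.x1 - h.s * star h.t := e 0 4
  exact U.ext h1 (e 0 2) (e 1 2) (by rw [h1, h2] at h3; linear_combination h3) h2 (e 1 3)

end Cfsg.Lib.U5F
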