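import Cfsg.Agent.U5F.B1
import Cfsg.Agent.U5F.Ess

/-! The image of the second centre under `Aut_F(Q₁)` is a trivial intersection set. -/

set_option autoImplicit false
set_option linter.unusedSectionVars false

namespace Cfsg.Lib.U5F

open Cfsg Cfsg.FusionSystem Subgroup Equiv Cfsg.Lib.Fus

universe u

variable {K : Type u} [Field K] [StarRing K] [Finite K] [UF K] {p : ℕ} [Fact p.Prime] [CharP K p]
  {F : FusionSystem (⊤ : Subgroup (U K))} {f : Perm (U K)}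

namespace TI

variable (K) in
/-- The stabiliser of the second centre. -/
def MM : Subgroup (MulAut (Q1 K)) where
  carrier := {α | ∀ z ∈ Z2 K, pext _ α z ∈ Z2 K}
  one_mem' z hz := by rwa [map_one]
  mul_mem' ha hb z hz := by rw [map_mul]; exact ha _ (hb z hz)
  inv_mem' ha z hz := by rw [map_inv]; exact Perm.perm_symm_on_of_perm_on_finite ha hz

theorem Z2_le : Z2 K ≤ Q1 K := Z2_le_D1.trans D1_le_Q1

theorem pext_Z1 (α : MulAut (Q1 K)) {z : U K} (hz : z ∈ Z1 K) : pext _ α z ∈ Z1 K :=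
  mem_Z1_iff'.2 fun g hg => by
    have h1 : (pext _ α)⁻¹ g ∈ Q1 K := (pext_mem_iff α _).1 (by rwa [perm_apply_inv])
    have h2 := Z2_le (Z1_le_Z2 hz)
    rw [← perm_apply_inv (pext _ α) g, ← mulOn_pext α _ h1 _ h2, ← mulOn_pext α _ h2 _ h1,
      comm_Z1 _ hz]

/-- The stabiliser of a coset of the centre. -/
def YY {x : U K} (hx : x ∈ Q1 K) : Subgroup (MulAut (Q1 K)) where
  carrier := {α | x⁻¹ * pext _ α x ∈ Z1 K}
  one_mem' := by simp [one_mem]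
  mul_mem' {a b} ha hb := by
    have h1 : pext _ (a * b) x = pext _ a x * pext _ a (x⁻¹ * pext _ b x) := by
      rw [← mulOn_pext a _ hx _ (Z2_le (Z1_le_Z2 hb)), mul_inv_cancel_left, map_mul, Perm.mul_apply]
    change x⁻¹ * pext _ (a * b) x ∈ Z1 K
    rw [h1, ← mul_assoc]
    exact mul_mem ha (pext_Z1 a hb)
  inv_mem' {a} ha := by
    have h1 : x = pext _ a⁻¹ x * pext _ a⁻¹ (x⁻¹ * pext _ a x) := by
      rw [← mulOn_pext _ _ hx _ (Z2_le (Z1_le_Z2 ha)), mul_inv_cancel_left, map_inv, perm_inv_apply]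
    change x⁻¹ * pext _ a⁻¹ x ∈ Z1 K
    rw [← inv_mem_iff, mul_inv_rev, inv_inv, inv_mul_eq_of_eq_mul h1]
    exact pext_Z1 _ ha

theorem fn (F : FusionSystem (⊤ : Subgroup (U K))) : F.IsFullyNormalized (Q1 K) :=
  isFullyNormalized_iff_piso.2 ⟨le_top, fun _ _ _ => card_le_card_of_le fun g _ =>
    ⟨mem_top g, (normalizer_eq_top _).ge (mem_top g)⟩⟩

theorem cen : centralizer (Q1 K : Set (U K)) ≤ Q1 K := fun _ hg =>
  Z2_le (Z1_le_Z2 (mem_Z1_iff'.2 hg))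

theorem T_le : autInducedBy ⊤ (Q1 K) ≤ MM K := fun α hα z hz => by
  obtain ⟨s, -, h⟩ := mem_autInducedBy_pext.1 hα
  rw [h z (Z2_le hz)]
  exact Normal.conj_mem inferInstance z hz s

theorem p3 {φ : Perm (K × K × K)} (e : ∀ g ∈ Q1 K, pi3 (f g) = φ (pi3 g))
    (h : ∀ z ∈ Z2 K, f z ∈ Z2 K) : P3 φ := fun c => by
  have h1 := h (tEl 0 c) ⟨rfl, rfl, rfl, rfl⟩
  rw [show φ (0, 0, c) = pi3 (f (tEl 0 c)) from (e _ (tEl_mem 0 c)).symm]
  exact ⟨h1.1, h1.2.1⟩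

theorem se (hF : F.IsSaturated p) (hs : Std F) : ∀ g ∈ F.autGroup (Q1 K),
    ∀ t ∈ autInducedBy ⊤ (Q1 K), t ∉ Inn (Q1 K) → g * t * g⁻¹ ∈ MM K → g ∈ MM K := by
  intro g hg t ht ht' hM
  have hT := sat_sylIn (isP_top p) hF (fn F)
  have h1 : g * t * g⁻¹ ∈ F.autGroup (Q1 K) := mul_mem (mul_mem hg (hT.le ht)) (inv_mem hg)
  have h2 := piso_pext_of_mem le_top h1
  obtain ⟨φ, -, e⟩ := exists_X3 h2
  obtain ⟨k, hk, e'⟩ := ext1 hF h2 e (p3 e hM)
  obtain ⟨j, hj⟩ := hT.pgroup ⟨t, ht⟩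
  have h3 : g * t * g⁻¹ ∈ autInducedBy ⊤ (Q1 K) := by
    refine hT.le_of_normalizes (zpowers_le.2 h1) (isPGroup_zpowers_of_pow (p := p) (j := j) (by
      rw [conj_pow, show t ^ p ^ j = 1 from congrArg Subtype.val hj]; simp))
      (zpowers_le.2 (mem_normalizer_fintype fun τ hτ => ?_)) (mem_zpowers _)
    generalize g * t * g⁻¹ = α at e'
    obtain ⟨s, -, h⟩ := mem_autInducedBy_pext.1 hτ
    refine mem_autInducedBy_pext.2 ⟨k s, mem_top _, fun x hx => ?_⟩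
    have h4 : (pext _ α)⁻¹ x ∈ Q1 K := (pext_mem_iff α _).1 (by rwa [perm_apply_inv])
    rw [map_mul, map_mul, map_inv, Perm.mul_apply, Perm.mul_apply, h _ h4,
      e' _ (Normal.conj_mem inferInstance _ h4 s), hk.map_conj (mem_top _) (mem_top _), ← e' _ h4,
      perm_apply_inv]
  obtain ⟨P, g', hP, hg', e2⟩ := (extendable_iff_of_isCentric (isP_top p) hF
    (isCentric_of_isFullyCentralized (sat_centralized (isP_top p) hF (fn F))
      (inf_le_right.trans cen)) hg).2 ⟨t, ht, ht', h3⟩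
  obtain ⟨k', hk', e3⟩ := ext_of_lt hF hs (Or.inl rfl) hP hg'
  obtain ⟨c, a, b, σ, hσ, -, -, e4⟩ := hs k' hk'
  intro z hz
  rw [← e2 z (Z2_le hz), e3 z (hP.le (Z2_le hz)), e4]
  exact Normal.conj_mem inferInstance _ (mem_Z2.2 ⟨by simp [hz.1], by simp [hz.2.1],
    by simp [hz.2.2.1], by simp [hz.2.2.2]⟩) c

end TI

open TI in
theorem ti3 (hF : F.IsSaturated p) (hs : Std F) :
    ∀ g ∈ X3 F, P3 g ∨ ∀ c, c ≠ 0 → (g (0, 0, c)).1 ≠ 0 := by
  rintro φ ⟨f, hf, e⟩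
  refine or_iff_not_imp_right.2 fun h => ?_
  obtain ⟨c, hc, h⟩ : ∃ c, c ≠ 0 ∧ (φ (0, 0, c)).1 = 0 := by simpa using h
  have hx : tEl 0 c ∈ Z2 K := ⟨rfl, rfl, rfl, rfl⟩
  have h0 : f (tEl 0 c) ∈ Q2 K := (congrArg Prod.fst (e _ (tEl_mem 0 c))).trans h
  have hT := sat_sylIn (isP_top p) hF (fn F)
  have h1 : autInducedBy ⊤ (Q1 K) ≤ F.autGroup (Q1 K) ⊓ YY (tEl_mem 0 c) := fun α hα =>
    ⟨hT.le hα, by
      obtain ⟨s, -, h⟩ := mem_autInducedBy_pext.1 hα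
      change _ * _ ∈ Z1 K
      rw [h _ (tEl_mem 0 c)]
      exact cm_Z2_Z1 s hx⟩
  obtain ⟨d, hd, hd'⟩ := exists_skew (K := K)
  have ha : aEl 0 0 d (by simp) hd' ∉ Q1 K := fun h => hd h.2
  have h2 : F.autGroup (Q1 K) ⊓ YY (tEl_mem 0 c) ≤ MM K := by
    by_contra h2
    obtain ⟨L, hL, h3⟩ := SEm.exists_loc (isP p) cen (fun e => ha (e.ge (mem_top _)))
      ⟨hT.mono h1 inf_le_left, T_le, h2, fun g hg => se hF hs g hg.1⟩
    refine star1 h3 hx (fun h => hc h.2.2.2.1) (essIa h3 ?_) ?_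
    · rintro _ ⟨α, -, rfl⟩ z hz
      exact pext_Z1 α hz
    · rintro _ ⟨α, hα, rfl⟩
      exact (hL hα).2
  have hn : aEl 0 0 d (by simp) hd' ∈ normalizerIn ⊤ (Q1 K) :=
    ⟨mem_top _, (normalizer_eq_top _).ge (mem_top _)⟩
  have ht := conjAut_mem_autInducedBy (mem_top _) hn.2
  have hi := (F.autGroup _).inv_mem hf.aut_mem
  have h3 := se hF hs _ hi _ ht
    (mt (conjAut_mem_inn_iff (inf_le_right.trans cen) le_top hn).1 ha)
    (h2 ⟨mul_mem (mul_mem hi (hT.le ht)) ((F.autGroup _).inv_mem hi), by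
      change _ * _ ∈ Z1 K
      rw [inv_inv, map_mul, map_mul, map_inv, Perm.mul_apply, Perm.mul_apply,
        pext_conjAut _ ((pext_mem_iff _ _).2 (tEl_mem 0 c)), hf.pext_aut (tEl_mem 0 c),
        ← comm_A h0 (aEl_mem ..), mul_inv_cancel_right, ← hf.pext_aut (tEl_mem 0 c),
        perm_inv_apply, inv_mul_cancel]
      exact one_mem _⟩)
  exact p3 e fun z hz => hf.pext_aut (Z2_le hz) ▸ (inv_mem_iff.1 h3) z hz

end Cfsg.Lib.U5F
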